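import Groth.Prelude.Def_GrLC
import Groth.Agent.H4Gr.Basic

/-!
# Graded algebras as graded rings
-/

set_option autoImplicit false
set_option linter.unusedVariables false

universe u

namespace Groth.Agent.H4KS

variable {k : Type u} [CommRing k] {R : Type u} [CommRing R] [Algebra k R] (𝒜 : ℤ → Submodule k R) [inst : GradedAlgebra 𝒜]

/-- The pieces of a graded algebra as additive subgroups. -/
def addGr (n : ℤ) : AddSubgroup R := (𝒜 n).toAddSubgroup

instance : GradedRing (addGr 𝒜) where
  one_mem := inst.one_mem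
  mul_mem := fun i j gi gj hi hj => inst.mul_mem hi hj
  decompose' := inst.decompose'
  left_inv := inst.left_inv
  right_inv := inst.right_inv

/-- A homogeneous ideal for the pieces as additive subgroups. -/
def idealA (a : HomogeneousIdeal 𝒜) : HomogeneousIdeal (addGr 𝒜) := ⟨a.toIdeal, fun i r hr => a.isHomogeneous i hr⟩

section Mod

variable {M : Type u} [AddCommGroup M] [Module R M] (ℳ : ℤ → AddSubgroup M) [DirectSum.Decomposition ℳ]

instance [h : SetLike.GradedSMul 𝒜 ℳ] : SetLike.GradedSMul (addGr 𝒜) ℳ :=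
  ⟨fun {i j a b} ha hb => h.smul_mem ha hb⟩

end Mod

/-- A module over the graded ring as one over the graded algebra. -/
instance instGradedSMulGMod (X : GrLC.GMod.{u} (addGr 𝒜)) : SetLike.GradedSMul 𝒜 X.gr :=
  ⟨fun {i j a b} ha hb => SetLike.GradedSMul.smul_mem (A := addGr 𝒜) (B := X.gr) ha hb⟩

/-- Every module over an algebra is a vector space over the ground ring. -/
instance instKModule (X : GrLC.GMod.{u} (addGr 𝒜)) : Module k X.carrier :=
  Module.compHom X.carrier (algebraMap k R)

instance instKTower (X : GrLC.GMod.{u} (addGr 𝒜)) : IsScalarTower k R X.carrier :=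
  IsScalarTower.of_algebraMap_smul fun _ _ => rfl

/-- Change of the type of the pieces. -/
def toA (X : GrLC.GMod.{u} 𝒜) : GrLC.GMod.{u} (addGr 𝒜) :=
  { carrier := X.carrier, gr := X.gr, gsmul := ⟨fun {i j a b} ha hb => SetLike.GradedSMul.smul_mem (A := 𝒜) ha hb⟩ }

/-- Change of the type of the pieces. -/
def fromA (X : GrLC.GMod.{u} (addGr 𝒜)) : GrLC.GMod.{u} 𝒜 :=
  { carrier := X.carrier, gr := X.gr, gsmul := ⟨fun {i j a b} ha hb => SetLike.GradedSMul.smul_mem (A := addGr 𝒜) ha hb⟩ }

variable {M : Type u} [AddCommGroup M] [Module R M] (ℳ : ℤ → AddSubgroup M) [DirectSum.Decomposition ℳ]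
  [SetLike.GradedSMul 𝒜 ℳ]

theorem starInj_iff : GrLC.IsStarInj (addGr 𝒜) ℳ ↔ GrLC.IsStarInj 𝒜 ℳ := by
  constructor
  · intro h X Y f hf hfi g hg; exact h (toA 𝒜 X) (toA 𝒜 Y) f hf hfi g hg
  · intro h X Y f hf hfi g hg; exact h (fromA 𝒜 X) (fromA 𝒜 Y) f hf hfi g hg

/-- A resolution over the graded ring of additive subgroups. -/
def resA (E : GrLC.StarInjRes 𝒜 ℳ) : GrLC.StarInjRes (addGr 𝒜) ℳ :=
  { X := fun n => toA 𝒜 (E.X n), d := E.d, ε := E.ε, d_grHom := E.d_grHom, ε_grHom := E.ε_grHom,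
    ε_injective := E.ε_injective, exact_zero := E.exact_zero, exact_succ := E.exact_succ,
    starInj := fun n => (starInj_iff 𝒜 (E.X n).gr).2 (E.starInj n) }

end Groth.Agent.H4KS
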