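import Groth.Agent.H4KS.Kunneth
import Mathlib.LinearAlgebra.FiniteDimensional.Lemmas

/-!
# The kernel of a surjection out of an acyclic differential space
-/

set_option autoImplicit false
set_option linter.unusedSectionVars false

universe u

namespace Groth.Agent.H4KS

variable {k : Type u} [Field k] {V W : Type u} [AddCommGroup V] [Module k V] [AddCommGroup W] [Module k W]

/-- Cocycles of degree `n` in a subcomplex. -/
def zs (e : ℕ → V →ₗ[k] V) (d : V →ₗ[k] V) (K : Submodule k V) (n : ℕ) : Submodule k V := K ⊓ zc e d n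

/-- Coboundaries of degree `n` in a subcomplex. -/
def bs (e : ℕ → V →ₗ[k] V) (d : V →ₗ[k] V) (K : Submodule k V) (n : ℕ) : Submodule k V :=
  LinearMap.range (e n) ⊓ K.map d

/-- Cohomology of a subcomplex. -/
abbrev cohSub (e : ℕ → V →ₗ[k] V) (d : V →ₗ[k] V) (K : Submodule k V) (n : ℕ) : Type u :=
  ↥(zs e d K n) ⧸ (bs e d K n).comap (zs e d K n).subtype

variable {e : ℕ → V →ₗ[k] V} {d : V →ₗ[k] V} (G : IsGC e d)
  {eW : ℕ → W →ₗ[k] W} {dW : W →ₗ[k] W} (GW : IsGC eW dW)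
  {P : V →ₗ[k] W} (hP : Function.Surjective P) (hPe : ∀ a x, P (e a x) = eW a (P x))
  (hPd : ∀ x, P (d x) = dW (P x))
  (hinj : ∀ x ∈ zc e d 0, P x = 0 → x = 0) (hac : ∀ n, ∀ x ∈ zc e d (n + 1), x ∈ LinearMap.range d)

include G GW hP hPe hPd in
/-- The connecting map. -/
theorem exists_connecting (n : ℕ) :
    ∃ δ : zc eW dW n →ₗ[k] cohSub e d (LinearMap.ker P) (n + 1),
      ∀ (z : zc eW dW n) (w : V), e n w = w → P w = z → ∀ x : zs e d (LinearMap.ker P) (n + 1),
        (x : V) = d w → δ z = Submodule.Quotient.mk x := by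
  obtain ⟨s, hs⟩ := P.exists_rightInverse_of_surjective (LinearMap.range_eq_top.2 hP)
  have hs' : ∀ z, P (s z) = z := fun z => LinearMap.congr_fun hs z
  let f : zc eW dW n →ₗ[k] zs e d (LinearMap.ker P) (n + 1) :=
    (d ∘ₗ e n ∘ₗ s ∘ₗ (zc eW dW n).subtype).codRestrict _ fun z =>
      ⟨by rw [SetLike.mem_coe, LinearMap.mem_ker, LinearMap.comp_apply, LinearMap.comp_apply, hPd, hPe]
          show dW (eW n (P (s (z : W)))) = 0
          rw [hs', GW.e_of_mem z.2.1]
          exact z.2.2,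
        ⟨⟨d (s (z : W)), (G.de n (s (z : W))).symm⟩, G.dd _⟩⟩
  refine ⟨Submodule.mkQ _ ∘ₗ f, fun z w hw hPw x hx => ?_⟩
  refine (Submodule.Quotient.eq _).2 ⟨?_, e n (s z) - w, ?_, ?_⟩
  · exact sub_mem (f z).2.2.1 x.2.2.1
  · show P (e n (s z) - w) = 0
    rw [map_sub, hPe, hs', GW.e_of_mem z.2.1, hPw, sub_self]
  · rw [map_sub, ← hx]; rfl

include G GW hP hPe hPd hinj hac in
/-- Cohomology of the kernel of a surjection out of a resolution. -/
theorem coh_ker :
    Subsingleton (cohSub e d (LinearMap.ker P) 0) ∧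
    ((FiniteDimensional k (zc eW dW 0) ∨
        (FiniteDimensional k (zc e d 0) ∧ FiniteDimensional k (cohSub e d (LinearMap.ker P) 1))) →
      FiniteDimensional k (zc eW dW 0) ∧ FiniteDimensional k (cohSub e d (LinearMap.ker P) 1) ∧
      Module.finrank k (cohSub e d (LinearMap.ker P) 1) + Module.finrank k (zc e d 0) =
        Module.finrank k (zc eW dW 0)) ∧
    (∀ n, Nonempty (coh eW dW (n + 1) ≃ₗ[k] cohSub e d (LinearMap.ker P) (n + 2))) := by
  have hsurj : ∀ n (δ : zc eW dW n →ₗ[k] cohSub e d (LinearMap.ker P) (n + 1)),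
      (∀ (z : zc eW dW n) (w : V), e n w = w → P w = z → ∀ x : zs e d (LinearMap.ker P) (n + 1),
        (x : V) = d w → δ z = Submodule.Quotient.mk x) → Function.Surjective δ := by
    intro n δ hδ y
    obtain ⟨x, rfl⟩ := Submodule.Quotient.mk_surjective _ y
    obtain ⟨v, hv⟩ := hac n x x.2.2
    have hv' : d (e n v) = (x : V) := by rw [G.de, hv, G.e_of_mem x.2.2.1]
    have hz : P (e n v) ∈ zc eW dW n :=
      ⟨⟨P v, (hPe n v).symm⟩, by rw [SetLike.mem_coe, LinearMap.mem_ker, ← hPd, hv']; exact x.2.1⟩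
    exact ⟨⟨_, hz⟩, hδ ⟨_, hz⟩ (e n v) (G.idem n v) rfl x hv'.symm⟩
  have hlift : ∀ n (δ : zc eW dW n →ₗ[k] cohSub e d (LinearMap.ker P) (n + 1)),
      (∀ (z : zc eW dW n) (w : V), e n w = w → P w = z → ∀ x : zs e d (LinearMap.ker P) (n + 1),
        (x : V) = d w → δ z = Submodule.Quotient.mk x) →
      ∀ z, δ z = 0 ↔ ∃ w ∈ zc e d n, P w = (z : W) := by
    intro n δ hδ z
    obtain ⟨v, hv⟩ := hP (z : W)
    have hw : P (e n v) = (z : W) := by rw [hPe, hv, GW.e_of_mem z.2.1]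
    have hx : d (e n v) ∈ zs e d (LinearMap.ker P) (n + 1) :=
      ⟨by rw [SetLike.mem_coe, LinearMap.mem_ker, hPd, hw]; exact z.2.2, ⟨d v, (G.de n v).symm⟩, G.dd _⟩
    rw [hδ z (e n v) (G.idem n v) hw ⟨_, hx⟩ rfl, Submodule.Quotient.mk_eq_zero]
    constructor
    · rintro ⟨-, c, hc, hcd⟩
      refine ⟨e n v - e n c, ⟨⟨v - c, map_sub _ _ _⟩, ?_⟩, ?_⟩
      · have hcd' : d c = d (e n v) := hcd
        rw [SetLike.mem_coe, LinearMap.mem_ker, map_sub, G.de n c, hcd', G.e_of_mem hx.2.1, sub_self]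
      · rw [map_sub, hPe n c, LinearMap.mem_ker.1 hc, map_zero, sub_zero, hw]
    · rintro ⟨w, hwz, hwP⟩
      refine ⟨hx.2.1, e n v - w, ?_, ?_⟩
      · show P (e n v - w) = 0
        rw [map_sub, hw, hwP, sub_self]
      · show d (e n v - w) = d (e n v)
        rw [map_sub, LinearMap.mem_ker.1 hwz.2, sub_zero]
  refine ⟨?_, fun hfin => ?_, fun n => ?_⟩
  · refine subsingleton_of_forall_eq 0 fun y => ?_
    obtain ⟨x, rfl⟩ := Submodule.Quotient.mk_surjective _ y
    have h0 : (x : V) = 0 := hinj x x.2.2 x.2.1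
    rw [show x = 0 from Subtype.ext h0]
    exact Submodule.Quotient.mk_zero _
  · obtain ⟨δ, hδ⟩ := exists_connecting G GW hP hPe hPd 0
    let ι : zc e d 0 →ₗ[k] zc eW dW 0 :=
      (P ∘ₗ (zc e d 0).subtype).codRestrict _ fun w =>
        ⟨⟨P w, by rw [← hPe, G.e_of_mem w.2.1]; rfl⟩, by
          show dW (P w) = 0
          rw [← hPd, LinearMap.mem_ker.1 w.2.2, map_zero]⟩
    have hι : Function.Injective ι := (injective_iff_map_eq_zero ι).2 fun w hw =>
      Subtype.ext (hinj w w.2 (congrArg Subtype.val hw))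
    have hker : LinearMap.ker δ = LinearMap.range ι := by
      ext z
      rw [LinearMap.mem_ker, hlift 0 δ hδ]
      exact ⟨fun ⟨w, hw, h⟩ => ⟨⟨w, hw⟩, Subtype.ext h⟩, fun ⟨w, hw⟩ => ⟨w, w.2, congrArg Subtype.val hw⟩⟩
    have hs := hsurj 0 δ hδ
    haveI : FiniteDimensional k (zc eW dW 0) := by
      rcases hfin with h | ⟨h1, h2⟩
      · exact h
      · haveI : FiniteDimensional k (LinearMap.ker δ) := by rw [hker]; infer_instance
        haveI : FiniteDimensional k (zc eW dW 0 ⧸ LinearMap.ker δ) :=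
          Module.Finite.equiv (δ.quotKerEquivOfSurjective hs).symm
        exact Module.Finite.of_submodule_quotient (LinearMap.ker δ)
    haveI := Module.Finite.of_surjective δ hs
    refine ⟨inferInstance, inferInstance, ?_⟩
    have h := δ.finrank_range_add_finrank_ker
    rwa [LinearMap.range_eq_top.2 hs, finrank_top, hker, LinearMap.finrank_range_of_inj hι] at h
  · obtain ⟨δ, hδ⟩ := exists_connecting G GW hP hPe hPd (n + 1)
    have hker : LinearMap.ker δ = (bc eW dW (n + 1)).comap (zc eW dW (n + 1)).subtype := by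
      ext z
      rw [LinearMap.mem_ker, hlift (n + 1) δ hδ]
      constructor
      · rintro ⟨w, hw, hwP⟩
        obtain ⟨v, rfl⟩ := hac n w hw
        exact ⟨z.2.1, P v, by rw [← hPd, hwP]; rfl⟩
      · rintro ⟨-, u, hu⟩
        obtain ⟨v, rfl⟩ := hP u
        refine ⟨d (e n v), ⟨⟨d v, (G.de n v).symm⟩, G.dd _⟩, ?_⟩
        rw [G.de, hPe, hPd, hu]
        exact GW.e_of_mem z.2.1
    exact ⟨(Submodule.quotEquivOfEq _ _ hker.symm).trans (δ.quotKerEquivOfSurjective (hsurj (n + 1) δ hδ))⟩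

end Groth.Agent.H4KS
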