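import Groth.Agent.H4KS.Seg
import Mathlib.LinearAlgebra.TensorProduct.RightExactness
import Mathlib.RingTheory.Flat.Basic
import Mathlib.LinearAlgebra.TensorProduct.Pi

/-!
# Torsion of a Segre product
-/

set_option autoImplicit false
set_option linter.unusedSectionVars false

universe u

open DirectSum
open scoped TensorProduct

namespace Groth.Agent.H4KS

variable {k : Type u} [Field k] {R : Type u} [CommRing R] [Algebra k R] {𝒜 : ℤ → Submodule k R} [GradedAlgebra 𝒜]
  {S : Type u} [CommRing S] [Algebra k S] {ℬ : ℤ → Submodule k S} [GradedAlgebra ℬ]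
  {T : Type u} [CommRing T] [Algebra k T] {𝒯 : ℤ → Submodule k T} [GradedAlgebra 𝒯]
  (ψ : T →ₐ[k] R ⊗[k] S) [hS : SegreHom ψ 𝒜 ℬ 𝒯]

/-- The quotient by torsion, over the ground field. -/
noncomputable def gamQ (aR : Ideal R) (X : GrLC.GMod.{u} (addGr 𝒜)) :
    X.carrier →ₗ[k] X.carrier ⧸ GrLC.gam aR X.carrier :=
  (GrLC.gam aR X.carrier).mkQ.restrictScalars k

theorem gamQ_eq_zero_iff (aR : Ideal R) (X : GrLC.GMod.{u} (addGr 𝒜)) (x : X.carrier) :
    gamQ aR X x = 0 ↔ x ∈ GrLC.gam aR X.carrier :=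
  Submodule.Quotient.mk_eq_zero _

theorem eq_zero_of_forall_pow_smul {aR : Ideal R} {M : Type u} [AddCommGroup M] [Module R M] {r : ℕ} {f : Fin r → R}
    [IsNoetherianRing R] (hrad : aR ≤ (Ideal.span (Set.range f)).radical) (N : ℕ)
    {x : M ⧸ GrLC.gam aR M} (h : ∀ i, f i ^ N • x = 0) : x = 0 := by
  obtain ⟨x, rfl⟩ := Submodule.Quotient.mk_surjective _ x
  refine (Submodule.Quotient.mk_eq_zero _).2 ?_
  obtain ⟨e, he⟩ := Ideal.exists_pow_le_of_le_radical_of_fg hrad (IsNoetherian.noetherian aR)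
  have h1 : ∀ i, ∃ n, ∀ c ∈ aR ^ n, c • f i ^ N • x = 0 := fun i => by
    have := h i
    rw [← Submodule.Quotient.mk_smul] at this
    exact (Submodule.Quotient.mk_eq_zero _).1 this
  choose n hn using h1
  let K : Ideal R := LinearMap.ker (LinearMap.toSpanSingleton R M x)
  have hK : ∀ i, ∀ c ∈ aR ^ n i, c * f i ^ N ∈ K := fun i c hc => by
    rw [LinearMap.mem_ker, LinearMap.toSpanSingleton_apply, mul_smul]; exact hn i c hc
  let J : Ideal R := K.colon (↑(aR ^ (Finset.univ.sup n)) : Set R)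
  have hJ : Ideal.span (Set.range fun i => f i ^ N) ≤ J := Ideal.span_le.2 (by
    rintro _ ⟨i, rfl⟩
    refine Submodule.mem_colon.2 fun c hc => ?_
    rw [smul_eq_mul, mul_comm]
    exact hK i c (Ideal.pow_le_pow_right (Finset.le_sup (Finset.mem_univ i)) hc))
  have hrad' : aR ≤ (Ideal.span (Set.range fun i => f i ^ N)).radical := by
    refine hrad.trans (Ideal.radical_le_radical_iff.2 (Ideal.span_le.2 ?_))
    rintro _ ⟨i, rfl⟩
    exact ⟨N, Ideal.subset_span ⟨i, rfl⟩⟩
  obtain ⟨e', he'⟩ := Ideal.exists_pow_le_of_le_radical_of_fg hrad' (IsNoetherian.noetherian aR)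
  refine ⟨e' + Finset.univ.sup n, fun c hc => ?_⟩
  suffices aR ^ e' * aR ^ (Finset.univ.sup n) ≤ K by
    exact LinearMap.mem_ker.1 (this (by rwa [← pow_add]))
  exact Ideal.mul_le.2 fun a ha b hb => Submodule.mem_colon.1 ((hJ.trans le_rfl) (he' ha)) b hb

variable (aR : Ideal R) (haR : ∀ n : ℤ, 0 < n → ∀ x ∈ 𝒜 n, x ∈ aR) (aS : Ideal S)
  (haS : ∀ n : ℤ, 0 < n → ∀ x ∈ ℬ n, x ∈ aS) (aT : Ideal T)
  (haT : aT = Ideal.span (⋃ n ∈ Set.Ioi (0 : ℤ), (𝒯 n : Set T)))
variable [IsNoetherianRing R] [IsNoetherianRing S] (P : Params (𝒜 := 𝒜) (ℬ := ℬ) aR aS)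
variable (X : GrLC.GMod.{u} (addGr 𝒜)) (Y : GrLC.GMod.{u} (addGr ℬ))

include haR haS haT hS P in
/-- Torsion of a Segre product is the kernel of the map to the tensor product of torsion-free quotients. -/
theorem mem_gam_seg (z : (Seg ψ X Y).carrier) :
    z ∈ GrLC.gam aT (Seg ψ X Y).carrier ↔
      TensorProduct.map (gamQ aR X) (gamQ aS Y) (segVal ψ X Y z) = 0 := by
  constructor
  · rintro ⟨N, hN⟩
    let QX := X.carrier ⧸ GrLC.gam aR X.carrier
    let QY := Y.carrier ⧸ GrLC.gam aS Y.carrier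
    let ΦA : QX →ₗ[k] (Fin P.r → QX) := LinearMap.pi fun i => DistribSMul.toLinearMap k QX (P.f i ^ N)
    let ΦB : QY →ₗ[k] (Fin P.s → QY) := LinearMap.pi fun j => DistribSMul.toLinearMap k QY (P.g j ^ N)
    have hA : Function.Injective ΦA := (injective_iff_map_eq_zero ΦA).2 fun x hx =>
      eq_zero_of_forall_pow_smul P.radR N fun i => congrFun hx i
    have hB : Function.Injective ΦB := (injective_iff_map_eq_zero ΦB).2 fun x hx =>
      eq_zero_of_forall_pow_smul P.radS N fun i => congrFun hx i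
    refine TensorProduct.map_injective_of_flat_flat ΦA ΦB hA hB ?_
    rw [map_zero]
    set v := TensorProduct.map (gamQ aR X) (gamQ aS Y) (segVal ψ X Y z) with hv
    have hid : ∀ w : (Fin P.r → QX) ⊗[k] (Fin P.s → QY),
        w = ∑ i, ∑ j, TensorProduct.map (LinearMap.single k (fun _ => QX) i ∘ₗ LinearMap.proj i)
          (LinearMap.single k (fun _ => QY) j ∘ₗ LinearMap.proj j) w := fun w => by
      induction w using TensorProduct.induction_on with
      | zero => simp
      | add a b ha hb => simp only [map_add, Finset.sum_add_distrib]; rw [← ha, ← hb]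
      | tmul a b =>
        simp only [TensorProduct.map_tmul, LinearMap.comp_apply, LinearMap.proj_apply, LinearMap.coe_single,
          ← TensorProduct.tmul_sum, ← TensorProduct.sum_tmul, Finset.univ_sum_single]
    rw [hid (TensorProduct.map ΦA ΦB v)]
    refine Finset.sum_eq_zero fun i _ => Finset.sum_eq_zero fun j _ => ?_
    obtain ⟨t, ht, -, hψt⟩ := P.exists_mem ψ aR aS aT haT i j
    have h0 : GrSeg.act k R S X.carrier Y.carrier ((P.f i ^ N) ⊗ₜ[k] (P.g j ^ N)) (segVal ψ X Y z) = 0 := by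
      rw [show (P.f i ^ N) ⊗ₜ[k] (P.g j ^ N) = ψ (t ^ N) by rw [map_pow, hψt, Algebra.TensorProduct.tmul_pow],
        ← segVal_smul, hN _ (Ideal.pow_mem_pow ht N), map_zero]
    have key : ∀ w : X.carrier ⊗[k] Y.carrier,
        TensorProduct.map (LinearMap.single k (fun _ => QX) i ∘ₗ LinearMap.proj i)
          (LinearMap.single k (fun _ => QY) j ∘ₗ LinearMap.proj j)
          (TensorProduct.map ΦA ΦB (TensorProduct.map (gamQ aR X) (gamQ aS Y) w)) =
        TensorProduct.map (LinearMap.single k (fun _ => QX) i) (LinearMap.single k (fun _ => QY) j)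
          (TensorProduct.map (gamQ aR X) (gamQ aS Y)
            (GrSeg.act k R S X.carrier Y.carrier ((P.f i ^ N) ⊗ₜ[k] (P.g j ^ N)) w)) := fun w => by
      induction w using TensorProduct.induction_on with
      | zero => simp only [map_zero]
      | add a b ha hb => simp only [map_add, ha, hb]
      | tmul a b =>
        simp [GrSeg.act_tmul, ΦA, ΦB, gamQ, QX, QY]
    rw [hv, key, h0, map_zero, map_zero]
  · intro h
    have hmk : ∀ w ∈ LinearMap.ker (TensorProduct.map (gamQ aR X) (gamQ aS Y)),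
        ∃ N, ∀ t ∈ aT ^ N, GrSeg.act k R S X.carrier Y.carrier (ψ t) w = 0 := by
      intro w hw
      rw [TensorProduct.map_ker (g := gamQ aR X) (g' := gamQ aS Y) (f := ((GrLC.gam aR X.carrier).subtype.restrictScalars k))
        (f' := ((GrLC.gam aS Y.carrier).subtype.restrictScalars k))
        (LinearMap.exact_subtype_mkQ (GrLC.gam aR X.carrier) :) (Submodule.mkQ_surjective _)
        (LinearMap.exact_subtype_mkQ (GrLC.gam aS Y.carrier) :) (Submodule.mkQ_surjective _)] at hw
      have hadd : ∀ u u' : X.carrier ⊗[k] Y.carrier,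
          (∃ N, ∀ t ∈ aT ^ N, GrSeg.act k R S X.carrier Y.carrier (ψ t) u = 0) →
          (∃ N, ∀ t ∈ aT ^ N, GrSeg.act k R S X.carrier Y.carrier (ψ t) u' = 0) →
          ∃ N, ∀ t ∈ aT ^ N, GrSeg.act k R S X.carrier Y.carrier (ψ t) (u + u') = 0 := by
        rintro u u' ⟨a, ha⟩ ⟨b, hb⟩
        exact ⟨a + b, fun t ht => by
          rw [map_add, ha t (Ideal.pow_le_pow_right (Nat.le_add_right a b) ht),
            hb t (Ideal.pow_le_pow_right (Nat.le_add_left b a) ht), add_zero]⟩
      have hz : ∃ N, ∀ t ∈ aT ^ N, GrSeg.act k R S X.carrier Y.carrier (ψ t) (0 : X.carrier ⊗[k] Y.carrier) = 0 :=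
        ⟨0, fun t _ => map_zero _⟩
      obtain ⟨_, ⟨a, rfl⟩, _, ⟨b, rfl⟩, rfl⟩ := Submodule.mem_sup.1 hw
      clear hw
      refine hadd _ _ ?_ ?_
      · induction a using TensorProduct.induction_on with
        | zero => rw [map_zero]; exact hz
        | add p q hp hq => rw [map_add]; exact hadd _ _ hp hq
        | tmul p q => exact exists_pow_act_eq_zero ψ aR haR aS haS aT haT (.inr q.2)
      · induction b using TensorProduct.induction_on with
        | zero => rw [map_zero]; exact hz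
        | add p q hp hq => rw [map_add]; exact hadd _ _ hp hq
        | tmul p q => exact exists_pow_act_eq_zero ψ aR haR aS haS aT haT (.inl p.2)
    obtain ⟨N, hN⟩ := hmk _ h
    exact ⟨N, fun t ht => segVal_injective ψ X Y ((segVal_smul ψ X Y t z).trans ((hN t ht).trans (map_zero _).symm))⟩

end Groth.Agent.H4KS
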