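import Groth.Agent.H4KS.Sum
import Groth.Agent.H4KS.SES
import Groth.Agent.H4KS.Torsion
import Groth.Agent.H4Gr.LES
import Mathlib.LinearAlgebra.Dimension.Finite

/-!
# One degree of a sum of graded modules
-/

set_option autoImplicit false
set_option linter.unusedSectionVars false

universe u

open DirectSum

namespace Groth.Agent.H4KS

section Generic

variable {k : Type u} [Field k] {V W : Type u} [AddCommGroup V] [Module k V] [AddCommGroup W] [Module k W]
  {e : ℕ → V →ₗ[k] V} {d : V →ₗ[k] V} {eW : ℕ → W →ₗ[k] W} {dW : W →ₗ[k] W}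

theorem IsGC.of_injective (G : IsGC e d) {j : W →ₗ[k] V} (hj : Function.Injective j)
    (he : ∀ a x, j (eW a x) = e a (j x)) (hd : ∀ x, j (dW x) = d (j x)) : IsGC eW dW where
  idem a x := hj (by rw [he, he, G.idem])
  orth a b h x := hj (by rw [he, he, G.orth a b h, map_zero])
  supp x := by
    obtain ⟨N, hN⟩ := G.supp (j x)
    exact ⟨N, hj (by rw [map_sum]; simp only [he, hN])⟩
  de a x := hj (by rw [hd, he, G.de, he, hd])
  dd x := hj (by rw [hd, hd, G.dd, map_zero])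

theorem IsGC.of_surjective (G : IsGC e d) {P : V →ₗ[k] W} (hP : Function.Surjective P)
    (he : ∀ a x, P (e a x) = eW a (P x)) (hd : ∀ x, P (d x) = dW (P x)) : IsGC eW dW where
  idem a y := by obtain ⟨x, rfl⟩ := hP y; rw [← he, ← he, G.idem]
  orth a b h y := by obtain ⟨x, rfl⟩ := hP y; rw [← he, ← he, G.orth a b h, map_zero]
  supp y := by
    obtain ⟨x, rfl⟩ := hP y
    obtain ⟨N, hN⟩ := G.supp x
    exact ⟨N, by simp only [← he, ← map_sum, hN]⟩
  de a y := by obtain ⟨x, rfl⟩ := hP y; rw [← he, ← hd, G.de, he, hd]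
  dd y := by obtain ⟨x, rfl⟩ := hP y; rw [← hd, ← hd, G.dd, map_zero]

/-- A quotient as the image of a surjection of groups. -/
theorem exists_addEquiv_quot {N : Type u} [AddCommGroup N] (f : V →+ N) (hf : Function.Surjective f)
    (p : Submodule k V) (hp : ∀ x, f x = 0 ↔ x ∈ p) :
    ∃ j : (V ⧸ p) ≃+ N, ∀ x, j (Submodule.Quotient.mk x) = f x := by
  let g : V ⧸ p →+ N := QuotientAddGroup.lift p.toAddSubgroup f fun x hx => (hp x).2 hx
  have hg : ∀ x, g (Submodule.Quotient.mk x) = f x := fun x => rfl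
  refine ⟨AddEquiv.ofBijective g ⟨(injective_iff_map_eq_zero g).2 fun y hy => ?_, fun y => ?_⟩, hg⟩
  · obtain ⟨x, rfl⟩ := Submodule.Quotient.mk_surjective p y
    exact (Submodule.Quotient.mk_eq_zero p).2 ((hp x).1 hy)
  · obtain ⟨x, hx⟩ := hf y
    exact ⟨Submodule.Quotient.mk x, hx⟩

/-- Dimensions across a change of fields. -/
theorem finrank_transfer {D : Type u} [CommRing D] {N : Type u} [AddCommGroup N] [Module D N] (i : k → D)
    (hi : Function.Bijective i) (j : V ≃+ N) (hc : ∀ (c : k) (x : V), j (c • x) = i c • j x) :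
    Module.finrank k V = Module.finrank D N ∧ (Module.Finite D N → FiniteDimensional k V) := by
  refine ⟨congrArg Cardinal.toNat (rank_eq_of_equiv_equiv i j hi hc), fun hN => ?_⟩
  obtain ⟨s, hs⟩ := hN.fg_top
  classical
  refine ⟨⟨s.image j.symm, eq_top_iff.2 fun x _ => ?_⟩⟩
  have hx : j x ∈ Submodule.span D (s : Set N) := hs ▸ Submodule.mem_top
  suffices ∀ y ∈ Submodule.span D (s : Set N), j.symm y ∈ Submodule.span k (↑(s.image j.symm) : Set V) by
    simpa using this _ hx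
  intro y hy
  induction hy using Submodule.span_induction with
  | mem y hy => exact Submodule.subset_span (by rw [Finset.coe_image]; exact ⟨y, hy, rfl⟩)
  | zero => rw [map_zero]; exact zero_mem _
  | add a b _ _ ha hb => rw [map_add]; exact add_mem ha hb
  | smul c a _ ha =>
    obtain ⟨c, rfl⟩ := hi.2 c
    rw [show j.symm (i c • a) = c • j.symm a from j.symm_apply_eq.2 (by rw [hc, j.apply_symm_apply])]
    exact Submodule.smul_mem _ c ha

end Generic

section PieceK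

variable {k : Type u} [Field k] {R : Type u} [CommRing R] [Algebra k R] {𝒜 : ℤ → Submodule k R} [GradedAlgebra 𝒜]
  (g : ℤ)

/-- A piece as a subspace. -/
def pieceK (Z : GrLC.GMod.{u} (addGr 𝒜)) : Submodule k Z.carrier where
  carrier := Z.gr g
  add_mem' := add_mem
  zero_mem' := zero_mem _
  smul_mem' c x hx := by
    show algebraMap k R c • x ∈ Z.gr g
    have h := SetLike.GradedSMul.smul_mem (A := addGr 𝒜) (B := Z.gr) (SetLike.algebraMap_mem_graded 𝒜 c) hx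
    rwa [vadd_eq_add, zero_add] at h

variable {Z Z' : GrLC.GMod.{u} (addGr 𝒜)}

/-- A homogeneous map on one degree. -/
noncomputable def grRes (f : Z.carrier →ₗ[R] Z'.carrier) (hf : GrLC.IsGrHom Z.gr Z'.gr f) :
    pieceK g Z →ₗ[k] pieceK g Z' :=
  (f.restrictScalars k).restrict fun x hx => hf g x hx

variable (aR : Ideal R) (Z) in
/-- The torsion part of a piece. -/
def gamK : Submodule k (pieceK g Z) :=
  ((GrLC.gam aR Z.carrier).restrictScalars k).comap (pieceK g Z).subtype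

variable (aR : Ideal R) (Z) in
/-- The piece modulo torsion. -/
abbrev QK : Type u := ↥(pieceK g Z) ⧸ gamK g Z aR

/-- A homogeneous map on one degree modulo torsion. -/
noncomputable def grQ (aR : Ideal R) (f : Z.carrier →ₗ[R] Z'.carrier) (hf : GrLC.IsGrHom Z.gr Z'.gr f) :
    QK g Z aR →ₗ[k] QK g Z' aR :=
  Submodule.mapQ _ _ (grRes g f hf) fun x hx => H4Gr.map_mem_gam (X := Z.carrier) f hx

theorem mkQ_grRes (aR : Ideal R) (f : Z.carrier →ₗ[R] Z'.carrier) (hf : GrLC.IsGrHom Z.gr Z'.gr f)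
    (x : pieceK g Z) : (gamK g Z' aR).mkQ (grRes g f hf x) = grQ g aR f hf ((gamK g Z aR).mkQ x) := rfl

end PieceK

section Single

variable {k : Type u} [Field k] {R : Type u} [CommRing R] [Algebra k R] {𝒜 : ℤ → Submodule k R} [GradedAlgebra 𝒜]
  {M : Type u} [AddCommGroup M] [Module R M] {ℳ : ℤ → AddSubgroup M} [Decomposition ℳ]
  [SetLike.GradedSMul (addGr 𝒜) ℳ] [IsNoetherianRing R] (a : HomogeneousIdeal (addGr 𝒜)) (E : GrLC.StarInjRes (addGr 𝒜) ℳ) (g : ℤ)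

/-- The degree-`g` projections. -/
noncomputable def eA (n : ℕ) : pieceK g (sumX E.X) →ₗ[k] pieceK g (sumX E.X) :=
  grRes g (eX E.X n) (isGrHom_eX E.X n)

/-- The degree-`g` differential. -/
noncomputable def dA : pieceK g (sumX E.X) →ₗ[k] pieceK g (sumX E.X) :=
  grRes g (dX E.X E.d) (isGrHom_dX E.X E.d E.d_grHom)

/-- The degree-`g` sign. -/
noncomputable def sA : pieceK g (sumX E.X) →ₗ[k] pieceK g (sumX E.X) :=
  grRes g (sigX E.X) (isGrHom_sigX E.X)

/-- The projections modulo torsion. -/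
noncomputable def eQ (n : ℕ) : QK g (sumX E.X) a.toIdeal →ₗ[k] QK g (sumX E.X) a.toIdeal :=
  grQ g a.toIdeal (eX E.X n) (isGrHom_eX E.X n)

/-- The differential modulo torsion. -/
noncomputable def dQ : QK g (sumX E.X) a.toIdeal →ₗ[k] QK g (sumX E.X) a.toIdeal :=
  grQ g a.toIdeal (dX E.X E.d) (isGrHom_dX E.X E.d E.d_grHom)

/-- The sign modulo torsion. -/
noncomputable def sQ : QK g (sumX E.X) a.toIdeal →ₗ[k] QK g (sumX E.X) a.toIdeal :=
  grQ g a.toIdeal (sigX E.X) (isGrHom_sigX E.X)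

theorem dd_star (n : ℕ) (x : (E.X n).carrier) : E.d (n + 1) (E.d n x) = 0 :=
  LinearMap.mem_ker.1 ((E.exact_succ n).ge ⟨x, rfl⟩)

theorem isGC_A : IsGC (eA E g) (dA E g) :=
  (isGC_sumX E.X (dd_star E)).of_injective (j := (pieceK g (sumX E.X)).subtype) Subtype.val_injective
    (fun _ _ => rfl) (fun _ => rfl)

theorem sA_eA (n : ℕ) (x : pieceK g (sumX E.X)) : sA E g (eA E g n x) = ((-1 : k) ^ n) • eA E g n x :=
  Subtype.ext (sigK_eK E.X n (x : (sumX E.X).carrier))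

theorem isGC_Q : IsGC (eQ a E g) (dQ a E g) :=
  (isGC_A E g).of_surjective (P := (gamK g (sumX E.X) a.toIdeal).mkQ) (Submodule.mkQ_surjective _)
    (fun _ _ => rfl) (fun _ => rfl)

theorem sQ_eQ (n : ℕ) (y : QK g (sumX E.X) a.toIdeal) : sQ a E g (eQ a E g n y) = ((-1 : k) ^ n) • eQ a E g n y := by
  obtain ⟨x, rfl⟩ := Submodule.mkQ_surjective _ y
  show (gamK g (sumX E.X) a.toIdeal).mkQ (sA E g (eA E g n x)) = ((-1 : k) ^ n) • (gamK g (sumX E.X) a.toIdeal).mkQ _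
  rw [sA_eA, map_smul]
  rfl

theorem mem_zc_A {n : ℕ} {x : pieceK g (sumX E.X)} :
    x ∈ zc (eA E g) (dA E g) n ↔ (x : (sumX E.X).carrier) ∈ zc (eK E.X) (dK E.X E.d) n := by
  constructor
  · rintro ⟨⟨y, rfl⟩, h⟩
    exact ⟨⟨y, rfl⟩, congrArg Subtype.val (LinearMap.mem_ker.1 h)⟩
  · rintro ⟨h1, h2⟩
    exact ⟨⟨x, Subtype.ext ((isGC_sumX E.X (dd_star E)).e_of_mem h1)⟩, Subtype.ext h2⟩

theorem exact_A (n : ℕ) {x : pieceK g (sumX E.X)} (hx : x ∈ zc (eA E g) (dA E g) (n + 1)) :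
    x ∈ LinearMap.range (dA E g) := by
  obtain ⟨v, hv⟩ := exact_succ_sumX E.X E.d E.exact_succ n ((mem_zc_A E g).1 hx)
  refine ⟨⟨H4Gr.proj (sumX E.X).gr g v, H4Gr.proj_mem _ g v⟩, Subtype.ext ?_⟩
  show dX E.X E.d (H4Gr.proj (sumX E.X).gr g v) = _
  rw [H4Gr.map_proj₀ (isGrHom_dX E.X E.d E.d_grHom), show dX E.X E.d v = (x : (sumX E.X).carrier) from hv]
  exact H4Gr.proj_same x.2

theorem exists_eq_aug {x : pieceK g (sumX E.X)} (hx : x ∈ zc (eA E g) (dA E g) 0) :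
    ∃ m ∈ ℳ g, (x : (sumX E.X).carrier) = lofX E.X 0 (E.ε m) := by
  obtain ⟨y, hy, hxy⟩ := (mem_zc_zero E.X E.d).1 ((mem_zc_A E g).1 hx)
  obtain ⟨m, rfl⟩ := E.exact_zero.le hy
  refine ⟨H4Gr.proj ℳ g m, H4Gr.proj_mem _ g m, ?_⟩
  rw [H4Gr.map_proj₀ E.ε_grHom, H4Gr.map_proj₀ (isGrHom_lofX E.X 0), ← hxy]
  exact (H4Gr.proj_same x.2).symm

theorem inj_A (h0 : ∀ m ∈ ℳ g, m ∈ GrLC.gam a.toIdeal M → m = 0) {x : pieceK g (sumX E.X)}
    (hx : x ∈ zc (eA E g) (dA E g) 0) (hPx : (gamK g (sumX E.X) a.toIdeal).mkQ x = 0) : x = 0 := by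
  obtain ⟨m, hm, hxm⟩ := exists_eq_aug E g hx
  obtain ⟨N, hN⟩ : (x : (sumX E.X).carrier) ∈ GrLC.gam a.toIdeal (sumX E.X).carrier :=
    ((Submodule.Quotient.mk_eq_zero (gamK g (sumX E.X) a.toIdeal)).1 hPx :)
  have hm0 : m = 0 := h0 m hm ⟨N, fun r hr => E.ε_injective (by
    have h1 := congrArg (cmpX E.X 0) (hN r hr)
    rw [hxm, map_smul, cmpX_lofX, map_zero] at h1
    rw [map_smul, h1, map_zero])⟩
  exact Subtype.ext (by rw [hxm, hm0, map_zero, map_zero]; rfl)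

/-- Degree zero cocycles are the module. -/
theorem nonempty_zc_zero_equiv :
    Nonempty (pieceK g (GrLC.GMod.of (addGr 𝒜) M ℳ) ≃ₗ[k] zc (eA E g) (dA E g) 0) := by
  let f : (GrLC.GMod.of (addGr 𝒜) M ℳ).carrier →ₗ[R] (sumX E.X).carrier :=
    (lofX E.X 0 ∘ₗ E.ε : M →ₗ[R] (sumX E.X).carrier)
  have hf : GrLC.IsGrHom (GrLC.GMod.of (addGr 𝒜) M ℳ).gr (sumX E.X).gr f :=
    fun i m hm => lofX_mem E.X (E.ε_grHom i m hm)
  have hmem : ∀ m, grRes g f hf m ∈ zc (eA E g) (dA E g) 0 := fun m =>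
    (mem_zc_A E g).2 ((mem_zc_zero E.X E.d).2
      ⟨_, LinearMap.mem_ker.1 (E.exact_zero.ge ⟨(m : pieceK g (GrLC.GMod.of (addGr 𝒜) M ℳ)).1, rfl⟩), rfl⟩)
  refine ⟨LinearEquiv.ofBijective ((grRes g f hf).codRestrict _ hmem) ⟨fun m m' h => ?_, fun x => ?_⟩⟩
  · have h1 : f m = f m' := congrArg (fun z : zc (eA E g) (dA E g) 0 => ((z : pieceK g (sumX E.X)) : (sumX E.X).carrier)) h
    refine Subtype.ext (E.ε_injective ?_)
    have h2 : cmpX E.X 0 (f m) = cmpX E.X 0 (f m') := congrArg _ h1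
    rw [show f m.1 = lofX E.X 0 (E.ε m.1) from rfl, show f m'.1 = lofX E.X 0 (E.ε m'.1) from rfl, cmpX_lofX, cmpX_lofX] at h2
    exact h2
  · obtain ⟨m, hm, hxm⟩ := exists_eq_aug E g x.2
    exact ⟨⟨m, hm⟩, Subtype.ext (Subtype.ext hxm.symm)⟩

theorem mem_zs_A {n : ℕ} {z : pieceK g (sumX E.X)}
    (hz : z ∈ zs (eA E g) (dA E g) (LinearMap.ker (gamK g (sumX E.X) a.toIdeal).mkQ) n) :
    ∃ y, (z : (sumX E.X).carrier) = lofX E.X n y ∧ y ∈ E.cocyc a n ∧ y ∈ (E.X n).gr g := by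
  obtain ⟨h1, h2⟩ := hz
  obtain ⟨h3, h4⟩ := (mem_zc_A E g).1 h2
  obtain ⟨y, hy⟩ := (mem_range_eK E.X).1 h3
  have hy' : cmpX E.X n (z : (sumX E.X).carrier) = y := by rw [hy, cmpX_lofX]
  refine ⟨y, hy, ⟨?_, ?_⟩, ?_⟩
  · rw [← hy']
    exact H4Gr.map_mem_gam _ ((Submodule.Quotient.mk_eq_zero _).1 (LinearMap.mem_ker.1 h1) :)
  · have h5 : dX E.X E.d (z : (sumX E.X).carrier) = 0 := h4
    rw [hy, dX_lofX] at h5
    simpa [cmpX_lofX] using congrArg (cmpX E.X (n + 1)) h5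
  · rw [← hy']; exact isGrHom_cmpX E.X n g _ z.2

theorem mem_zs_of {n : ℕ} {y : (E.X n).carrier} (hy : y ∈ E.cocyc a n) (hyg : y ∈ (E.X n).gr g) :
    (⟨lofX E.X n y, lofX_mem E.X hyg⟩ : pieceK g (sumX E.X)) ∈
      zs (eA E g) (dA E g) (LinearMap.ker (gamK g (sumX E.X) a.toIdeal).mkQ) n := by
  refine ⟨?_, (mem_zc_A E g).2 ⟨(mem_range_eK E.X).2 ⟨y, rfl⟩, ?_⟩⟩
  · exact LinearMap.mem_ker.2 ((Submodule.Quotient.mk_eq_zero _).2
      (H4Gr.map_mem_gam (lofX E.X n) hy.1 : lofX E.X n y ∈ GrLC.gam a.toIdeal (sumX E.X).carrier))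
  · show dX E.X E.d (lofX E.X n y) = 0
    rw [dX_lofX, LinearMap.mem_ker.1 hy.2, map_zero]

/-- Local cohomology in one degree is the cohomology of the torsion subcomplex. -/
theorem exists_cohSub_equiv_Hcomp (n : ℕ) :
    ∃ j : cohSub (eA E g) (dA E g) (LinearMap.ker (gamK g (sumX E.X) a.toIdeal).mkQ) n ≃+ E.Hcomp a n g,
      ∀ (c : k) x (hc : algebraMap k R c ∈ GrLC.deg0 (addGr 𝒜)), j (c • x) = (⟨_, hc⟩ : GrLC.deg0 (addGr 𝒜)) • j x := by
  set K := LinearMap.ker (gamK g (sumX E.X) a.toIdeal).mkQ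
  have hco : ∀ z : zs (eA E g) (dA E g) K n,
      cmpX E.X n ((z : pieceK g (sumX E.X)) : (sumX E.X).carrier) ∈ E.cocyc a n := fun z => by
    obtain ⟨y, hy, hy', -⟩ := mem_zs_A a E g z.2
    rw [hy, cmpX_lofX]; exact hy'
  have hgr : ∀ z : zs (eA E g) (dA E g) K n,
      E.toH a n ⟨_, hco z⟩ ∈ E.Hcomp a n g := fun z =>
    ⟨⟨_, hco z⟩, isGrHom_cmpX E.X n g _ (z : pieceK g (sumX E.X)).2, rfl⟩
  let ν : zs (eA E g) (dA E g) K n →+ E.Hcomp a n g :=
    AddMonoidHom.mk' (fun z => ⟨E.toH a n ⟨_, hco z⟩, hgr z⟩) fun z w => Subtype.ext (by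
      show E.toH a n _ = E.toH a n _ + E.toH a n _
      rw [← map_add]
      exact congrArg _ (Subtype.ext (map_add (cmpX E.X n) _ _)))
  have hν : Function.Surjective ν := by
    rintro ⟨_, w, hw, rfl⟩
    refine ⟨⟨_, mem_zs_of a E g w.2 hw⟩, Subtype.ext ?_⟩
    show E.toH a n _ = E.toH a n w
    exact congrArg _ (Subtype.ext (cmpX_lofX E.X n _))
  have hker : ∀ z, ν z = 0 ↔ z ∈ (bs (eA E g) (dA E g) K n).comap (zs (eA E g) (dA E g) K n).subtype := by
    intro z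
    obtain ⟨y, hy, hyc, hyg⟩ := mem_zs_A a E g z.2
    have hzy : cmpX E.X n ((z : pieceK g (sumX E.X)) : (sumX E.X).carrier) = y := by rw [hy, cmpX_lofX]
    have h0 : ν z = 0 ↔ y ∈ E.cobdy a n := by
      refine Subtype.ext_iff.trans ?_
      show E.toH a n ⟨_, hco z⟩ = 0 ↔ _
      rw [Submodule.mkQ_apply, Submodule.Quotient.mk_eq_zero, Submodule.mem_comap, Submodule.subtype_apply]
      show cmpX E.X n _ ∈ E.cobdy a n ↔ _
      rw [hzy]
    rw [h0, Submodule.mem_comap, Submodule.subtype_apply]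
    cases n with
    | zero =>
      constructor
      · intro h
        have hz0 : (z : pieceK g (sumX E.X)) = 0 := Subtype.ext (by
          rw [hy, (Submodule.mem_bot R).1 h, map_zero]; rfl)
        rw [hz0]; exact zero_mem _
      · rintro ⟨h1, v, -, hv⟩
        have hzero : (z : pieceK g (sumX E.X)) = 0 := by
          rw [← (isGC_A E g).e_of_mem h1, ← hv, (isGC_A E g).e_zero_d]
        have : y = 0 := by
          rw [← hzy, hzero]; exact map_zero _
        rw [this]; exact zero_mem _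
    | succ m =>
      constructor
      · rintro ⟨e, he, hey⟩
        have hm : H4Gr.proj (E.X m).gr g e ∈ GrLC.gam a.toIdeal (E.X m).carrier := H4Gr.isHomogeneous_gam a g he
        have hde : E.d m (H4Gr.proj (E.X m).gr g e) = y := by
          rw [H4Gr.map_proj₀ (E.d_grHom m), hey]; exact H4Gr.proj_same hyg
        refine ⟨z.2.2.1, ⟨lofX E.X m (H4Gr.proj (E.X m).gr g e), lofX_mem E.X (H4Gr.proj_mem _ g e)⟩, ?_, Subtype.ext ?_⟩
        · exact LinearMap.mem_ker.2 ((Submodule.Quotient.mk_eq_zero _).2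
            (H4Gr.map_mem_gam (lofX E.X m) hm : lofX E.X m _ ∈ GrLC.gam a.toIdeal (sumX E.X).carrier))
        · show dX E.X E.d (lofX E.X m _) = _
          rw [dX_lofX, hde, hy]
      · rintro ⟨-, v, hv, hvz⟩
        refine ⟨cmpX E.X m ((v : pieceK g (sumX E.X)) : (sumX E.X).carrier),
          H4Gr.map_mem_gam _ ((Submodule.Quotient.mk_eq_zero _).1 (LinearMap.mem_ker.1 hv) :), ?_⟩
        have h1 : dX E.X E.d (v : (sumX E.X).carrier) = lofX E.X (m + 1) y := (congrArg Subtype.val hvz).trans hy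
        have h2 := (isGC_sumX E.X (dd_star E)).de m (v : (sumX E.X).carrier)
        change dX E.X E.d (lofX E.X m (cmpX E.X m _)) = eX E.X (m + 1) (dX E.X E.d _) at h2
        rw [dX_lofX, h1, eX_lofX] at h2
        simpa [cmpX_lofX] using congrArg (cmpX E.X (m + 1)) h2
  obtain ⟨j, hj⟩ := exists_addEquiv_quot ν hν _ hker
  refine ⟨j, fun c x hc => ?_⟩
  obtain ⟨z, rfl⟩ := Submodule.Quotient.mk_surjective _ x
  rw [← Submodule.Quotient.mk_smul, hj, hj]
  refine Subtype.ext ?_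
  show E.toH a n ⟨_, hco (c • z)⟩ = algebraMap k R c • E.toH a n ⟨_, hco z⟩
  rw [← map_smul]
  exact congrArg _ (Subtype.ext ((cmpX E.X n).map_smul (algebraMap k R c) _))

end Single

end Groth.Agent.H4KS
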