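import Groth.Agent.H4KS.Crit
import Groth.Agent.H4Gr.Primes

/-!
# The dimensions of the pieces of a canonical module
-/

set_option autoImplicit false
set_option linter.unusedSectionVars false
set_option linter.style.haveILetI false

universe u

open DirectSum

namespace Groth.Agent.H4KS

section Hull

variable {R : Type u} [CommRing R] {𝒜 : ℤ → AddSubgroup R} [GradedRing 𝒜]
  (hpos : ∀ n : ℤ, n < 0 → 𝒜 n = ⊥) (h0 : IsField (GrLC.deg0 𝒜))
  (m : HomogeneousIdeal 𝒜) (hm : m.toIdeal = Ideal.span (⋃ n ∈ Set.Ioi (0 : ℤ), (𝒜 n : Set R)))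
  {E : Type u} [AddCommGroup E] [Module R E] {𝓔 : ℤ → AddSubgroup E} [Decomposition 𝓔]
  [SetLike.GradedSMul 𝒜 𝓔] {e : (R ⧸ m.toIdeal) →ₗ[R] E} (he : GrLC.IsStarEss (GrLC.quotGr 𝒜 m) 𝓔 e)

include he in
theorem e_one_mem : e 1 ∈ 𝓔 0 :=
  he.grHom 0 1 ⟨1, SetLike.one_mem_graded 𝒜, map_one (Ideal.Quotient.mk m.toIdeal)⟩

include he hm hpos in
theorem exists_socle {g : ℤ} {y : E} (hy : y ∈ 𝓔 g) (hy0 : y ≠ 0) :
    ∃ r ∈ 𝒜 (-g), ∃ c ∈ 𝒜 0, r • y = c • e 1 ∧ r • y ≠ 0 := by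
  have hspan : (Submodule.span R {y}).IsHomogeneous 𝓔 :=
    H4Gr.isHomogeneous_span 𝒜 fun x hx => ⟨g, by rw [Set.mem_singleton_iff.1 hx]; exact hy⟩
  have hne : Submodule.span R {y} ≠ ⊥ := fun h => hy0 (Submodule.span_singleton_eq_bot.1 h)
  obtain ⟨z, ⟨hz1, hz2⟩, hz0⟩ := Submodule.exists_mem_ne_zero_of_ne_bot (he.essential _ hspan hne)
  obtain ⟨r, rfl⟩ := Submodule.mem_span_singleton.1 hz1
  obtain ⟨q, hq⟩ := hz2
  have hsq : ∀ x : R, x • (1 : R ⧸ m.toIdeal) = Ideal.Quotient.mk m.toIdeal x := fun x => by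
    rw [← Algebra.algebraMap_eq_smul_one]; rfl
  obtain ⟨s, rfl⟩ := Ideal.Quotient.mk_surjective q
  rw [← hsq, map_smul] at hq
  obtain ⟨j, hj⟩ : ∃ j, H4Gr.proj 𝓔 j (r • y) ≠ 0 := by
    by_contra h
    push Not at h
    exact hz0 (H4Gr.ext_proj 𝓔 fun j => by rw [h j, map_zero])
  have key : ∀ (w : E) (i : ℤ), w ∈ 𝓔 i → ∀ (t : R), H4Gr.proj 𝓔 j (t • w) = H4Gr.proj 𝒜 (j - i) t • w := by
    intro w i hw t
    induction t using H4Gr.induction 𝒜 with
    | zero => simp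
    | add a b ha hb => rw [add_smul, map_add, ha, hb, map_add, add_smul]
    | hom l a ha =>
      rw [H4Gr.proj_of_mem ha, H4Gr.proj_of_mem (H4Gr.smul_mem 𝒜 ha hw)]
      by_cases hl : l = j - i
      · rw [if_pos (by omega), if_pos hl]
      · rw [if_neg (by omega), if_neg hl, zero_smul]
  have h1 : H4Gr.proj 𝒜 (j - g) r • y = H4Gr.proj 𝒜 j s • e 1 := by
    have h := key y g hy r
    rw [← hq, key (e 1) 0 (e_one_mem m he) s, sub_zero] at h
    exact h.symm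
  rw [key y g hy r] at hj
  rcases lt_trichotomy j 0 with hjn | rfl | hjp
  · rw [h1] at hj
    have h3 : H4Gr.proj 𝒜 j s = 0 := by
      have := H4Gr.proj_mem 𝒜 j s
      rw [hpos j hjn] at this
      exact (AddSubgroup.mem_bot.1 this)
    exact absurd (by rw [h3, zero_smul]) hj
  · rw [zero_sub] at h1 hj
    exact ⟨_, H4Gr.proj_mem 𝒜 _ r, _, H4Gr.proj_mem 𝒜 0 s, h1, hj⟩
  · rw [h1] at hj
    refine absurd ?_ hj
    rw [← map_smul, hsq]
    rw [show Ideal.Quotient.mk m.toIdeal (H4Gr.proj 𝒜 j s) = 0 from Ideal.Quotient.eq_zero_iff_mem.2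
      (hm ▸ Ideal.subset_span (Set.mem_iUnion₂.2 ⟨j, hjp, H4Gr.proj_mem 𝒜 j s⟩)), map_zero]

include he hm hpos h0 in
theorem exists_zero_piece_equiv : Nonempty (GrLC.comp 𝒜 𝓔 0 ≃ₗ[GrLC.deg0 𝒜] GrLC.deg0 𝒜) := by
  letI := h0.toField
  let f : GrLC.deg0 𝒜 →ₗ[GrLC.deg0 𝒜] GrLC.comp 𝒜 𝓔 0 :=
    LinearMap.toSpanSingleton _ _ ⟨e 1, e_one_mem m he⟩
  refine ⟨(LinearEquiv.ofBijective f ⟨(injective_iff_map_eq_zero f).2 fun c hc => ?_, fun y => ?_⟩).symm⟩
  · by_contra hne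
    obtain ⟨d, hd⟩ := (isUnit_iff_ne_zero.2 hne).exists_left_inv
    have hc' : (c : R) • e 1 = 0 := congrArg Subtype.val hc
    have h1 : e 1 = 0 := by
      rw [← one_smul R (e 1), show (1 : R) = (d : R) * c from (congrArg Subtype.val hd).symm, mul_smul, hc', smul_zero]
    have h2 : (1 : R ⧸ m.toIdeal) = 0 := he.injective (h1.trans (map_zero e).symm)
    have h3 : m.toIdeal = ⊤ := (Ideal.eq_top_iff_one _).2
      (Ideal.Quotient.eq_zero_iff_mem.1 ((map_one (Ideal.Quotient.mk m.toIdeal)).trans h2))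
    have h4 : ∀ z ∈ m.toIdeal, H4Gr.proj 𝒜 0 z = 0 := by
      intro z hz
      rw [hm] at hz
      induction hz using Submodule.span_induction with
      | mem w hw =>
        obtain ⟨l, hl, hwl⟩ := Set.mem_iUnion₂.1 hw
        exact H4Gr.proj_ne hwl (ne_of_gt hl)
      | zero => exact map_zero _
      | add a b _ _ ha hb => rw [map_add, ha, hb, add_zero]
      | smul t a _ ha =>
        rw [smul_eq_mul]
        induction t using H4Gr.induction 𝒜 with
        | zero => simp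
        | add p q hp hq => rw [add_mul, map_add, hp, hq, add_zero]
        | hom l t ht =>
          rcases lt_trichotomy l 0 with hl | rfl | hl
          · rw [hpos l hl, AddSubgroup.mem_bot] at ht; simp [ht]
          · rw [← smul_eq_mul]
            have := H4Gr.proj_smul (ℳ := 𝒜) ht 0 a
            rw [sub_zero] at this
            rw [this, ha, smul_zero]
          · rw [← smul_eq_mul]
            have := H4Gr.proj_smul (ℳ := 𝒜) ht 0 a
            rw [zero_sub] at this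
            rw [this, show H4Gr.proj 𝒜 (-l) a = 0 from
              AddSubgroup.mem_bot.1 (hpos (-l) (by omega) ▸ H4Gr.proj_mem 𝒜 (-l) a), smul_zero]
    have h5 := h4 1 (h3 ▸ Submodule.mem_top)
    rw [H4Gr.proj_same (SetLike.one_mem_graded 𝒜)] at h5
    exact hne (Subtype.ext (by rw [← mul_one (c : R), h5, mul_zero]; rfl))
  · rcases eq_or_ne (y : E) 0 with hy | hy
    · exact ⟨0, Subtype.ext (by rw [map_zero, hy]; rfl)⟩
    obtain ⟨r, hr, c, hc, hrc, hne⟩ := exists_socle hpos m hm he (y.2 : (y : E) ∈ 𝓔 0) hy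
    rw [neg_zero] at hr
    have hr0 : (⟨r, hr⟩ : GrLC.deg0 𝒜) ≠ 0 := fun h => hne (by rw [show r = 0 from congrArg Subtype.val h, zero_smul])
    obtain ⟨d, hd⟩ := (isUnit_iff_ne_zero.2 hr0).exists_left_inv
    refine ⟨d * ⟨c, hc⟩, Subtype.ext ?_⟩
    show ((d : R) * c) • e 1 = y
    rw [mul_smul, ← hrc, ← mul_smul, show (d : R) * r = 1 from congrArg Subtype.val hd, one_smul]

include he hm hpos in
theorem smul_zero_piece {i : ℤ} (hi : 0 < i) {t : R} (ht : t ∈ 𝒜 i) {y : E} (hy : y ∈ 𝓔 0) : t • y = 0 := by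
  by_contra hne
  have h := H4Gr.smul_mem 𝒜 ht hy
  rw [add_zero] at h
  obtain ⟨r, hr, -, -, -, hr0⟩ := exists_socle hpos m hm he h hne
  rw [hpos (-i) (by omega), AddSubgroup.mem_bot] at hr
  exact hr0 (by rw [hr, zero_smul])

variable (hE : GrLC.IsStarInj 𝒜 𝓔) {C : Type u} [AddCommGroup C] [Module R C] {𝒞 : ℤ → AddSubgroup C}
  [Decomposition 𝒞] [SetLike.GradedSMul 𝒜 𝒞]

/-- Restriction of a homogeneous map to the piece landing in degree zero. -/
noncomputable def resHom (d : ℤ) :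
    GrLC.homDeg 𝒜 𝒞 𝓔 d →ₗ[GrLC.deg0 𝒜] (GrLC.comp 𝒜 𝒞 (-d) →ₗ[GrLC.deg0 𝒜] GrLC.comp 𝒜 𝓔 0) where
  toFun f :=
    { toFun := fun x => ⟨(f : C →ₗ[R] E) x, by
        have := f.2 (-d) x x.2
        rw [neg_add_cancel] at this
        exact this⟩
      map_add' := fun x y => Subtype.ext (map_add (f : C →ₗ[R] E) _ _)
      map_smul' := fun r x => Subtype.ext ((f : C →ₗ[R] E).map_smul (r : R) (x : C)) }
  map_add' _ _ := rfl
  map_smul' _ _ := rfl

include he hm hpos hE in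
theorem resHom_bijective (d : ℤ) : Function.Bijective (resHom (𝒜 := 𝒜) (𝒞 := 𝒞) (𝓔 := 𝓔) d) := by
  refine ⟨(injective_iff_map_eq_zero _).2 fun f hf => Subtype.ext ?_, fun l => ?_⟩
  · have hz : ∀ x ∈ 𝒞 (-d), (f : C →ₗ[R] E) x = 0 := fun x hx =>
      congrArg Subtype.val (LinearMap.congr_fun hf (⟨x, hx⟩ : GrLC.comp 𝒜 𝒞 (-d)))
    refine LinearMap.ext fun x => ?_
    induction x using H4Gr.induction 𝒞 with
    | zero => simp
    | add a b ha hb => simp only [map_add, ha, hb]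
    | hom g x hx =>
      by_contra hne
      obtain ⟨r, hr, -, -, -, hr0⟩ := exists_socle hpos m hm he (f.2 g x hx) hne
      rw [← map_smul] at hr0
      refine hr0 (hz _ ?_)
      have h := H4Gr.smul_mem 𝒜 hr hx
      rwa [show -(g + d) + g = -d by omega] at h
  · let p : Submodule R C := Submodule.span R {x | ∃ g, -d ≤ g ∧ x ∈ 𝒞 g}
    have hp : p.IsHomogeneous 𝒞 := H4Gr.isHomogeneous_span 𝒜 fun x ⟨g, _, hx⟩ => ⟨g, hx⟩
    let B := H4Gr.shiftMod 𝒜 𝒞 (-d)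
    let p' : Submodule R B.carrier := p
    have hp' : p'.IsHomogeneous B.gr :=
      H4Gr.isHomogeneous_span 𝒜 (ℳ := B.gr) (s := {x : C | ∃ g, -d ≤ g ∧ x ∈ 𝒞 g}) fun x ⟨g, _, hx⟩ =>
        ⟨g + d, show x ∈ 𝒞 (g + d + -d) by rwa [add_neg_cancel_right]⟩
    let A := H4Gr.subMod 𝒜 (ℳ := B.gr) p' hp'
    have hlow : ∀ (x : C), x ∈ p → ∀ g, g < -d → H4Gr.proj 𝒞 g x = 0 := by
      intro x hx
      induction hx using Submodule.span_induction with
      | mem x hx =>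
        obtain ⟨i, hi, hxi⟩ := hx
        exact fun g hg => H4Gr.proj_ne hxi (by omega)
      | zero => exact fun g _ => map_zero _
      | add a b _ _ ha hb => exact fun g hg => by rw [map_add, ha g hg, hb g hg, add_zero]
      | smul t a _ ha =>
        intro g hg
        induction t using H4Gr.induction 𝒜 with
        | zero => simp
        | add u v hu hv => rw [add_smul, map_add, hu, hv, add_zero]
        | hom i t ht =>
          by_cases hi : i < 0
          · rw [hpos i hi, AddSubgroup.mem_bot] at ht; simp [ht]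
          have h := H4Gr.proj_smul (ℳ := 𝒞) ht g a
          rw [h, ha _ (by omega), smul_zero]
    let l0 : C →+ E := AddMonoidHom.mk'
      (fun x => (l (⟨H4Gr.proj 𝒞 (-d) x, H4Gr.proj_mem 𝒞 _ x⟩ : GrLC.comp 𝒜 𝒞 (-d)) : E))
      fun x y => by
        rw [← Submodule.coe_add, ← map_add]
        exact congrArg (fun z => (l z : E)) (Subtype.ext (map_add (H4Gr.proj 𝒞 (-d)) x y))
    have hl0lin : ∀ (t : R) (x : C), x ∈ p → l0 (t • x) = t • l0 x := by
      intro t x hx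
      induction t using H4Gr.induction 𝒜 with
      | zero => simp
      | add u v hu hv => rw [add_smul, map_add, hu, hv, add_smul]
      | hom i t ht =>
        rcases lt_trichotomy i 0 with hi | rfl | hi
        · rw [hpos i hi, AddSubgroup.mem_bot] at ht; simp [ht]
        · show (l _ : E) = t • (l _ : E)
          have h := H4Gr.proj_smul (ℳ := 𝒞) ht (-d) x
          rw [sub_zero] at h
          rw [show (⟨H4Gr.proj 𝒞 (-d) (t • x), H4Gr.proj_mem 𝒞 _ _⟩ : GrLC.comp 𝒜 𝒞 (-d)) =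
            (⟨t, ht⟩ : GrLC.deg0 𝒜) • ⟨H4Gr.proj 𝒞 (-d) x, H4Gr.proj_mem 𝒞 _ x⟩ from Subtype.ext h, map_smul]
          rfl
        · have h := H4Gr.proj_smul (ℳ := 𝒞) ht (-d) x
          rw [hlow x hx (-d - i) (by omega), smul_zero] at h
          have hzero : (l (⟨H4Gr.proj 𝒞 (-d) (t • x), H4Gr.proj_mem 𝒞 _ _⟩ : GrLC.comp 𝒜 𝒞 (-d)) : E) = 0 := by
            rw [show (⟨H4Gr.proj 𝒞 (-d) (t • x), H4Gr.proj_mem 𝒞 _ _⟩ : GrLC.comp 𝒜 𝒞 (-d)) = 0 from Subtype.ext h,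
              map_zero]
            rfl
          refine hzero.trans (Eq.symm ?_)
          show t • (l _ : E) = 0
          exact smul_zero_piece hpos m hm he hi ht (l _).2
    let g0 : A.carrier →ₗ[R] E :=
      { toFun := fun x => l0 (x : p).1
        map_add' := fun x y => map_add l0 _ _
        map_smul' := fun t x => hl0lin t _ (x : p).2 }
    have hg0 : GrLC.IsGrHom A.gr 𝓔 g0 := fun i x hx => by
      have hxi : (x : p).1 ∈ 𝒞 (i + -d) := hx
      show l0 (x : p).1 ∈ 𝓔 i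
      by_cases h : i = 0
      · subst h; exact (l _).2
      · show (l _ : E) ∈ 𝓔 i
        rw [show (⟨H4Gr.proj 𝒞 (-d) (x : p).1, H4Gr.proj_mem 𝒞 _ _⟩ : GrLC.comp 𝒜 𝒞 (-d)) = 0 from
          Subtype.ext (H4Gr.proj_ne hxi (by omega)), map_zero]
        exact zero_mem _
    obtain ⟨h, hh, hhe⟩ := hE A B (H4Gr.subIncl 𝒜 (ℳ := B.gr) p' hp') (H4Gr.isGrHom_subIncl _ _)
      Subtype.val_injective g0 hg0
    have hdeg : GrLC.IsGrHomDeg 𝒞 𝓔 (h : C →ₗ[R] E) d := fun g x hx =>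
      hh (g + d) x (show x ∈ 𝒞 (g + d + -d) by rwa [add_neg_cancel_right])
    refine ⟨⟨h, hdeg⟩, LinearMap.ext fun x => Subtype.ext ?_⟩
    have hxp : (x : C) ∈ p := Submodule.subset_span ⟨-d, le_rfl, x.2⟩
    show h (x : C) = (l x : E)
    refine (LinearMap.congr_fun hhe (⟨(x : C), hxp⟩ : p)).trans ?_
    show (l _ : E) = _
    rw [show (⟨H4Gr.proj 𝒞 (-d) (x : C), H4Gr.proj_mem 𝒞 _ _⟩ : GrLC.comp 𝒜 𝒞 (-d)) = x from
      Subtype.ext (H4Gr.proj_same x.2)]

variable [IsNoetherianRing R] [Module.Finite R C]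

include he hm hpos h0 hE in
/-- The pieces of the dual of a finite graded module. -/
theorem finrank_homDeg (d : ℤ) :
    Module.finrank (GrLC.deg0 𝒜) (GrLC.homDeg 𝒜 𝒞 𝓔 d) = Module.finrank (GrLC.deg0 𝒜) (GrLC.comp 𝒜 𝒞 (-d)) := by
  letI := h0.toField
  haveI := H4Gr.isNoetherian_comp (𝒜 := 𝒜) (ℳ := 𝒞) (-d)
  obtain ⟨i⟩ := exists_zero_piece_equiv hpos h0 m hm he
  haveI : Module.Finite (GrLC.deg0 𝒜) (GrLC.comp 𝒜 𝓔 0) := Module.Finite.equiv i.symm
  rw [(LinearEquiv.ofBijective _ (resHom_bijective hpos m hm he hE (𝒞 := 𝒞) d)).finrank_eq,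
    Module.finrank_linearMap, i.finrank_eq, Module.finrank_self, mul_one]

include he hm hpos h0 hE in
/-- The pieces of the top local cohomology of a ring with a canonical module. -/
theorem finrank_Hcomp_canonical (n : ℕ) (I : GrLC.StarInjRes 𝒜 𝒜)
    (φ : (C →ₗ[R] E) ≃ₗ[R] I.H m n)
    (hφ : GrLC.IsGrHom (fun d => (GrLC.homDeg 𝒜 𝒞 𝓔 d).toAddSubgroup) (I.Hgr m n) φ.toLinearMap) (d : ℤ) :
    Module.finrank (GrLC.deg0 𝒜) (I.Hcomp m n d) = Module.finrank (GrLC.deg0 𝒜) (GrLC.comp 𝒜 𝒞 (-d)) := by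
  rw [← finrank_homDeg hpos h0 m hm he hE d]
  let F : GrLC.homDeg 𝒜 𝒞 𝓔 d →ₗ[GrLC.deg0 𝒜] I.Hcomp m n d :=
    { toFun := fun f => ⟨φ f, hφ d f f.2⟩
      map_add' := fun a b => Subtype.ext (map_add φ _ _)
      map_smul' := fun r a => Subtype.ext (map_smul φ (r : R) _) }
  refine (LinearEquiv.ofBijective F ⟨fun a b h => Subtype.ext (φ.injective (congrArg Subtype.val h)), fun x => ?_⟩).finrank_eq.symm
  letI := (H4Gr.isInternal_Hgr m I n).chooseDecomposition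
  obtain ⟨t, ht⟩ := H4Gr.exists_sum_homComp 𝒜 𝒞 𝓔 (φ.symm (x : I.H m n))
  refine ⟨⟨H4Gr.homComp 𝒜 (φ.symm (x : I.H m n)) 𝒞 𝓔 d, H4Gr.isGrHomDeg_homComp _ d⟩, Subtype.ext ?_⟩
  show φ (H4Gr.homComp 𝒜 (φ.symm (x : I.H m n)) 𝒞 𝓔 d) = x
  have hmem : ∀ j, φ (H4Gr.homComp 𝒜 (φ.symm (x : I.H m n)) 𝒞 𝓔 j) ∈ I.Hgr m n j := fun j =>
    hφ j _ (H4Gr.isGrHomDeg_homComp _ j)
  have hx : (x : I.H m n) ∈ I.Hgr m n d := x.2
  have hsum : ∑ j ∈ t, φ (H4Gr.homComp 𝒜 (φ.symm (x : I.H m n)) 𝒞 𝓔 j) = x := by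
    rw [← map_sum, ht, φ.apply_symm_apply]
  conv_rhs => rw [← H4Gr.proj_same hx, ← hsum, map_sum]
  by_cases hd : d ∈ t
  · rw [Finset.sum_eq_single d (fun j _ hj => H4Gr.proj_ne (hmem j) hj) (fun h => absurd hd h),
      H4Gr.proj_same (hmem d)]
  · rw [Finset.sum_eq_zero fun j hj => H4Gr.proj_ne (hmem j) (fun e : j = d => hd (e ▸ hj))]
    have hz : H4Gr.homComp 𝒜 (φ.symm (x : I.H m n)) 𝒞 𝓔 d = 0 := by
      refine φ.injective ?_
      rw [map_zero, ← H4Gr.proj_same (hmem d)]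
      have hxd : (x : I.H m n) = 0 := by
        rw [← H4Gr.proj_same hx, ← hsum, map_sum]
        exact Finset.sum_eq_zero fun j hj => H4Gr.proj_ne (hmem j) (fun e : j = d => hd (e ▸ hj))
      rw [hxd, map_zero]
      have : H4Gr.homComp 𝒜 (0 : C →ₗ[R] E) 𝒞 𝓔 d = 0 := by
        refine LinearMap.ext fun c => ?_
        induction c using H4Gr.induction 𝒞 with
        | zero => simp
        | add a b ha hb => rw [map_add, ha, hb]; simp
        | hom g y hy => rw [H4Gr.homComp_of_mem _ _ hy]; simp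
      rw [this, map_zero, map_zero]
    rw [hz, map_zero]

end Hull

end Groth.Agent.H4KS
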