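import Groth.Agent.H4KS.Main
import Groth.Agent.H4Segre.Sop
import Mathlib.RingTheory.FiniteStability

/-!
# The Künneth formula for presented Segre products
-/

set_option autoImplicit false
set_option linter.unusedSectionVars false
set_option linter.style.haveILetI false

universe u

open DirectSum
open scoped TensorProduct

namespace Groth.Agent.H4KS

variable {k : Type u} [Field k]

section Transfer

variable {R : Type u} [CommRing R] [Algebra k R] {𝒜 : ℤ → Submodule k R} [GradedAlgebra 𝒜]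

theorem finrank_addGr {N : Type u} [AddCommGroup N] [Module (GrLC.deg0 𝒜) N] {N' : Type u} [AddCommGroup N']
    [Module (GrLC.deg0 (addGr 𝒜)) N'] (e : N ≃+ N')
    (he : ∀ (r : GrLC.deg0 𝒜) x, e (r • x) = (⟨r.1, r.2⟩ : GrLC.deg0 (addGr 𝒜)) • e x) :
    Module.finrank (GrLC.deg0 𝒜) N = Module.finrank (GrLC.deg0 (addGr 𝒜)) N' :=
  congrArg Cardinal.toNat (rank_eq_of_equiv_equiv (fun r : GrLC.deg0 𝒜 => (⟨r.1, r.2⟩ : GrLC.deg0 (addGr 𝒜))) e
    ⟨fun _ _ h => Subtype.ext (congrArg Subtype.val h :), fun r => ⟨⟨r.1, r.2⟩, rfl⟩⟩ he)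

variable {M : Type u} [AddCommGroup M] [Module R M] {ℳ : ℤ → AddSubgroup M} [Decomposition ℳ]
  [SetLike.GradedSMul 𝒜 ℳ] (E : GrLC.StarInjRes 𝒜 ℳ) (a : HomogeneousIdeal 𝒜)

theorem finrank_Hcomp_resA (i : ℕ) (g : ℤ) :
    Module.finrank (GrLC.deg0 𝒜) (E.Hcomp a i g) =
      Module.finrank (GrLC.deg0 (addGr 𝒜)) ((resA 𝒜 ℳ E).Hcomp (idealA 𝒜 a) i g) :=
  finrank_addGr { toFun := fun x => ⟨x.1, x.2⟩, invFun := fun x => ⟨x.1, x.2⟩, map_add' := fun _ _ => rfl }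
    fun _ _ => rfl

theorem Hcomp_resA_eq_bot_iff (i : ℕ) (g : ℤ) :
    (resA 𝒜 ℳ E).Hcomp (idealA 𝒜 a) i g = ⊥ ↔ E.Hcomp a i g = ⊥ :=
  ⟨fun h => (Submodule.eq_bot_iff _).2 fun x hx => (Submodule.eq_bot_iff _).1 h x hx,
    fun h => (Submodule.eq_bot_iff _).2 fun x hx => (Submodule.eq_bot_iff _).1 h x hx⟩

theorem finrank_comp_addGr (g : ℤ) :
    Module.finrank (GrLC.deg0 𝒜) (GrLC.comp 𝒜 ℳ g) =
      Module.finrank (GrLC.deg0 (addGr 𝒜)) (GrLC.comp (addGr 𝒜) ℳ g) :=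
  finrank_addGr { toFun := fun x => ⟨x.1, x.2⟩, invFun := fun x => ⟨x.1, x.2⟩, map_add' := fun _ _ => rfl }
    fun _ _ => rfl

end Transfer

variable {R : Type u} [CommRing R] [Algebra k R] {𝒜 : ℤ → Submodule k R} [GradedAlgebra 𝒜]
  {S : Type u} [CommRing S] [Algebra k S] {ℬ : ℤ → Submodule k S} [GradedAlgebra ℬ]
  {T : Type u} [CommRing T] [Algebra k T] {𝒯 : ℤ → Submodule k T} [GradedAlgebra 𝒯]
  {ψ : T →ₐ[k] R ⊗[k] S}

theorem deg0_segre (hT : GrSeg.IsSegreRing 𝒜 ℬ 𝒯 ψ) (h0R : 𝒜 0 = Submodule.span k {(1 : R)})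
    (h0S : ℬ 0 = Submodule.span k {(1 : S)}) : 𝒯 0 = Submodule.span k {(1 : T)} := by
  refine Submodule.map_injective_of_injective (f := ψ.toLinearMap) hT.1 ?_
  rw [hT.2 0, Submodule.map_span, Set.image_singleton, AlgHom.toLinearMap_apply, map_one]
  refine le_antisymm (Submodule.span_le.2 ?_) (Submodule.span_le.2 ?_)
  · rintro _ ⟨x, hx, y, hy, rfl⟩
    rw [h0R, Submodule.mem_span_singleton] at hx
    rw [h0S, Submodule.mem_span_singleton] at hy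
    obtain ⟨r, rfl⟩ := hx
    obtain ⟨s, rfl⟩ := hy
    refine Submodule.mem_span_singleton.2 ⟨r * s, ?_⟩
    rw [Algebra.TensorProduct.one_def, TensorProduct.smul_tmul_smul]
  · rw [Set.singleton_subset_iff]
    exact Submodule.subset_span ⟨1, SetLike.one_mem_graded _, 1, SetLike.one_mem_graded _, rfl⟩

theorem isNoetherianRing_T (hT : GrSeg.IsSegreRing 𝒜 ℬ 𝒯 ψ) [Algebra.FiniteType k R] [Algebra.FiniteType k S] :
    IsNoetherianRing T := by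
  haveI : IsNoetherianRing (R ⊗[k] S) := by
    haveI : Algebra.FiniteType k (R ⊗[k] S) :=
      Algebra.FiniteType.trans (A := R ⊗[k] S) (S := R) inferInstance inferInstance
    exact Algebra.FiniteType.isNoetherianRing k _
  exact H4Segre.isNoetherianRing_segre 𝒜 ℬ hT.1 hT.2

theorem nontrivial_T (hT : GrSeg.IsSegreRing 𝒜 ℬ 𝒯 ψ) [Nontrivial R] [Nontrivial S] : Nontrivial T := by
  haveI : Nontrivial (R ⊗[k] S) :=
    (TensorProduct.map_injective_of_flat_flat (Algebra.linearMap k R) (Algebra.linearMap k S)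
      (algebraMap k R).injective (algebraMap k S).injective).nontrivial
  exact ⟨1, 0, fun h => one_ne_zero (α := R ⊗[k] S) (by rw [← map_one ψ, h, map_zero])⟩

theorem exists_degree_params [Nontrivial R] [Algebra.FiniteType k R] (hpos : ∀ n : ℤ, n < 0 → 𝒜 n = ⊥)
    (h0R : 𝒜 0 = Submodule.span k {(1 : R)}) :
    ∃ (r d : ℕ), 0 < d ∧ ∀ e : ℕ, 0 < e → ∃ f : Fin r → R,
      (∀ l, f l ∈ 𝒜 ((d * e : ℕ) : ℤ)) ∧ H4Segre.irr 𝒜 ≤ (Ideal.span (Set.range f)).radical := by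
  haveI : IsNoetherianRing R := Algebra.FiniteType.isNoetherianRing k R
  have hmax := H4Segre.isMaximal_irr 𝒜 hpos h0R
  have hne : H4Gr.hgt (⊥ : Ideal R) (H4Segre.irr 𝒜) ≠ ⊤ := Ideal.height_ne_top fun h => by
    have h2 := congrArg (Ideal.comap (Ideal.Quotient.mk (⊥ : Ideal R))) h
    rw [Ideal.comap_map_of_surjective _ Ideal.Quotient.mk_surjective, Ideal.comap_top,
      ← RingHom.ker_eq_comap_bot, Ideal.mk_ker, sup_bot_eq] at h2
    exact hmax.ne_top h2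
  obtain ⟨r, hr⟩ := ENat.ne_top_iff_exists.1 hne
  obtain ⟨d, hd, h⟩ := H4Segre.exists_radical_generators_common 𝒜 hpos h0R r ⊥ (Ideal.IsHomogeneous.bot 𝒜)
    bot_ne_top hr.ge
  exact ⟨r, d, hd, fun e he => by simpa using h e he⟩

variable {M : Type u} [AddCommGroup M] [Module R M] [Module k M] [IsScalarTower k R M] {ℳ : ℤ → AddSubgroup M}
  [Decomposition ℳ] [SetLike.GradedSMul 𝒜 ℳ]
  {N : Type u} [AddCommGroup N] [Module S N] [Module k N] [IsScalarTower k S N] {𝒩 : ℤ → AddSubgroup N}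
  [Decomposition 𝒩] [SetLike.GradedSMul ℬ 𝒩]
  {P : Type u} [AddCommGroup P] [Module T P] [Module k P] [IsScalarTower k T P] {𝒬 : ℤ → AddSubgroup P}
  [Decomposition 𝒬] {φ : P →ₗ[k] M ⊗[k] N}

/-- A presented Segre product is the constructed one. -/
theorem exists_segre_iso [SegreHom ψ 𝒜 ℬ 𝒯] (hP : GrSeg.IsSegreMod ψ ℳ 𝒩 𝒬 φ) :
    ∃ j : P →ₗ[T] (Seg ψ (GrLC.GMod.of (addGr 𝒜) M ℳ) (GrLC.GMod.of (addGr ℬ) N 𝒩)).carrier,
      GrLC.IsGrHom 𝒬 (Seg ψ (GrLC.GMod.of (addGr 𝒜) M ℳ) (GrLC.GMod.of (addGr ℬ) N 𝒩)).gr j ∧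
      Function.Bijective j := by
  let X := GrLC.GMod.of (addGr 𝒜) M ℳ
  let Y := GrLC.GMod.of (addGr ℬ) N 𝒩
  let cM : M ≃ₗ[k] X.carrier :=
    { toFun := fun m => m, invFun := fun m => m, map_add' := fun _ _ => rfl,
      map_smul' := fun r m => (IsScalarTower.algebraMap_smul R r m).symm }
  let cN : N ≃ₗ[k] Y.carrier :=
    { toFun := fun m => m, invFun := fun m => m, map_add' := fun _ _ => rfl,
      map_smul' := fun r m => (IsScalarTower.algebraMap_smul S r m).symm }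
  let θ := TensorProduct.congr cM cN
  have hθact : ∀ u z, θ (GrSeg.act k R S M N u z) = GrSeg.act k R S X.carrier Y.carrier u (θ z) := fun u z => by
    induction u using TensorProduct.induction_on with
    | zero => simp only [map_zero, LinearMap.zero_apply]
    | add p q hp hq => simp only [map_add, LinearMap.add_apply, hp, hq]
    | tmul p q =>
      induction z using TensorProduct.induction_on with
      | zero => simp only [map_zero]
      | add x y hx hy => simp only [map_add, hx, hy]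
      | tmul x y => simp only [θ, GrSeg.act_tmul, TensorProduct.congr_tmul]; rfl
  have hθpiece : ∀ n, (GrSeg.segrePiece k ℳ 𝒩 n).map θ.toLinearMap = GrSeg.segrePiece k X.gr Y.gr n := fun n => by
    rw [GrSeg.segrePiece, GrSeg.segrePiece, Submodule.map_span]
    congr 1
    ext w
    constructor
    · rintro ⟨_, ⟨x, hx, y, hy, rfl⟩, rfl⟩
      exact ⟨x, hx, y, hy, TensorProduct.congr_tmul _ _ _ _⟩
    · rintro ⟨x, hx, y, hy, rfl⟩
      exact ⟨x ⊗ₜ[k] y, ⟨x, hx, y, hy, rfl⟩, TensorProduct.congr_tmul cM cN x y⟩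
  have himg : ∀ n p, p ∈ 𝒬 n → θ (φ p) ∈ GrSeg.segrePiece k X.gr Y.gr n := fun n p hp =>
    hθpiece n ▸ ⟨φ p, (hP.image_piece n).subset ⟨p, hp, rfl⟩, rfl⟩
  have hmem : ∀ p, θ (φ p) ∈ ⨆ n, GrSeg.segrePiece k X.gr Y.gr n := fun p => by
    induction p using H4Gr.induction 𝒬 with
    | zero => rw [map_zero, map_zero]; exact zero_mem _
    | hom n p hp => exact Submodule.mem_iSup_of_mem n (himg n p hp)
    | add p q hp hq => rw [map_add, map_add]; exact add_mem hp hq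
  refine ⟨{ toFun := fun p => segMk ψ X Y (θ (φ p)) (hmem p)
            map_add' := fun p q => segVal_injective ψ X Y (by
              refine Eq.trans ?_ (map_add (segVal ψ X Y) _ _).symm
              rw [segVal_segMk, segVal_segMk, segVal_segMk, map_add, map_add])
            map_smul' := fun t p => segVal_injective ψ X Y (by
              refine Eq.trans ?_ (segVal_smul ψ X Y t _).symm
              rw [segVal_segMk, segVal_segMk, hP.map_smul, hθact]) }, fun n p hp => himg n p hp,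
    fun p q h => hP.injective (θ.injective (congrArg (segVal ψ X Y) h :)), fun z => ?_⟩
  have hz : ∀ w ∈ ⨆ n, GrSeg.segrePiece k X.gr Y.gr n, ∃ p, θ (φ p) = w := fun w hw => by
    induction hw using Submodule.iSup_induction' with
    | mem n w hw =>
      rw [← hθpiece n] at hw
      obtain ⟨v, hv, rfl⟩ := hw
      obtain ⟨p, -, rfl⟩ := (hP.image_piece n).superset hv
      exact ⟨p, rfl⟩
    | zero => exact ⟨0, by rw [map_zero, map_zero]⟩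
    | add x y _ _ hx hy =>
      obtain ⟨p, rfl⟩ := hx
      obtain ⟨q, rfl⟩ := hy
      exact ⟨p + q, by rw [map_add, map_add]⟩
  obtain ⟨p, hp⟩ := hz _ (segVal_mem ψ X Y z)
  exact ⟨p, segVal_injective ψ X Y hp⟩

/-- The Künneth formula with its hypotheses in the form of the statements. -/
theorem kunneth_presented [SetLike.GradedSMul 𝒯 𝒬] [Nontrivial R] [Nontrivial S] [Algebra.FiniteType k R]
    [Algebra.FiniteType k S] [Module.Finite R M] [Module.Finite S N]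
    (hposR : ∀ n : ℤ, n < 0 → 𝒜 n = ⊥) (h0R : 𝒜 0 = Submodule.span k {(1 : R)})
    (hposS : ∀ n : ℤ, n < 0 → ℬ n = ⊥) (h0S : ℬ 0 = Submodule.span k {(1 : S)})
    (hT : GrSeg.IsSegreRing 𝒜 ℬ 𝒯 ψ)
    (mR : HomogeneousIdeal 𝒜) (hmR : mR.toIdeal = Ideal.span (⋃ n ∈ Set.Ioi (0 : ℤ), (𝒜 n : Set R)))
    (mS : HomogeneousIdeal ℬ) (hmS : mS.toIdeal = Ideal.span (⋃ n ∈ Set.Ioi (0 : ℤ), (ℬ n : Set S)))
    (mT : HomogeneousIdeal 𝒯) (hmT : mT.toIdeal = Ideal.span (⋃ n ∈ Set.Ioi (0 : ℤ), (𝒯 n : Set T)))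
    (EM : GrLC.StarInjRes 𝒜 ℳ) (EN : GrLC.StarInjRes ℬ 𝒩) (hP : GrSeg.IsSegreMod ψ ℳ 𝒩 𝒬 φ)
    (EP : GrLC.StarInjRes 𝒯 𝒬) (g : ℤ) (hM : EM.Hcomp mR 0 g = ⊥) (hN : EN.Hcomp mS 0 g = ⊥) :
    ∃ cA cB : ℕ → ℕ,
      cA 0 = Module.finrank (GrLC.deg0 𝒜) (GrLC.comp 𝒜 ℳ g) + Module.finrank (GrLC.deg0 𝒜) (EM.Hcomp mR 1 g) ∧
      cB 0 = Module.finrank (GrLC.deg0 ℬ) (GrLC.comp ℬ 𝒩 g) + Module.finrank (GrLC.deg0 ℬ) (EN.Hcomp mS 1 g) ∧
      (∀ n, cA (n + 1) = Module.finrank (GrLC.deg0 𝒜) (EM.Hcomp mR (n + 2) g)) ∧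
      (∀ n, cB (n + 1) = Module.finrank (GrLC.deg0 ℬ) (EN.Hcomp mS (n + 2) g)) ∧
      Module.finrank (GrLC.deg0 𝒯) (EP.Hcomp mT 0 g) = 0 ∧
      Module.finrank (GrLC.deg0 𝒯) (EP.Hcomp mT 1 g) +
          Module.finrank (GrLC.deg0 𝒜) (GrLC.comp 𝒜 ℳ g) * Module.finrank (GrLC.deg0 ℬ) (GrLC.comp ℬ 𝒩 g) =
        cA 0 * cB 0 ∧
      ∀ q, Module.finrank (GrLC.deg0 𝒯) (EP.Hcomp mT (q + 2) g) =
        ∑ p ∈ Finset.range (q + 2), cA p * cB (q + 1 - p) := by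
  haveI : SegreHom ψ 𝒜 ℬ 𝒯 := ⟨hT⟩
  haveI : IsNoetherianRing R := Algebra.FiniteType.isNoetherianRing k R
  haveI : IsNoetherianRing S := Algebra.FiniteType.isNoetherianRing k S
  haveI := isNoetherianRing_T hT
  haveI := nontrivial_T hT
  obtain ⟨r, dR, hdR, hr⟩ := exists_degree_params hposR h0R
  obtain ⟨s, dS, hdS, hs⟩ := exists_degree_params hposS h0S
  obtain ⟨f, hf, hfrad⟩ := hr dS hdS
  obtain ⟨f', hf', hfrad'⟩ := hs dR hdR
  rw [mul_comm dS dR] at hf'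
  let PR : Params (𝒜 := 𝒜) (ℬ := ℬ) (idealA 𝒜 mR).toIdeal (idealA ℬ mS).toIdeal :=
    { r := r, s := s, f := f, g := f', deg := ((dR * dS : ℕ) : ℤ),
      pos := by exact_mod_cast Nat.mul_pos hdR hdS
      hf := hf, hg := hf',
      radR := (le_of_eq hmR).trans hfrad, radS := (le_of_eq hmS).trans hfrad' }
  obtain ⟨j, hj, hjb⟩ := exists_segre_iso (ψ := ψ) (𝒯 := 𝒯) (𝒜 := 𝒜) (ℬ := ℬ) hP
  have hM' := (H4Gr.Hcomp_zero_eq_bot_iff (resA 𝒜 ℳ EM) g).1 ((Hcomp_resA_eq_bot_iff EM mR 0 g).2 hM)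
  have hN' := (H4Gr.Hcomp_zero_eq_bot_iff (resA ℬ 𝒩 EN) g).1 ((Hcomp_resA_eq_bot_iff EN mS 0 g).2 hN)
  obtain ⟨-, hA0, hA⟩ := dims_Q (k := k) (idealA 𝒜 mR) (resA 𝒜 ℳ EM) g h0R hposR hmR hM'
  obtain ⟨-, hB0, hB⟩ := dims_Q (k := k) (idealA ℬ mS) (resA ℬ 𝒩 EN) g h0S hposS hmS hN'
  obtain ⟨h0, h1, h2⟩ := kunneth ψ (idealA 𝒜 mR) (resA 𝒜 ℳ EM) (idealA ℬ mS) (resA ℬ 𝒩 EN) (idealA 𝒯 mT)
    (resA 𝒯 𝒬 EP) g j hj hjb hposR hmR hposS hmS hmT PR h0R h0S (deg0_segre hT h0R h0S) hM' hN'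
  simp only [← finrank_Hcomp_resA, ← finrank_comp_addGr] at hA0 hA hB0 hB h0 h1 h2
  exact ⟨fun p => Module.finrank k (coh (eQ (idealA 𝒜 mR) (resA 𝒜 ℳ EM) g)
      (dQ (k := k) (idealA 𝒜 mR) (resA 𝒜 ℳ EM) g) p),
    fun p => Module.finrank k (coh (eQ (idealA ℬ mS) (resA ℬ 𝒩 EN) g) (dQ (k := k) (idealA ℬ mS) (resA ℬ 𝒩 EN) g) p),
    hA0, hB0, hA, hB, h0, h1, h2⟩

/-- The formula when both factors have vanishing local cohomology in degrees at most one. -/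
theorem kunneth_formula [SetLike.GradedSMul 𝒯 𝒬] [Nontrivial R] [Nontrivial S] [Algebra.FiniteType k R]
    [Algebra.FiniteType k S] [Module.Finite R M] [Module.Finite S N]
    (hposR : ∀ n : ℤ, n < 0 → 𝒜 n = ⊥) (h0R : 𝒜 0 = Submodule.span k {(1 : R)})
    (hposS : ∀ n : ℤ, n < 0 → ℬ n = ⊥) (h0S : ℬ 0 = Submodule.span k {(1 : S)})
    (hT : GrSeg.IsSegreRing 𝒜 ℬ 𝒯 ψ)
    (mR : HomogeneousIdeal 𝒜) (hmR : mR.toIdeal = Ideal.span (⋃ n ∈ Set.Ioi (0 : ℤ), (𝒜 n : Set R)))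
    (mS : HomogeneousIdeal ℬ) (hmS : mS.toIdeal = Ideal.span (⋃ n ∈ Set.Ioi (0 : ℤ), (ℬ n : Set S)))
    (mT : HomogeneousIdeal 𝒯) (hmT : mT.toIdeal = Ideal.span (⋃ n ∈ Set.Ioi (0 : ℤ), (𝒯 n : Set T)))
    (EM : GrLC.StarInjRes 𝒜 ℳ) (EN : GrLC.StarInjRes ℬ 𝒩) (hP : GrSeg.IsSegreMod ψ ℳ 𝒩 𝒬 φ)
    (EP : GrLC.StarInjRes 𝒯 𝒬) (g : ℤ) (hM : ∀ q ≤ 1, EM.Hcomp mR q g = ⊥) (hN : ∀ q ≤ 1, EN.Hcomp mS q g = ⊥)
    (q : ℕ) :
    Module.finrank (GrLC.deg0 𝒯) (EP.Hcomp mT q g) =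
      Module.finrank (GrLC.deg0 𝒜) (GrLC.comp 𝒜 ℳ g) * Module.finrank (GrLC.deg0 ℬ) (EN.Hcomp mS q g) +
        Module.finrank (GrLC.deg0 𝒜) (EM.Hcomp mR q g) * Module.finrank (GrLC.deg0 ℬ) (GrLC.comp ℬ 𝒩 g) +
        ∑ i ∈ Finset.range (q + 2), Module.finrank (GrLC.deg0 𝒜) (EM.Hcomp mR i g) *
          Module.finrank (GrLC.deg0 ℬ) (EN.Hcomp mS (q + 1 - i) g) := by
  obtain ⟨cA, cB, hA0, hB0, hA, hB, h0, h1, h2⟩ := kunneth_presented hposR h0R hposS h0S hT mR hmR mS hmS mT hmT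
    EM EN hP EP g (hM 0 zero_le_one) (hN 0 zero_le_one)
  have zA : ∀ p ≤ 1, Module.finrank (GrLC.deg0 𝒜) (EM.Hcomp mR p g) = 0 := fun p hp => by
    rw [hM p hp]; exact finrank_bot _ _
  have zB : ∀ p ≤ 1, Module.finrank (GrLC.deg0 ℬ) (EN.Hcomp mS p g) = 0 := fun p hp => by
    rw [hN p hp]; exact finrank_bot _ _
  rw [zA 1 le_rfl, add_zero] at hA0
  rw [zB 1 le_rfl, add_zero] at hB0
  rcases q with _ | _ | q
  · simp [h0, zA 0 zero_le_one, zB 0 zero_le_one, zA 1 le_rfl, Finset.sum_range_succ]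
  · rw [hA0, hB0] at h1
    have h1' : Module.finrank (GrLC.deg0 𝒯) (EP.Hcomp mT 1 g) = 0 := by omega
    simp [h1', zA 0 zero_le_one, zB 0 zero_le_one, zA 1 le_rfl, zB 1 le_rfl, Finset.sum_range_succ]
  · rw [h2, Finset.sum_range_succ' (fun p => cA p * cB (q + 1 - p)), Finset.sum_range_succ, Nat.sub_zero,
      hA0, hB, show q + 1 - (q + 1) = 0 by omega, hB0, hA,
      Finset.sum_range_succ' (fun i => Module.finrank (GrLC.deg0 𝒜) (EM.Hcomp mR i g) *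
        Module.finrank (GrLC.deg0 ℬ) (EN.Hcomp mS (q + 2 + 1 - i) g)),
      Finset.sum_range_succ' _ (q + 2), Finset.sum_range_succ, Finset.sum_range_succ]
    rw [zA 0 zero_le_one, zA 1 le_rfl, show q + 2 + 1 - (q + 1 + 1) = 1 by omega,
      show q + 2 + 1 - (q + 1 + 1 + 1) = 0 by omega, zB 0 zero_le_one, zB 1 le_rfl,
      show (q + 1 + 1) = q + 2 from rfl]
    simp only [zero_mul, mul_zero, add_zero]
    have hsum : ∑ p ∈ Finset.range q, cA (p + 1) * cB (q + 1 - (p + 1)) =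
        ∑ p ∈ Finset.range q, Module.finrank (GrLC.deg0 𝒜) (EM.Hcomp mR (p + 1 + 1) g) *
          Module.finrank (GrLC.deg0 ℬ) (EN.Hcomp mS (q + 2 + 1 - (p + 1 + 1)) g) :=
      Finset.sum_congr rfl fun p hp => by
        rw [Finset.mem_range] at hp
        rw [hA, show q + 1 - (p + 1) = (q - p - 1) + 1 by omega, hB,
          show q + 2 + 1 - (p + 1 + 1) = q - p - 1 + 2 by omega]
    rw [hsum]
    ring

end Groth.Agent.H4KS
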