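import Groth.Agent.H4KS.App

/-!
# The Künneth formula above degree one, for modules with arbitrary torsion
-/

set_option autoImplicit false
set_option linter.unusedSectionVars false
set_option linter.style.haveILetI false

universe u

open DirectSum
open scoped TensorProduct

namespace Groth.Agent.H4KS

variable {k : Type u} [Field k]

section SES

variable {V W : Type u} [AddCommGroup V] [Module k V] [AddCommGroup W] [Module k W]
variable {e : ℕ → V →ₗ[k] V} {d : V →ₗ[k] V} (G : IsGC e d)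
  {eW : ℕ → W →ₗ[k] W} {dW : W →ₗ[k] W} (GW : IsGC eW dW)
  {P : V →ₗ[k] W} (hP : Function.Surjective P) (hPe : ∀ a x, P (e a x) = eW a (P x))
  (hPd : ∀ x, P (d x) = dW (P x))
  (hac : ∀ n, ∀ x ∈ zc e d (n + 1), x ∈ LinearMap.range d)

include G GW hP hPe hPd hac in
/-- Cohomology of the kernel above degree one, and finiteness in degree zero. -/
theorem coh_ker_high :
    ((FiniteDimensional k (zc e d 0) ∧ FiniteDimensional k (cohSub e d (LinearMap.ker P) 1)) →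
      FiniteDimensional k (zc eW dW 0)) ∧
    (∀ n, Nonempty (coh eW dW (n + 1) ≃ₗ[k] cohSub e d (LinearMap.ker P) (n + 2))) := by
  have hsurj : ∀ n (δ : zc eW dW n →ₗ[k] cohSub e d (LinearMap.ker P) (n + 1)),
      (∀ (z : zc eW dW n) (w : V), e n w = w → P w = z → ∀ x : zs e d (LinearMap.ker P) (n + 1),
        (x : V) = d w → δ z = Submodule.Quotient.mk x) → Function.Surjective δ := by
    intro n δ hδ y
    obtain ⟨x, rfl⟩ := Submodule.Quotient.mk_surjective _ y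
    obtain ⟨v, hv⟩ := hac n x x.2.2
    have hv' : d (e n v) = (x : V) := by rw [G.de, hv, G.e_of_mem x.2.2.1]
    have hz : P (e n v) ∈ zc eW dW n :=
      ⟨⟨P v, (hPe n v).symm⟩, by rw [SetLike.mem_coe, LinearMap.mem_ker, ← hPd, hv']; exact x.2.1⟩
    exact ⟨⟨_, hz⟩, hδ ⟨_, hz⟩ (e n v) (G.idem n v) rfl x hv'.symm⟩
  have hlift : ∀ n (δ : zc eW dW n →ₗ[k] cohSub e d (LinearMap.ker P) (n + 1)),
      (∀ (z : zc eW dW n) (w : V), e n w = w → P w = z → ∀ x : zs e d (LinearMap.ker P) (n + 1),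
        (x : V) = d w → δ z = Submodule.Quotient.mk x) →
      ∀ z, δ z = 0 ↔ ∃ w ∈ zc e d n, P w = (z : W) := by
    intro n δ hδ z
    obtain ⟨v, hv⟩ := hP (z : W)
    have hw : P (e n v) = (z : W) := by rw [hPe, hv, GW.e_of_mem z.2.1]
    have hx : d (e n v) ∈ zs e d (LinearMap.ker P) (n + 1) :=
      ⟨by rw [SetLike.mem_coe, LinearMap.mem_ker, hPd, hw]; exact z.2.2, ⟨d v, (G.de n v).symm⟩, G.dd _⟩
    rw [hδ z (e n v) (G.idem n v) hw ⟨_, hx⟩ rfl, Submodule.Quotient.mk_eq_zero]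
    constructor
    · rintro ⟨-, c, hc, hcd⟩
      refine ⟨e n v - e n c, ⟨⟨v - c, map_sub _ _ _⟩, ?_⟩, ?_⟩
      · have hcd' : d c = d (e n v) := hcd
        rw [SetLike.mem_coe, LinearMap.mem_ker, map_sub, G.de n c, hcd', G.e_of_mem hx.2.1, sub_self]
      · rw [map_sub, hPe n c, LinearMap.mem_ker.1 hc, map_zero, sub_zero, hw]
    · rintro ⟨w, hwz, hwP⟩
      refine ⟨hx.2.1, e n v - w, ?_, ?_⟩
      · show P (e n v - w) = 0
        rw [map_sub, hw, hwP, sub_self]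
      · show d (e n v - w) = d (e n v)
        rw [map_sub, LinearMap.mem_ker.1 hwz.2, sub_zero]
  refine ⟨fun hfin => ?_, fun n => ?_⟩
  · obtain ⟨δ, hδ⟩ := exists_connecting G GW hP hPe hPd 0
    haveI := hfin.1
    haveI := hfin.2
    let ι : zc e d 0 →ₗ[k] zc eW dW 0 :=
      (P ∘ₗ (zc e d 0).subtype).codRestrict _ fun w =>
        ⟨⟨P w, by rw [← hPe, G.e_of_mem w.2.1]; rfl⟩, by
          show dW (P w) = 0
          rw [← hPd, LinearMap.mem_ker.1 w.2.2, map_zero]⟩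
    have hker : LinearMap.ker δ = LinearMap.range ι := by
      ext z
      rw [LinearMap.mem_ker, hlift 0 δ hδ]
      exact ⟨fun ⟨w, hw, h⟩ => ⟨⟨w, hw⟩, Subtype.ext h⟩, fun ⟨w, hw⟩ => ⟨w, w.2, congrArg Subtype.val hw⟩⟩
    haveI : FiniteDimensional k (LinearMap.ker δ) := by rw [hker]; infer_instance
    haveI : FiniteDimensional k (zc eW dW 0 ⧸ LinearMap.ker δ) :=
      Module.Finite.equiv (δ.quotKerEquivOfSurjective (hsurj 0 δ hδ)).symm
    exact Module.Finite.of_submodule_quotient (LinearMap.ker δ)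
  · obtain ⟨δ, hδ⟩ := exists_connecting G GW hP hPe hPd (n + 1)
    have hker : LinearMap.ker δ = (bc eW dW (n + 1)).comap (zc eW dW (n + 1)).subtype := by
      ext z
      rw [LinearMap.mem_ker, hlift (n + 1) δ hδ]
      constructor
      · rintro ⟨w, hw, hwP⟩
        obtain ⟨v, rfl⟩ := hac n w hw
        exact ⟨z.2.1, P v, by rw [← hPd, hwP]; rfl⟩
      · rintro ⟨-, u, hu⟩
        obtain ⟨v, rfl⟩ := hP u
        refine ⟨d (e n v), ⟨⟨d v, (G.de n v).symm⟩, G.dd _⟩, ?_⟩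
        rw [G.de, hPe, hPd, hu]
        exact GW.e_of_mem z.2.1
    exact ⟨(Submodule.quotEquivOfEq _ _ hker.symm).trans (δ.quotKerEquivOfSurjective (hsurj (n + 1) δ hδ))⟩

end SES

section One

variable {R : Type u} [CommRing R] [IsNoetherianRing R] [Algebra k R] {𝒜 : ℤ → Submodule k R} [GradedAlgebra 𝒜]
  {M : Type u} [AddCommGroup M] [Module R M] {ℳ : ℤ → AddSubgroup M} [Decomposition ℳ]
  [SetLike.GradedSMul (addGr 𝒜) ℳ] (a : HomogeneousIdeal (addGr 𝒜)) (E : GrLC.StarInjRes (addGr 𝒜) ℳ) (g : ℤ)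
  (h0R : 𝒜 0 = Submodule.span k {(1 : R)}) [Nontrivial R]
  (hpos : ∀ n : ℤ, n < 0 → 𝒜 n = ⊥)
  (ha : a.toIdeal = Ideal.span (⋃ n ∈ Set.Ioi (0 : ℤ), (𝒜 n : Set R)))

include h0R hpos ha in
theorem dims_Q_high [Module.Finite R M] :
    (∀ n, FiniteDimensional k (coh (eQ a E g) (dQ a E g) n)) ∧
    ∀ n, Module.finrank k (coh (eQ a E g) (dQ a E g) (n + 1)) =
      Module.finrank (GrLC.deg0 (addGr 𝒜)) (E.Hcomp a (n + 2) g) := by
  obtain ⟨h1, h2⟩ := coh_ker_high (isGC_A E g) (isGC_Q a E g) (P := (gamK g (sumX E.X) a.toIdeal).mkQ)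
    (Submodule.mkQ_surjective _) (fun _ _ => rfl) (fun _ => rfl) (fun n x hx => exact_A E g n hx)
  obtain ⟨hf0, -⟩ := finrank_zc_zero (k := k) E g h0R
  have hfW := h1 ⟨hf0, (finrank_cohSub a E g h0R 1).2 (finite_Hcomp a E g hpos ha 1)⟩
  refine ⟨fun n => ?_, fun n => ?_⟩
  · cases n with
    | zero => exact (finrank_coh_zero (isGC_Q a E g)).2 hfW
    | succ n =>
      obtain ⟨e⟩ := h2 n
      haveI := (finrank_cohSub a E g h0R (n + 2)).2 (finite_Hcomp a E g hpos ha (n + 2))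
      exact Module.Finite.equiv e.symm
  · obtain ⟨e⟩ := h2 n
    rw [e.finrank_eq, (finrank_cohSub a E g h0R (n + 2)).1]

end One

variable {R : Type u} [CommRing R] [Algebra k R] {𝒜 : ℤ → Submodule k R} [GradedAlgebra 𝒜]
  {S : Type u} [CommRing S] [Algebra k S] {ℬ : ℤ → Submodule k S} [GradedAlgebra ℬ]
  {T : Type u} [CommRing T] [Algebra k T] {𝒯 : ℤ → Submodule k T} [GradedAlgebra 𝒯]
  {ψ : T →ₐ[k] R ⊗[k] S}
variable {M : Type u} [AddCommGroup M] [Module R M] [Module k M] [IsScalarTower k R M] {ℳ : ℤ → AddSubgroup M}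
  [Decomposition ℳ] [SetLike.GradedSMul 𝒜 ℳ]
  {N : Type u} [AddCommGroup N] [Module S N] [Module k N] [IsScalarTower k S N] {𝒩 : ℤ → AddSubgroup N}
  [Decomposition 𝒩] [SetLike.GradedSMul ℬ 𝒩]
  {P : Type u} [AddCommGroup P] [Module T P] [Module k P] [IsScalarTower k T P] {𝒬 : ℤ → AddSubgroup P}
  [Decomposition 𝒬] {φ : P →ₗ[k] M ⊗[k] N}

/-- The formula in degrees at least two, with no assumption on the torsion of the factors. -/
theorem kunneth_high [SetLike.GradedSMul 𝒯 𝒬] [Nontrivial R] [Nontrivial S] [Algebra.FiniteType k R]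
    [Algebra.FiniteType k S] [Module.Finite R M] [Module.Finite S N]
    (hposR : ∀ n : ℤ, n < 0 → 𝒜 n = ⊥) (h0R : 𝒜 0 = Submodule.span k {(1 : R)})
    (hposS : ∀ n : ℤ, n < 0 → ℬ n = ⊥) (h0S : ℬ 0 = Submodule.span k {(1 : S)})
    (hT : GrSeg.IsSegreRing 𝒜 ℬ 𝒯 ψ)
    (mR : HomogeneousIdeal 𝒜) (hmR : mR.toIdeal = Ideal.span (⋃ n ∈ Set.Ioi (0 : ℤ), (𝒜 n : Set R)))
    (mS : HomogeneousIdeal ℬ) (hmS : mS.toIdeal = Ideal.span (⋃ n ∈ Set.Ioi (0 : ℤ), (ℬ n : Set S)))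
    (mT : HomogeneousIdeal 𝒯) (hmT : mT.toIdeal = Ideal.span (⋃ n ∈ Set.Ioi (0 : ℤ), (𝒯 n : Set T)))
    (EM : GrLC.StarInjRes 𝒜 ℳ) (EN : GrLC.StarInjRes ℬ 𝒩) (hP : GrSeg.IsSegreMod ψ ℳ 𝒩 𝒬 φ)
    (EP : GrLC.StarInjRes 𝒯 𝒬) (g : ℤ) :
    ∃ cA cB : ℕ → ℕ,
      (∀ n, cA (n + 1) = Module.finrank (GrLC.deg0 𝒜) (EM.Hcomp mR (n + 2) g)) ∧
      (∀ n, cB (n + 1) = Module.finrank (GrLC.deg0 ℬ) (EN.Hcomp mS (n + 2) g)) ∧
      ∀ q, Module.finrank (GrLC.deg0 𝒯) (EP.Hcomp mT (q + 2) g) =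
        ∑ p ∈ Finset.range (q + 2), cA p * cB (q + 1 - p) := by
  haveI : SegreHom ψ 𝒜 ℬ 𝒯 := ⟨hT⟩
  haveI : IsNoetherianRing R := Algebra.FiniteType.isNoetherianRing k R
  haveI : IsNoetherianRing S := Algebra.FiniteType.isNoetherianRing k S
  haveI := isNoetherianRing_T hT
  haveI := nontrivial_T hT
  obtain ⟨r, dR, hdR, hr⟩ := exists_degree_params hposR h0R
  obtain ⟨s, dS, hdS, hs⟩ := exists_degree_params hposS h0S
  obtain ⟨f, hf, hfrad⟩ := hr dS hdS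
  obtain ⟨f', hf', hfrad'⟩ := hs dR hdR
  rw [mul_comm dS dR] at hf'
  let PR : Params (𝒜 := 𝒜) (ℬ := ℬ) (idealA 𝒜 mR).toIdeal (idealA ℬ mS).toIdeal :=
    { r := r, s := s, f := f, g := f', deg := ((dR * dS : ℕ) : ℤ),
      pos := by exact_mod_cast Nat.mul_pos hdR hdS
      hf := hf, hg := hf',
      radR := (le_of_eq hmR).trans hfrad, radS := (le_of_eq hmS).trans hfrad' }
  obtain ⟨j, hj, hjb⟩ := exists_segre_iso (ψ := ψ) (𝒯 := 𝒯) (𝒜 := 𝒜) (ℬ := ℬ) hP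
  obtain ⟨hfA, hA⟩ := dims_Q_high (k := k) (idealA 𝒜 mR) (resA 𝒜 ℳ EM) g h0R hposR hmR
  obtain ⟨hfB, hB⟩ := dims_Q_high (k := k) (idealA ℬ mS) (resA ℬ 𝒩 EN) g h0S hposS hmS
  set a := idealA 𝒜 mR
  set b := idealA ℬ mS
  set E := resA 𝒜 ℳ EM
  set F := resA ℬ 𝒩 EN
  have GA := isGC_A (k := k) E g
  have GB := isGC_A (k := k) F g
  obtain ⟨hex, -⟩ := exact_tensor GA GB (sA_eA E g) (fun n x hx => exact_A E g n hx) (fun n x hx => exact_A F g n hx)
  obtain ⟨-, h2⟩ := coh_ker_high (P := redT a E b F g) (isGC_tensor GA GB (sA_eA E g))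
    (isGC_tensor (isGC_Q (k := k) a E g) (isGC_Q b F g) (sQ_eQ a E g))
    (TensorProduct.map_surjective (Submodule.mkQ_surjective _) (Submodule.mkQ_surjective _))
    (redT_eT a E b F g) (redT_dT a E b F g) hex
  have hK := finrank_coh_tensor (isGC_Q (k := k) a E g) (isGC_Q b F g) (sQ_eQ a E g) hfA hfB
  refine ⟨fun p => Module.finrank k (coh (eQ a E g) (dQ (k := k) a E g) p),
    fun p => Module.finrank k (coh (eQ b F g) (dQ (k := k) b F g) p), fun n => ?_, fun n => ?_, fun q => ?_⟩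
  · rw [finrank_Hcomp_resA]; exact hA n
  · rw [finrank_Hcomp_resA]; exact hB n
  · obtain ⟨i, hi⟩ := exists_cohSub_equiv_Hcomp_seg ψ a E b F (idealA 𝒯 mT) (resA 𝒯 𝒬 EP) g j hj hjb hmR hmS hmT PR (q + 2)
    obtain ⟨e⟩ := h2 q
    rw [finrank_Hcomp_resA, ← (finrank_transfer _ (bijective_deg0 (deg0_segre hT h0R h0S)) i hi).1, ← e.finrank_eq,
      (hK (q + 1)).2]

end Groth.Agent.H4KS
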