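import Groth.Agent.H4KS.App

/-!
# The algebras as modules over themselves
-/

set_option autoImplicit false
set_option linter.unusedSectionVars false
set_option linter.style.haveILetI false

universe u

open DirectSum
open scoped TensorProduct

namespace Groth.Agent.H4KS

variable {k : Type u} [Field k] {R : Type u} [CommRing R] [Algebra k R] {𝒜 : ℤ → Submodule k R} [GradedAlgebra 𝒜]
  {S : Type u} [CommRing S] [Algebra k S] {ℬ : ℤ → Submodule k S} [GradedAlgebra ℬ]
  {T : Type u} [CommRing T] [Algebra k T] {𝒯 : ℤ → Submodule k T} [GradedAlgebra 𝒯]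
  {ψ : T →ₐ[k] R ⊗[k] S}

instance instGradedSMulAddGrSelf : SetLike.GradedSMul 𝒜 (addGr 𝒜) :=
  ⟨fun {_ _ _ _} ha hb => SetLike.GradedMul.mul_mem (A := 𝒜) ha hb⟩

/-- A resolution of the algebra with pieces viewed as additive subgroups. -/
def selfRes (I : GrLC.StarInjRes 𝒜 𝒜) : GrLC.StarInjRes 𝒜 (addGr 𝒜) :=
  { X := I.X, d := I.d, ε := I.ε, d_grHom := I.d_grHom, ε_grHom := I.ε_grHom, ε_injective := I.ε_injective,
    exact_zero := I.exact_zero, exact_succ := I.exact_succ, starInj := I.starInj }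

theorem finrank_comp_self [Nontrivial R] (h0R : 𝒜 0 = Submodule.span k {(1 : R)}) (g : ℤ) :
    Module.finrank (GrLC.deg0 𝒜) (GrLC.comp 𝒜 (addGr 𝒜) g) = Module.finrank k (𝒜 g) := by
  rw [finrank_comp_addGr]
  let j : 𝒜 g ≃+ GrLC.comp (addGr 𝒜) (addGr 𝒜) g :=
    { toFun := fun x => ⟨x.1, x.2⟩, invFun := fun x => ⟨x.1, x.2⟩, map_add' := fun _ _ => rfl }
  exact ((finrank_transfer _ (bijective_deg0 h0R) j fun c x => Subtype.ext (Algebra.smul_def c (x : R))).1).symm

theorem isSegreMod_self (hT : GrSeg.IsSegreRing 𝒜 ℬ 𝒯 ψ) :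
    GrSeg.IsSegreMod ψ (addGr 𝒜) (addGr ℬ) (addGr 𝒯) ψ.toLinearMap where
  injective := hT.1
  image_piece n := by
    show ψ.toLinearMap '' (𝒯 n : Set T) = _
    rw [← Submodule.map_coe, hT.2 n]
    rfl
  map_smul t p := by rw [H4Segre.act_self]; exact map_mul ψ t p

end Groth.Agent.H4KS
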