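import Groth.Agent.H4KS.Dual
import Groth.Agent.H4KS.High
import Groth.Agent.H4KS.Self
import Groth.Agent.H4Gr.Dim

/-!
# Canonical modules of Segre products
-/

set_option autoImplicit false
set_option linter.unusedSectionVars false
set_option linter.style.haveILetI false

universe u

open DirectSum

namespace Groth.Agent.H4KS

variable {k : Type u} [Field k] {R : Type u} [CommRing R] [Algebra k R] {𝒜 : ℤ → Submodule k R} [GradedAlgebra 𝒜]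
  [Nontrivial R] [Algebra.FiniteType k R] [IsNoetherianRing R]
  (hpos : ∀ n : ℤ, n < 0 → 𝒜 n = ⊥) (h0 : 𝒜 0 = Submodule.span k {(1 : R)})
  (m : HomogeneousIdeal 𝒜) (hm : m.toIdeal = Ideal.span (⋃ n ∈ Set.Ioi (0 : ℤ), (𝒜 n : Set R)))

include hpos h0 hm in
theorem finrank_canonical {n : ℕ} (I : GrLC.StarInjRes 𝒜 𝒜)
    {E : Type u} [AddCommGroup E] [Module R E] {𝓔 : ℤ → AddSubgroup E} [Decomposition 𝓔] [SetLike.GradedSMul 𝒜 𝓔]
    {e : (R ⧸ m.toIdeal) →ₗ[R] E} (he : GrLC.IsStarInjHull 𝒜 (GrLC.quotGr 𝒜 m) 𝓔 e)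
    {C : Type u} [AddCommGroup C] [Module R C] {𝒞 : ℤ → AddSubgroup C} [Decomposition 𝒞] [SetLike.GradedSMul 𝒜 𝒞]
    (hC : GrLC.IsStarCanonical 𝒜 𝒞 𝓔 m n I) (d : ℤ) :
    Module.finrank (GrLC.deg0 𝒜) (GrLC.comp 𝒜 𝒞 d) = Module.finrank (GrLC.deg0 𝒜) (I.Hcomp m n (-d)) := by
  obtain ⟨hfin, φ, hφ⟩ := hC
  have hpos' : ∀ i : ℤ, i < 0 → addGr 𝒜 i = ⊥ := fun i hi =>
    (AddSubgroup.eq_bot_iff_forall _).2 fun x hx => (Submodule.eq_bot_iff _).1 (hpos i hi) x hx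
  have he' : GrLC.IsStarEss (GrLC.quotGr (addGr 𝒜) (idealA 𝒜 m)) 𝓔 e :=
    ⟨he.injective, fun i x hx => he.grHom i x hx, he.essential⟩
  have h := finrank_Hcomp_canonical (𝒜 := addGr 𝒜) hpos' (isField_deg0 h0) (idealA 𝒜 m) hm he'
    ((starInj_iff 𝒜 𝓔).2 he.starInj) n (resA 𝒜 (addGr 𝒜) (selfRes I)) φ hφ (-d)
  rw [neg_neg] at h
  rw [finrank_comp_addGr]
  exact h.symm.trans (finrank_Hcomp_resA (selfRes I) m n (-d)).symm

include hm in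
theorem finrank_Hcomp_self_eq_zero {n i : ℕ} (hn : ringKrullDim R = n) (hi : n < i) (I : GrLC.StarInjRes 𝒜 𝒜) (d : ℤ) :
    Module.finrank (GrLC.deg0 𝒜) (I.Hcomp m i d) = 0 := by
  have h : (selfRes I).Hcomp m i d = ⊥ := (Hcomp_resA_eq_bot_iff (selfRes I) m i d).1
    ((Submodule.eq_bot_iff _).2 fun x _ => H4Gr.H_eq_zero_of_dim_lt (idealA 𝒜 m) hn.le hi _ x)
  rw [show I.Hcomp m i d = ⊥ from h]
  exact finrank_bot _ _

end Groth.Agent.H4KS
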