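import Groth.Agent.H4Gr.Lift
import Groth.Agent.H4Gr.LES
import Groth.Agent.H4Gr.Acyclic
import Groth.Agent.H4LC.Shift
import Groth.Agent.H4LC.CdDim

/-!
# Acyclic graded resolutions compute graded local cohomology
-/

set_option autoImplicit false
set_option linter.unusedSectionVars false

universe u

open DirectSum CategoryTheory

namespace Groth.Agent.H4KS

section Gamma

variable {R : Type u} [CommRing R] [IsNoetherianRing R] (I : Ideal R)
  (C : ℕ → Type u) [∀ n, AddCommGroup (C n)] [∀ n, Module R (C n)] (d : ∀ n, C n →ₗ[R] C (n + 1))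

/-- Torsion is exact on exact acyclic complexes bounded below. -/
theorem exists_torsion_preimage (hd₀ : Function.Injective (d 0))
    (hex : ∀ n, Function.Exact (d n) (d (n + 1)))
    (hacy : ∀ n i, Subsingleton (LocCoh.H I (i + 1) (C n))) (n : ℕ) (y : C (n + 1))
    (hy : y ∈ DRing.torsionSub I (C (n + 1))) (hdy : d (n + 1) y = 0) :
    ∃ c ∈ DRing.torsionSub I (C n), d n c = y := by
  have hK : ∀ m i, Subsingleton (LocCoh.H I (i + 1) (LinearMap.ker (d m))) := by
    intro m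
    induction m with
    | zero =>
      intro i
      have : Subsingleton (LinearMap.ker (d 0)) := ⟨fun a b => Subtype.ext (hd₀ (a.2.trans b.2.symm))⟩
      exact H4LC.subsingleton_H_of_isPowerTorsion I (i + 1) _
        (fun x => ⟨0, fun r _ => Subsingleton.elim _ _⟩) i.succ_pos
    | succ m ih =>
      intro i
      exact H4LC.subsingleton_H_right I (LinearMap.ker (d m)).injective_subtype
        (H4LC.toCocycle_surjective C d hex m) (H4LC.exact_toCocycle C d hex m) (i + 1) (hacy m i) (ih (i + 1))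
  let g := H4LC.toCocycle C d hex n
  have hgs : Function.Surjective (H4LC.Hmap I g 0) := fun w =>
    (H4LC.exactH₃ I (LinearMap.ker (d n)).injective_subtype (H4LC.toCocycle_surjective C d hex n)
      (H4LC.exact_toCocycle C d hex n) 0 w).1 (@Subsingleton.elim _ (hK n 0) _ _)
  obtain ⟨w, hw⟩ := hgs ((H4LC.zeroEquiv I _).symm ⟨⟨y, hdy⟩, H4LC.mem_torsionSub_ker I C d hdy hy⟩)
  refine ⟨(H4LC.zeroEquiv I _ w).1, (H4LC.zeroEquiv I _ w).2, ?_⟩
  have h := H4LC.zeroEquiv_naturality I g w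
  rw [hw, LinearEquiv.apply_symm_apply] at h
  exact (congrArg Subtype.val h).symm

end Gamma

section Compare

variable {R : Type u} [CommRing R] [IsNoetherianRing R] {ι : Type} [AddCommGroup ι] [DecidableEq ι]
  {𝒜 : ι → AddSubgroup R} [GradedRing 𝒜]
variable {M : Type u} [AddCommGroup M] [Module R M] {ℳ : ι → AddSubgroup M} [Decomposition ℳ]
  [SetLike.GradedSMul 𝒜 ℳ]
variable (a : HomogeneousIdeal 𝒜) (P : H4Gr.Res 𝒜 ℳ) (E : GrLC.StarInjRes 𝒜 ℳ)

/-- Acyclic resolutions compute graded local cohomology. -/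
theorem exists_comparison (hacy : ∀ n i, Subsingleton (LocCoh.H a.toIdeal (i + 1) (P.X n).carrier)) :
    ∃ φ : ∀ n, (P.X n).carrier →ₗ[R] (E.X n).carrier,
      (∀ n, GrLC.IsGrHom (P.X n).gr (E.X n).gr (φ n)) ∧
      (∀ n x, φ (n + 1) (P.d n x) = E.d n (φ n x)) ∧
      (∀ n x, x ∈ GrLC.gam a.toIdeal (P.X n).carrier → P.d n x = 0 → φ n x ∈ E.cocyc a n) ∧
      (∀ n (g : ι) (z : E.cocyc a n), (z : (E.X n).carrier) ∈ (E.X n).gr g →
        ∃ x, x ∈ GrLC.gam a.toIdeal (P.X n).carrier ∧ P.d n x = 0 ∧ x ∈ (P.X n).gr g ∧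
          φ n x - z ∈ E.cobdy a n) ∧
      (∀ x, P.d 0 x = 0 → φ 0 x = 0 → x = 0) ∧
      (∀ n x, x ∈ GrLC.gam a.toIdeal (P.X (n + 1)).carrier → P.d (n + 1) x = 0 →
        φ (n + 1) x ∈ E.cobdy a (n + 1) →
        ∃ y, y ∈ GrLC.gam a.toIdeal (P.X n).carrier ∧ P.d n y = x) := by
  obtain ⟨φ, hφ⟩ := H4Gr.exists_lift P (H4Gr.Res.ofStar E) E.starInj (LinearMap.id : M →ₗ[R] M)
    H4Gr.isGrHomDeg_id
  have hdeg : ∀ n, GrLC.IsGrHom (P.X n).gr (E.X n).gr (φ n) := fun n => H4Gr.isGrHomDeg_zero_iff.1 (hφ.deg n)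
  have hcomm : ∀ n x, φ (n + 1) (P.d n x) = E.d n (φ n x) := hφ.comm
  have hcomm₀ : ∀ m, φ 0 (P.ε m) = E.ε m := hφ.comm₀
  have hPdd : ∀ n x, P.d (n + 1) (P.d n x) = 0 := fun n x =>
    LinearMap.mem_ker.1 ((P.exact_succ n).ge ⟨x, rfl⟩)
  have hEdd : ∀ n x, E.d (n + 1) (E.d n x) = 0 := fun n x =>
    LinearMap.mem_ker.1 ((E.exact_succ n).ge ⟨x, rfl⟩)
  let C : ℕ → ModuleCat.{u} R := fun n => match n with
    | 0 => ModuleCat.of R (P.X 0).carrier
    | n + 1 => ModuleCat.of R ((P.X (n + 1)).carrier × (E.X n).carrier)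
  let D : ∀ n, (C n : Type u) →ₗ[R] (C (n + 1) : Type u) := fun n => match n with
    | 0 => (-P.d 0).prod (φ 0)
    | n + 1 => (-(P.d (n + 1) ∘ₗ LinearMap.fst R _ _)).prod
        (φ (n + 1) ∘ₗ LinearMap.fst R _ _ + E.d n ∘ₗ LinearMap.snd R _ _)
  have hD₀ : ∀ x, P.d 0 x = 0 → φ 0 x = 0 → x = 0 := fun x h1 h2 => by
    obtain ⟨m, rfl⟩ := P.exact_zero.le h1
    rw [hcomm₀] at h2
    rw [E.ε_injective (h2.trans (map_zero E.ε).symm), map_zero]
  have hD0i : Function.Injective (D 0) := (injective_iff_map_eq_zero (D 0)).2 fun x hx =>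
    hD₀ x (neg_eq_zero.1 (congrArg Prod.fst hx)) (congrArg Prod.snd hx)
  have hex : ∀ n, Function.Exact (D n) (D (n + 1)) := by
    intro n
    cases n with
    | zero =>
      rintro ⟨x, e⟩
      constructor
      · intro h
        have h1 : P.d 1 x = 0 := neg_eq_zero.1 (congrArg Prod.fst h)
        have h2 : φ 1 x + E.d 0 e = 0 := congrArg Prod.snd h
        obtain ⟨x₀, rfl⟩ := (P.exact_succ 0).le h1
        rw [hcomm, ← map_add] at h2
        obtain ⟨m, hm⟩ := E.exact_zero.le h2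
        refine ⟨-x₀ + P.ε m, Prod.ext ?_ ?_⟩
        · show -P.d 0 (-x₀ + P.ε m) = P.d 0 x₀
          rw [map_add, map_neg, LinearMap.mem_ker.1 (P.exact_zero.ge ⟨m, rfl⟩), add_zero, neg_neg]
        · show φ 0 (-x₀ + P.ε m) = e
          rw [map_add, map_neg, hcomm₀, hm, neg_add_cancel_left]
      · rintro ⟨w, hw⟩
        rw [← hw]
        refine Prod.ext ?_ ?_
        · show -P.d 1 (-P.d 0 w) = 0
          rw [map_neg, hPdd, neg_zero, neg_zero]
        · show φ 1 (-P.d 0 w) + E.d 0 (φ 0 w) = 0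
          rw [map_neg, hcomm, neg_add_cancel]
    | succ n =>
      rintro ⟨x, e⟩
      constructor
      · intro h
        have h1 : P.d (n + 2) x = 0 := neg_eq_zero.1 (congrArg Prod.fst h)
        have h2 : φ (n + 2) x + E.d (n + 1) e = 0 := congrArg Prod.snd h
        obtain ⟨x₀, rfl⟩ := (P.exact_succ (n + 1)).le h1
        rw [hcomm, ← map_add] at h2
        obtain ⟨e₀, he₀⟩ := (E.exact_succ n).le h2
        refine ⟨(-x₀, e₀), Prod.ext ?_ ?_⟩
        · show -P.d (n + 1) (-x₀) = P.d (n + 1) x₀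
          rw [map_neg, neg_neg]
        · show φ (n + 1) (-x₀) + E.d n e₀ = e
          rw [map_neg, he₀, neg_add_cancel_left]
      · rintro ⟨⟨w, e₀⟩, hw⟩
        rw [← hw]
        refine Prod.ext ?_ ?_
        · show -P.d (n + 2) (-P.d (n + 1) w) = 0
          rw [map_neg, hPdd, neg_zero, neg_zero]
        · show φ (n + 2) (-P.d (n + 1) w) + E.d (n + 1) (φ (n + 1) w + E.d n e₀) = 0
          rw [map_neg, hcomm, map_add, hEdd, add_zero, neg_add_cancel]
  have hCacy : ∀ n i, Subsingleton (LocCoh.H a.toIdeal (i + 1) (C n)) := by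
    intro n i
    cases n with
    | zero => exact hacy 0 i
    | succ n =>
      exact H4LC.subsingleton_H_mid a.toIdeal
        (f := LinearMap.inl R (P.X (n + 1)).carrier (E.X n).carrier) (g := LinearMap.snd R _ _)
        LinearMap.inl_injective LinearMap.snd_surjective Function.Exact.inl_snd (i + 1)
        (hacy (n + 1) i) (H4Gr.subsingleton_H_of_isStarInj a (E.starInj n) i)
  have hmain := exists_torsion_preimage a.toIdeal (fun n => C n) D hD0i hex hCacy
  have hfst : ∀ n (c : C (n + 1)), c ∈ DRing.torsionSub a.toIdeal (C (n + 1)) →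
      c.1 ∈ GrLC.gam a.toIdeal (P.X (n + 1)).carrier ∧ c.2 ∈ GrLC.gam a.toIdeal (E.X n).carrier := by
    rintro n c ⟨N, hN⟩
    exact ⟨⟨N, fun r hr => congrArg Prod.fst (hN r hr)⟩, ⟨N, fun r hr => congrArg Prod.snd (hN r hr)⟩⟩
  have hpair : ∀ n (x : (P.X (n + 1)).carrier) (e : (E.X n).carrier),
      x ∈ GrLC.gam a.toIdeal (P.X (n + 1)).carrier → e ∈ GrLC.gam a.toIdeal (E.X n).carrier →
      ((x, e) : C (n + 1)) ∈ DRing.torsionSub a.toIdeal (C (n + 1)) := fun n x e hx he =>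
    H4Gr.prod_mem_gam hx he
  refine ⟨φ, hdeg, hcomm, fun n x hx hdx => ?_, ?_, hD₀, ?_⟩
  · refine ⟨H4Gr.map_mem_gam _ hx, ?_⟩
    show E.d n (φ n x) = 0
    rw [← hcomm, hdx, map_zero]
  · intro n g z hz
    obtain ⟨c, hc, hDc⟩ := hmain n ((0, (z : (E.X n).carrier)) : C (n + 1)) (hpair n 0 z (zero_mem _) z.2.1) (by
      refine Prod.ext ?_ ?_
      · show -P.d (n + 1) 0 = 0
        rw [map_zero, neg_zero]
      · show φ (n + 1) 0 + E.d n z = 0
        rw [map_zero, zero_add]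
        exact z.2.2)
    cases n with
    | zero =>
      have h1 : P.d 0 c = 0 := neg_eq_zero.1 (congrArg Prod.fst hDc)
      have h2 : φ 0 c = z := congrArg Prod.snd hDc
      refine ⟨H4Gr.proj (P.X 0).gr g c, (H4Gr.isHomogeneous_gam a) g hc, ?_, H4Gr.proj_mem _ g c, ?_⟩
      · rw [H4Gr.map_proj₀ (P.d_grHom 0), h1, map_zero]
      · rw [H4Gr.map_proj₀ (hdeg 0), h2, H4Gr.proj_same hz, sub_self]
        exact zero_mem _
    | succ n =>
      obtain ⟨hx, he⟩ := hfst n c hc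
      have h1 : P.d (n + 1) c.1 = 0 := neg_eq_zero.1 (congrArg Prod.fst hDc)
      have h2 : φ (n + 1) c.1 + E.d n c.2 = z := congrArg Prod.snd hDc
      refine ⟨H4Gr.proj (P.X (n + 1)).gr g c.1, (H4Gr.isHomogeneous_gam a) g hx, ?_, H4Gr.proj_mem _ g c.1, ?_⟩
      · rw [H4Gr.map_proj₀ (P.d_grHom (n + 1)), h1, map_zero]
      · refine ⟨-H4Gr.proj (E.X n).gr g c.2, neg_mem ((H4Gr.isHomogeneous_gam a) g he), ?_⟩
        have h3 := congrArg (H4Gr.proj (E.X (n + 1)).gr g) h2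
        rw [map_add, H4Gr.proj_same hz] at h3
        rw [map_neg, H4Gr.map_proj₀ (hdeg (n + 1)), H4Gr.map_proj₀ (E.d_grHom n), ← h3]
        abel
  · intro n x hx hdx hφx
    obtain ⟨e, he, hex'⟩ := hφx
    obtain ⟨c, hc, hDc⟩ := hmain n ((x, -e) : C (n + 1)) (hpair n x (-e) hx (neg_mem he)) (by
      refine Prod.ext ?_ ?_
      · show -P.d (n + 1) x = 0
        rw [hdx, neg_zero]
      · show φ (n + 1) x + E.d n (-e) = 0
        rw [map_neg, hex', add_neg_cancel])
    cases n with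
    | zero => exact ⟨-c, neg_mem hc, by rw [map_neg]; exact congrArg Prod.fst hDc⟩
    | succ n =>
      exact ⟨-c.1, neg_mem (hfst n c hc).1, by rw [map_neg]; exact congrArg Prod.fst hDc⟩

end Compare

end Groth.Agent.H4KS
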