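import Groth.Agent.H4KS.App
import Groth.Agent.H4Segre.DimApps
import Groth.Agent.H4LC.Depth
import Groth.Agent.H4LC.CdDim
import Groth.Agent.H4Depth.LocDepth
import Groth.Agent.H4Depth.CM
import Groth.Agent.H06EGA12.Semilinear
import Groth.Agent.H4Gr.SupportDim
import Groth.Agent.H4Gr.Pieces
import Groth.Agent.S13232
import Groth.Agent.S13234

/-!
# Cohen–Macaulay graded modules and the vanishing of graded local cohomology
-/

set_option autoImplicit false
set_option linter.unusedSectionVars false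
set_option linter.style.haveILetI false

universe u

open DirectSum

namespace Groth.Agent.H4KS

variable {k : Type u} [Field k] {R : Type u} [CommRing R] [Algebra k R] {𝒜 : ℤ → Submodule k R} [GradedAlgebra 𝒜]
variable {M : Type u} [AddCommGroup M] [Module R M] {ℳ : ℤ → AddSubgroup M} [Decomposition ℳ]
  [SetLike.GradedSMul 𝒜 ℳ]

variable (hpos : ∀ n : ℤ, n < 0 → 𝒜 n = ⊥) (h0 : 𝒜 0 = Submodule.span k {(1 : R)})

include hpos h0 in
/-- A Noetherian graded algebra with trivial degree zero part is of finite type. -/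
theorem finiteType_of_noetherian [IsNoetherianRing R] : Algebra.FiniteType k R := by
  classical
  obtain ⟨s, hsub, hs⟩ := (Submodule.fg_span_iff_fg_span_finset_subset (R := R)
    (⋃ n ∈ Set.Ioi (0 : ℤ), (𝒜 n : Set R))).1 (IsNoetherian.noetherian _)
  let B := Algebra.adjoin k (s : Set R)
  have key : ∀ N : ℕ, ∀ n : ℤ, n < N → ∀ x ∈ 𝒜 n, x ∈ B := by
    intro N
    induction N with
    | zero =>
      intro n hn x hx
      rw [hpos n hn, Submodule.mem_bot] at hx
      rw [hx]; exact zero_mem _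
    | succ N ih =>
      intro n hn x hx
      rcases lt_or_eq_of_le (show n ≤ (N : ℤ) by omega) with h | rfl
      · exact ih n h x hx
      rcases Nat.eq_zero_or_pos N with rfl | hN
      · rw [Nat.cast_zero, h0, Submodule.mem_span_singleton] at hx
        obtain ⟨c, rfl⟩ := hx
        exact Subalgebra.smul_mem _ (one_mem _) c
      have hmem : x ∈ Ideal.span (s : Set R) := by
        rw [Ideal.span, ← hs]
        exact Submodule.subset_span (Set.mem_iUnion₂.2 ⟨(N : ℤ), by simpa using hN, hx⟩)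
      obtain ⟨c, -, hc⟩ := Submodule.mem_span_finset.1 hmem
      have hx' : H4Segre.comp 𝒜 𝒜 (N : ℤ) x = x := by rw [H4Segre.comp_of_mem 𝒜 𝒜 hx, if_pos rfl]
      rw [← hx', ← hc, map_sum]
      refine sum_mem fun y hy => ?_
      obtain ⟨d, hd, hyd⟩ := Set.mem_iUnion₂.1 (hsub hy)
      have h2 := H4Segre.comp_smul 𝒜 𝒜 hyd (c y) ((N : ℤ) - d)
      rw [add_sub_cancel] at h2
      rw [smul_eq_mul, mul_comm, ← smul_eq_mul]
      show (DirectSum.decompose 𝒜 (y • c y) (N : ℤ) : R) ∈ B
      rw [h2, smul_eq_mul]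
      have hd' : (0 : ℤ) < d := hd
      exact mul_mem (Algebra.subset_adjoin hy) (ih _ (by omega) _ (DirectSum.decompose 𝒜 (c y) _).2)
  refine ⟨⟨s, Algebra.eq_top_iff.2 fun x => ?_⟩⟩
  induction x using DirectSum.Decomposition.inductionOn 𝒜 with
  | zero => exact zero_mem _
  | @homogeneous i x => exact key (i.toNat + 1) i (by omega) x x.2
  | add a b ha hb => exact add_mem ha hb

theorem unA_aux (X : GrLC.GMod.{u} (addGr 𝒜)) (h : GrLC.IsStarInj (addGr 𝒜) X.gr) :
    GrLC.IsStarInj 𝒜 (fromA 𝒜 X).gr :=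
  (starInj_iff 𝒜 X.gr).1 h

variable (𝒜 ℳ) in
theorem nonempty_starInjRes [IsNoetherianRing R] : Nonempty (GrLC.StarInjRes 𝒜 ℳ) := by
  obtain ⟨E⟩ := H4Gr.nonempty_starInjRes (𝒜 := addGr 𝒜) (ℳ := ℳ)
  exact ⟨{ X := fun n => fromA 𝒜 (E.X n), d := E.d, ε := E.ε, d_grHom := E.d_grHom, ε_grHom := E.ε_grHom,
           ε_injective := E.ε_injective, exact_zero := E.exact_zero, exact_succ := E.exact_succ,
           starInj := fun n => unA_aux (E.X n) (E.starInj n) }⟩

theorem subsingleton_H_iff [IsNoetherianRing R] (a : HomogeneousIdeal 𝒜) (E : GrLC.StarInjRes 𝒜 ℳ) (i : ℕ) :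
    Subsingleton (LocCoh.H a.toIdeal i M) ↔ ∀ g, E.Hcomp a i g = ⊥ := by
  obtain ⟨e⟩ := H4Gr.nonempty_H_equiv (idealA 𝒜 a) (resA 𝒜 ℳ E) i
  simp only [← Hcomp_resA_eq_bot_iff]
  constructor
  · intro h g
    refine (Submodule.eq_bot_iff _).2 fun x _ => ?_
    haveI : Subsingleton ((resA 𝒜 ℳ E).H (idealA 𝒜 a) i) := @Equiv.subsingleton _ _ e.toEquiv h
    exact Subsingleton.elim _ _
  · intro h
    refine @Equiv.subsingleton _ _ e.toEquiv.symm ?_
    refine subsingleton_of_forall_eq 0 fun x => ?_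
    obtain ⟨c, hc⟩ := (H4Gr.isInternal_Hgr (idealA 𝒜 a) (resA 𝒜 ℳ E) i).surjective x
    rw [← hc]
    clear hc
    induction c using DirectSum.induction_on with
    | zero => exact map_zero _
    | of g y => rw [DirectSum.coeAddMonoidHom_of]; exact (Submodule.eq_bot_iff _).1 (h g) y y.2
    | add y z hy hz => rw [map_add, hy, hz, add_zero]

variable [Nontrivial R] [Algebra.FiniteType k R] [Module.Finite R M]
  (a : HomogeneousIdeal 𝒜) (ha : a.toIdeal = Ideal.span (⋃ n ∈ Set.Ioi (0 : ℤ), (𝒜 n : Set R)))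

include ℳ hpos h0 ha in
theorem supportDim_irr {r : ℕ} (hd : Module.supportDim R M = r) [a.toIdeal.IsPrime] :
    Module.annihilator R M ≤ a.toIdeal ∧
      Module.supportDim (Localization.AtPrime a.toIdeal) (LocalizedModule a.toIdeal.primeCompl M) = r := by
  haveI : IsNoetherianRing R := Algebra.FiniteType.isNoetherianRing k R
  have hne : Module.annihilator R M ≠ ⊤ := fun h => by
    rw [Module.supportDim_eq_ringKrullDim_quotient_annihilator] at hd
    haveI := Ideal.Quotient.subsingleton_iff.2 h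
    simp [ringKrullDim_eq_bot_of_subsingleton] at hd
  have hI : (Module.annihilator R M).IsHomogeneous 𝒜 := fun i r hr =>
    H4Gr.isHomogeneous_annihilator (addGr 𝒜) ℳ i hr
  have hann : Module.annihilator R M ≤ H4Segre.irr 𝒜 := H4Segre.le_irr_of_isHomogeneous 𝒜 hpos h0 hI hne
  have he : a.toIdeal = H4Segre.irr 𝒜 := ha
  refine ⟨he ▸ hann, ?_⟩
  rw [H4Gr.supportDim_localization_eq_hgt a.toIdeal M (he ▸ hann), he]
  rw [Module.supportDim_eq_ringKrullDim_quotient_annihilator] at hd
  haveI := H4Segre.isMaximal_irr 𝒜 hpos h0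
  haveI : ((H4Segre.irr 𝒜).map (Ideal.Quotient.mk (Module.annihilator R M))).IsPrime :=
    Ideal.isPrime_map_quotientMk_of_isPrime hann
  refine le_antisymm ?_ ?_
  · rw [← hd]; exact Ideal.height_le_ringKrullDim_of_ne_top (Ideal.IsPrime.ne_top inferInstance)
  · obtain ⟨n, hn⟩ := ENat.ne_top_iff_exists.1 (H4Gr.hgt_ne_top (p := H4Segre.irr 𝒜) hann)
    have h := H4Segre.ringKrullDim_quotient_le_hgt 𝒜 hpos h0 n _ hI hne hn.ge
    rw [hd] at h
    rw [← hn]
    exact_mod_cast h

include ℳ hpos h0 ha in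
/-- A graded module is Cohen–Macaulay exactly when its depth on the irrelevant ideal is its dimension. -/
theorem isCM_iff_idealDepth {r : ℕ} (hd : Module.supportDim R M = r) :
    (∀ (q : Ideal R) [q.IsPrime], Subsingleton (LocalizedModule q.primeCompl M) ∨
      LocCoh.IsCohenMacaulayModule (Localization.AtPrime q) (LocalizedModule q.primeCompl M)) ↔
      (r : ℕ∞) ≤ LocCoh.idealDepth a.toIdeal M := by
  haveI : IsNoetherianRing R := Algebra.FiniteType.isNoetherianRing k R
  haveI hmax : a.toIdeal.IsMaximal := by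
    rw [ha]; exact H4Segre.isMaximal_irr 𝒜 hpos h0
  obtain ⟨hann, hdim⟩ := supportDim_irr (ℳ := ℳ) hpos h0 a ha hd
  have hnt : Nontrivial (LocalizedModule a.toIdeal.primeCompl M) := by
    have : (⟨a.toIdeal, inferInstance⟩ : PrimeSpectrum R) ∈ Module.support R M := by
      rw [Module.support_eq_zeroLocus]; exact hann
    exact Module.mem_support_iff.1 this
  have hdep : LocCoh.idealDepth a.toIdeal M =
      LocCoh.depth (Localization.AtPrime a.toIdeal) (LocalizedModule a.toIdeal.primeCompl M) := by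
    refine le_antisymm (H4Depth.idealDepth_le_depth_localization a.toIdeal le_rfl) ?_
    rw [H4Depth.idealDepth_eq_iInf_depth_localization]
    refine le_iInf₂ fun q hq => ?_
    obtain rfl : q = ⟨a.toIdeal, inferInstance⟩ :=
      PrimeSpectrum.ext ((hmax.eq_of_le q.2.ne_top hq).symm)
    exact le_rfl
  rw [hdep]
  constructor
  · intro h
    have h1 := (h a.toIdeal).resolve_left (not_subsingleton _)
    have h2 : ((r : ℕ∞) : WithBot ℕ∞) = _ := hdim.symm.trans h1
    exact (WithBot.coe_inj.1 h2).le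
  · intro h
    have hcm : LocCoh.IsCohenMacaulayModule (Localization.AtPrime a.toIdeal)
        (LocalizedModule a.toIdeal.primeCompl M) := by
      refine (H4Depth.isCohenMacaulayModule_iff).2 ?_
      rw [hdim]
      exact WithBot.coe_le_coe.2 h
    intro q _
    refine or_iff_not_imp_left.2 fun hq => ?_
    haveI hqnt : Nontrivial (LocalizedModule q.primeCompl M) := not_subsingleton_iff_nontrivial.1 hq
    have hqann : Module.annihilator R M ≤ q := by
      have hm : (⟨q, inferInstance⟩ : PrimeSpectrum R) ∈ Module.support R M := hqnt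
      rwa [Module.support_eq_zeroLocus] at hm
    set c := (Ideal.homogeneousCore (addGr 𝒜) q).toIdeal with hc
    haveI : c.IsPrime := H4Gr.isPrime_homogeneousCore (addGr 𝒜) q
    have hcq : c ≤ q := Ideal.toIdeal_homogeneousCore_le (addGr 𝒜) q
    have hca : c ≤ a.toIdeal := by
      rw [ha]
      exact H4Segre.le_irr_of_isHomogeneous 𝒜 hpos h0
        (fun i r hr => (Ideal.homogeneousCore (addGr 𝒜) q).isHomogeneous i hr) (Ideal.IsPrime.ne_top inferInstance)
    have hcann : Module.annihilator R M ≤ c :=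
      H4Gr.le_core (H4Gr.isHomogeneous_annihilator (addGr 𝒜) ℳ) hqann
    haveI : Ideal.IsPrime (q.map (Ideal.Quotient.mk c)) := Ideal.isPrime_map_quotientMk_of_isPrime hcq
    obtain ⟨d, hd'⟩ := ENat.ne_top_iff_exists.1
      (Ideal.height_ne_top (Ideal.IsPrime.ne_top (inferInstance : (q.map (Ideal.Quotient.mk c)).IsPrime)))
    have e1 := S13232.result R (addGr 𝒜) M ℳ q d hd'.symm hqnt
    have e2 := S13234.result R (addGr 𝒜) M ℳ q d hd'.symm
    -- the core is Cohen–Macaulay as a localisation of the localisation at the irrelevant ideal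
    have hdisj : Disjoint (a.toIdeal.primeCompl : Set R) c :=
      Set.disjoint_left.2 fun z hz hz' => hz (hca hz')
    haveI := IsLocalization.isPrime_of_isPrime_disjoint a.toIdeal.primeCompl
      (Localization.AtPrime a.toIdeal) c inferInstance hdisj
    let P' := c.map (algebraMap R (Localization.AtPrime a.toIdeal))
    have hP' : P'.comap (algebraMap R (Localization.AtPrime a.toIdeal)) = c :=
      IsLocalization.under_map_of_isPrime_disjoint a.toIdeal.primeCompl
        (Localization.AtPrime a.toIdeal) inferInstance hdisj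
    obtain ⟨φ, hφ, e, he⟩ := H06EGA12.exists_semilinear_localization M a.toIdeal P'
    obtain ⟨-, -, -, hsub, hiff⟩ := H06EGA12.invariants_of_semilinear φ hφ e he
    have hc' : ∀ (p p' : Ideal R) [p.IsPrime] [p'.IsPrime], p = p' →
        (LocCoh.IsCohenMacaulayModule (Localization.AtPrime p) (LocalizedModule p.primeCompl M) ↔
          LocCoh.IsCohenMacaulayModule (Localization.AtPrime p') (LocalizedModule p'.primeCompl M)) ∧
        (Subsingleton (LocalizedModule p.primeCompl M) ↔ Subsingleton (LocalizedModule p'.primeCompl M)) := by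
      rintro p p' _ _ rfl; exact ⟨Iff.rfl, Iff.rfl⟩
    have hmem : (⟨P', inferInstance⟩ : PrimeSpectrum (Localization.AtPrime a.toIdeal)) ∈
        Module.support (Localization.AtPrime a.toIdeal) (LocalizedModule a.toIdeal.primeCompl M) := by
      rw [Module.mem_support_iff, ← not_subsingleton_iff_nontrivial, hsub, (hc' _ _ hP').2,
        not_subsingleton_iff_nontrivial]
      exact Module.mem_support_iff.1 (show (⟨c, inferInstance⟩ : PrimeSpectrum R) ∈ Module.support R M by
        rw [Module.support_eq_zeroLocus]; exact hcann)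
    have hcmc := (hc' _ _ hP').1.1 (hiff.1 (H4Depth.IsCM.localization hcm P' hmem).1)
    show Module.supportDim _ _ = _
    rw [e1, show Module.supportDim (Localization.AtPrime c) (LocalizedModule c.primeCompl M) = _ from hcmc, e2]
    push_cast
    rfl

include hpos h0 ha in
/-- Cohen–Macaulayness as vanishing of local cohomology below the dimension. -/
theorem isCM_iff_Hcomp {r : ℕ} (hd : Module.supportDim R M = r) (E : GrLC.StarInjRes 𝒜 ℳ) :
    (∀ (q : Ideal R) [q.IsPrime], Subsingleton (LocalizedModule q.primeCompl M) ∨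
      LocCoh.IsCohenMacaulayModule (Localization.AtPrime q) (LocalizedModule q.primeCompl M)) ↔
      ∀ i < r, ∀ g, E.Hcomp a i g = ⊥ := by
  haveI : IsNoetherianRing R := Algebra.FiniteType.isNoetherianRing k R
  rw [isCM_iff_idealDepth (ℳ := ℳ) hpos h0 a ha hd, H4LC.le_idealDepth_iff_H]
  simp only [subsingleton_H_iff a E]

include hpos h0 ha in
/-- Local cohomology of a Cohen–Macaulay module lives in the dimension. -/
theorem Hcomp_eq_bot_of_isCM {r : ℕ} (hd : Module.supportDim R M = r)
    (hcm : ∀ (q : Ideal R) [q.IsPrime], Subsingleton (LocalizedModule q.primeCompl M) ∨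
      LocCoh.IsCohenMacaulayModule (Localization.AtPrime q) (LocalizedModule q.primeCompl M))
    (E : GrLC.StarInjRes 𝒜 ℳ) {i : ℕ} (hi : i ≠ r) (g : ℤ) : E.Hcomp a i g = ⊥ := by
  haveI : IsNoetherianRing R := Algebra.FiniteType.isNoetherianRing k R
  rcases hi.lt_or_gt with h | h
  · exact (isCM_iff_Hcomp hpos h0 a ha hd E).1 hcm i h g
  · exact (subsingleton_H_iff a E i).1
      (H4LC.subsingleton_H_of_supportDim_lt (I := a.toIdeal) i M (by rw [hd]; exact_mod_cast h)) g

include hpos ha in
theorem finite_Hcomp_pieces (E : GrLC.StarInjRes 𝒜 ℳ) (i : ℕ) (g : ℤ) :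
    Module.Finite (GrLC.deg0 (addGr 𝒜)) ((resA 𝒜 ℳ E).Hcomp (idealA 𝒜 a) i g) := by
  haveI : IsNoetherianRing R := Algebra.FiniteType.isNoetherianRing k R
  exact finite_Hcomp (idealA 𝒜 a) (resA 𝒜 ℳ E) g hpos ha i

include h0 in
theorem isField_deg0 : IsField (GrLC.deg0 (addGr 𝒜)) := by
  haveI : IsNoetherianRing R := Algebra.FiniteType.isNoetherianRing k R
  let f : k →+* GrLC.deg0 (addGr 𝒜) :=
    (algebraMap k R).codRestrict (GrLC.deg0 (addGr 𝒜)) fun c => algebraMap_mem_deg0 c
  have hf : Function.Bijective f := bijective_deg0 h0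
  exact MulEquiv.isField (Field.toIsField k) (RingEquiv.ofBijective f hf).symm.toMulEquiv

include hpos h0 ha in
theorem finrank_Hcomp_eq_zero_iff (E : GrLC.StarInjRes 𝒜 ℳ) (i : ℕ) (g : ℤ) :
    Module.finrank (GrLC.deg0 𝒜) (E.Hcomp a i g) = 0 ↔ E.Hcomp a i g = ⊥ := by
  refine ⟨fun h => ?_, fun h => by rw [h]; exact finrank_bot _ _⟩
  rw [← Hcomp_resA_eq_bot_iff]
  rw [finrank_Hcomp_resA] at h
  letI := (isField_deg0 (𝒜 := 𝒜) h0).toField
  haveI := finite_Hcomp_pieces hpos a ha E i g
  exact Submodule.finrank_eq_zero.1 h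

include h0 in
theorem finrank_comp_eq_zero_iff (g : ℤ) :
    Module.finrank (GrLC.deg0 𝒜) (GrLC.comp 𝒜 ℳ g) = 0 ↔ ℳ g = ⊥ := by
  haveI : IsNoetherianRing R := Algebra.FiniteType.isNoetherianRing k R
  rw [finrank_comp_addGr]
  letI := (isField_deg0 (𝒜 := 𝒜) h0).toField
  haveI := H4Gr.isNoetherian_comp (𝒜 := addGr 𝒜) (ℳ := ℳ) g
  refine Submodule.finrank_eq_zero.trans ⟨fun h => ?_, fun h => ?_⟩
  · exact (AddSubgroup.eq_bot_iff_forall _).2 fun x hx => (Submodule.eq_bot_iff _).1 h x hx
  · exact (Submodule.eq_bot_iff _).2 fun x hx => (AddSubgroup.eq_bot_iff_forall _).1 h x hx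

end Groth.Agent.H4KS
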