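import Groth.Agent.H4KS.High
import Groth.Agent.H4KS.Canon

/-!
# The product of the top local cohomology modules of two factors
-/

set_option autoImplicit false
set_option linter.unusedSectionVars false
set_option linter.style.haveILetI false

universe u

open DirectSum
open scoped TensorProduct

namespace Groth.Agent.H4KS

variable {k : Type u} [Field k]

section Factor

variable {R : Type u} [CommRing R] [Algebra k R] [IsNoetherianRing R] {𝒜 : ℤ → Submodule k R} [GradedAlgebra 𝒜]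
  {M : Type u} [AddCommGroup M] [Module R M] {ℳ : ℤ → AddSubgroup M} [Decomposition ℳ]
  [SetLike.GradedSMul (addGr 𝒜) ℳ] (a : HomogeneousIdeal (addGr 𝒜)) (E : GrLC.StarInjRes (addGr 𝒜) ℳ) (p : ℕ)

/-- The cochains whose differential is torsion. -/
def preC : Submodule R (E.X (p + 1)).carrier :=
  (GrLC.gam a.toIdeal (E.X (p + 2)).carrier).comap (E.d (p + 1))

theorem isHomogeneous_preC : (preC a E p).IsHomogeneous (E.X (p + 1)).gr := H4Gr.isHomogeneous_iff.2 fun g x hx => by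
  show E.d (p + 1) _ ∈ GrLC.gam a.toIdeal (E.X (p + 2)).carrier
  rw [H4Gr.map_proj₀ (E.d_grHom (p + 1))]
  exact H4Gr.isHomogeneous_gam a g hx

/-- The cochains whose differential is torsion, as a graded module. -/
@[implicit_reducible]
noncomputable def preMod : GrLC.GMod.{u} (addGr 𝒜) :=
  H4Gr.subMod (addGr 𝒜) (preC a E p) (isHomogeneous_preC a E p)

/-- Their inclusion into the sum. -/
noncomputable def preIncl : (preMod a E p).carrier →ₗ[R] (sumX E.X).carrier :=
  lofX E.X (p + 1) ∘ₗ H4Gr.subIncl (addGr 𝒜) (preC a E p) (isHomogeneous_preC a E p)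

theorem isGrHom_preIncl : GrLC.IsGrHom (preMod a E p).gr (sumX E.X).gr (preIncl a E p) :=
  fun _ _ hx => lofX_mem E.X hx

theorem eX_preIncl (w : (preMod a E p).carrier) : eX E.X (p + 1) (preIncl a E p w) = preIncl a E p w :=
  eX_lofX E.X (p + 1) _

theorem dX_preIncl_mem (w : (preMod a E p).carrier) :
    dX E.X E.d (preIncl a E p w) ∈ GrLC.gam a.toIdeal (sumX E.X).carrier := by
  rw [preIncl, LinearMap.comp_apply, dX_lofX]
  exact H4Gr.map_mem_gam (lofX E.X (p + 2)) (w : preC a E p).2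

/-- Local cohomology as a graded module. -/
@[implicit_reducible]
noncomputable def hMod (n : ℕ) : GrLC.GMod.{u} (addGr 𝒜) :=
  { carrier := E.H a n
    gr := E.Hgr a n
    dec := (H4Gr.isInternal_Hgr a E n).chooseDecomposition
    gsmul := H4Gr.gradedSMul_Hgr a E n }

theorem d_mem_cocyc (w : (preMod a E p).carrier) :
    E.d (p + 1) (H4Gr.subIncl (addGr 𝒜) (preC a E p) (isHomogeneous_preC a E p) w) ∈ E.cocyc a (p + 2) :=
  ⟨(w : preC a E p).2, LinearMap.mem_ker.2 (dd_star E (p + 1) _)⟩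

/-- The class of the differential. -/
noncomputable def preCls : (preMod a E p).carrier →ₗ[R] (hMod a E (p + 2)).carrier :=
  E.toH a (p + 2) ∘ₗ ((E.d (p + 1) ∘ₗ H4Gr.subIncl (addGr 𝒜) (preC a E p) (isHomogeneous_preC a E p)).codRestrict
    (E.cocyc a (p + 2)) (d_mem_cocyc a E p))

theorem isGrHom_preCls : GrLC.IsGrHom (preMod a E p).gr (hMod a E (p + 2)).gr (preCls a E p) :=
  fun g _ hx => ⟨_, E.d_grHom (p + 1) g _ hx, rfl⟩

theorem preCls_surjective : Function.Surjective (preCls a E p) := fun h => by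
  obtain ⟨z, rfl⟩ := H4Gr.toH_surjective a (p + 2) h
  obtain ⟨w, hw⟩ := (E.exact_succ (p + 1)).le z.2.2
  refine ⟨(⟨w, ?_⟩ : preC a E p), congrArg (E.toH a (p + 2)) (Subtype.ext hw)⟩
  show E.d (p + 1) w ∈ GrLC.gam a.toIdeal (E.X (p + 2)).carrier
  rw [hw]; exact z.2.1

variable (g : ℤ)

/-- The inclusion in one degree. -/
noncomputable def preA : pieceK g (preMod a E p) →ₗ[k] pieceK g (sumX E.X) :=
  grRes g (preIncl a E p) (isGrHom_preIncl a E p)

/-- The class in one degree. -/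
noncomputable def preH : pieceK g (preMod a E p) →ₗ[k] pieceK g (hMod a E (p + 2)) :=
  grRes g (preCls a E p) (isGrHom_preCls a E p)

theorem preH_surjective : Function.Surjective (preH (k := k) a E p g) := fun y => by
  obtain ⟨w, hw⟩ := preCls_surjective a E p y.1
  refine ⟨⟨H4Gr.proj (preMod a E p).gr g w, H4Gr.proj_mem _ g w⟩, Subtype.ext ?_⟩
  show preCls a E p (H4Gr.proj (preMod a E p).gr g w) = y.1
  rw [H4Gr.map_proj₀ (isGrHom_preCls a E p), hw]
  exact H4Gr.proj_same y.2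

theorem eA_preA (w : pieceK g (preMod a E p)) : eA (k := k) E g (p + 1) (preA a E p g w) = preA a E p g w :=
  Subtype.ext (eX_preIncl a E p w.1)

theorem dA_preA_mem (w : pieceK g (preMod a E p)) :
    dA (k := k) E g (preA a E p g w) ∈ gamK g (sumX E.X) a.toIdeal :=
  dX_preIncl_mem a E p w.1

theorem preH_zero_iff (w : pieceK g (preMod a E p)) :
    preH a E p g w = 0 ↔
      dA (k := k) E g (preA a E p g w) ∈ (gamK g (sumX E.X) a.toIdeal).map (dA (k := k) E g) := by
  have G := isGC_A (k := k) E g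
  constructor
  · intro h
    have h' : E.toH a (p + 2) ⟨_, d_mem_cocyc a E p w.1⟩ = 0 := congrArg Subtype.val h
    obtain ⟨e, he, hee⟩ := (H4Gr.toH_eq_zero_iff a (p + 2) _).1 h'
    refine ⟨⟨lofX E.X (p + 1) (H4Gr.proj (E.X (p + 1)).gr g e), lofX_mem E.X (H4Gr.proj_mem _ g e)⟩,
      H4Gr.map_mem_gam (lofX E.X (p + 1)) (H4Gr.isHomogeneous_gam a g he), Subtype.ext ?_⟩
    show dX E.X E.d (lofX E.X (p + 1) _) = dX E.X E.d (lofX E.X (p + 1) _)
    rw [dX_lofX, dX_lofX, H4Gr.map_proj₀ (E.d_grHom (p + 1)), hee]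
    exact congrArg _ (H4Gr.proj_same (E.d_grHom (p + 1) g _ w.2))
  · rintro ⟨v, hv, hvw⟩
    refine Subtype.ext ((H4Gr.toH_eq_zero_iff a (p + 2) _).2
      ⟨cmpX E.X (p + 1) v.1, H4Gr.map_mem_gam _ hv, ?_⟩)
    have h2 := congrArg (eA (k := k) E g (p + 2)) hvw
    rw [← G.de (p + 1) v, ← G.de (p + 1) (preA a E p g w), eA_preA] at h2
    have h3 : dX E.X E.d (eX E.X (p + 1) v.1) = dX E.X E.d (preIncl a E p w.1) := congrArg Subtype.val h2
    rw [eX, LinearMap.comp_apply, preIncl, LinearMap.comp_apply, dX_lofX, dX_lofX] at h3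
    have h4 := congrArg (cmpX E.X (p + 2)) h3
    rw [cmpX_lofX, cmpX_lofX] at h4
    exact h4

/-- A functional on cochains modulo torsion killing coboundaries and computing the class. -/
theorem exists_preLam :
    ∃ l : QK g (sumX E.X) a.toIdeal →ₗ[k] pieceK g (sumX E.X) ⧸ (gamK g (sumX E.X) a.toIdeal).map (dA (k := k) E g),
      (∀ y, l (dQ a E g y) = 0) ∧
      ∀ w, preH a E p g w = 0 ↔ l ((gamK g (sumX E.X) a.toIdeal).mkQ (preA a E p g w)) = 0 := by
  have G := isGC_A (k := k) E g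
  refine ⟨(gamK g (sumX E.X) a.toIdeal).liftQ
    (((gamK g (sumX E.X) a.toIdeal).map (dA (k := k) E g)).mkQ ∘ₗ dA E g ∘ₗ eA E g (p + 1)) fun x hx => ?_,
    fun y => ?_, fun w => ?_⟩
  · exact (Submodule.Quotient.mk_eq_zero _).2 ⟨eA E g (p + 1) x, H4Gr.map_mem_gam (eX E.X (p + 1)) hx, rfl⟩
  · obtain ⟨x, rfl⟩ := Submodule.mkQ_surjective _ y
    show Submodule.Quotient.mk (dA E g (eA E g (p + 1) (dA E g x))) = 0
    rw [← G.de p x, G.dd]
    rfl
  · show _ ↔ Submodule.Quotient.mk (dA E g (eA E g (p + 1) (preA a E p g w))) = 0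
    rw [eA_preA, Submodule.Quotient.mk_eq_zero, preH_zero_iff]

theorem exists_decomp (x : pieceK g (preMod a E p)) (hx : preH a E p g x = 0) :
    ∃ t ∈ gamK g (sumX E.X) a.toIdeal, ∃ u, preA a E p g x = t + dA (k := k) E g u := by
  have G := isGC_A (k := k) E g
  obtain ⟨t, ht, htd⟩ := (preH_zero_iff (k := k) a E p g x).1 hx
  obtain ⟨u, hu⟩ := exact_A E g p (x := preA a E p g x - eA E g (p + 1) t)
    ⟨⟨preA a E p g x - t, by rw [map_sub, eA_preA]⟩, by
      rw [SetLike.mem_coe, LinearMap.mem_ker, map_sub, G.de, htd, ← G.de, eA_preA, sub_self]⟩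
  exact ⟨eA E g (p + 1) t, H4Gr.map_mem_gam (eX E.X (p + 1)) ht, u, by rw [hu, add_sub_cancel]⟩

end Factor

section Inc

variable {R : Type u} [CommRing R] [Algebra k R] {𝒜 : ℤ → Submodule k R} [GradedAlgebra 𝒜]
  {S : Type u} [CommRing S] [Algebra k S] {ℬ : ℤ → Submodule k S} [GradedAlgebra ℬ]
  {X X' : GrLC.GMod.{u} (addGr 𝒜)} {Y Y' : GrLC.GMod.{u} (addGr ℬ)} (g : ℤ)

variable (X Y) in
/-- One degree inside the tensor product. -/
noncomputable def incP : pieceK g X ⊗[k] pieceK g Y →ₗ[k] X.carrier ⊗[k] Y.carrier :=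
  TensorProduct.map (pieceK g X).subtype (pieceK g Y).subtype

theorem incP_injective : Function.Injective (incP (k := k) X Y g) :=
  TensorProduct.map_injective_of_flat_flat _ _ Subtype.val_injective Subtype.val_injective

theorem incP_mem (v : pieceK g X ⊗[k] pieceK g Y) : incP X Y g v ∈ GrSeg.segrePiece k X.gr Y.gr g := by
  induction v using TensorProduct.induction_on with
  | zero => rw [map_zero]; exact zero_mem _
  | add x y hx hy => rw [map_add]; exact add_mem hx hy
  | tmul x y => exact Submodule.subset_span ⟨x.1, x.2, y.1, y.2, rfl⟩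

theorem exists_incP {w : X.carrier ⊗[k] Y.carrier} (hw : w ∈ GrSeg.segrePiece k X.gr Y.gr g) :
    ∃ v, incP X Y g v = w := by
  induction hw using Submodule.span_induction with
  | mem w hw =>
    obtain ⟨x, hx, y, hy, rfl⟩ := hw
    exact ⟨(⟨x, hx⟩ : pieceK g X) ⊗ₜ[k] (⟨y, hy⟩ : pieceK g Y), rfl⟩
  | zero => exact ⟨0, map_zero _⟩
  | add x y _ _ hx hy =>
    obtain ⟨v, rfl⟩ := hx
    obtain ⟨v', rfl⟩ := hy
    exact ⟨v + v', map_add _ _ _⟩
  | smul r x _ hx =>
    obtain ⟨v, rfl⟩ := hx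
    exact ⟨r • v, map_smul _ _ _⟩

theorem incP_map (f : X.carrier →ₗ[R] X'.carrier) (hf : GrLC.IsGrHom X.gr X'.gr f)
    (f' : Y.carrier →ₗ[S] Y'.carrier) (hf' : GrLC.IsGrHom Y.gr Y'.gr f') (v : pieceK g X ⊗[k] pieceK g Y) :
    incP X' Y' g (TensorProduct.map (grRes g f hf) (grRes g f' hf') v) = tmap f f' (incP X Y g v) := by
  induction v using TensorProduct.induction_on with
  | zero => simp only [map_zero]
  | add x y hx hy => simp only [map_add, hx, hy]
  | tmul x y => rfl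

end Inc

section Two

variable {R : Type u} [CommRing R] [IsNoetherianRing R] [Algebra k R] {𝒜 : ℤ → Submodule k R} [GradedAlgebra 𝒜]
  {S : Type u} [CommRing S] [IsNoetherianRing S] [Algebra k S] {ℬ : ℤ → Submodule k S} [GradedAlgebra ℬ]
  {T : Type u} [CommRing T] [IsNoetherianRing T] [Algebra k T] {𝒯 : ℤ → Submodule k T} [GradedAlgebra 𝒯]
  (ψ : T →ₐ[k] R ⊗[k] S) [hS : SegreHom ψ 𝒜 ℬ 𝒯]
  {M : Type u} [AddCommGroup M] [Module R M] {ℳ : ℤ → AddSubgroup M} [Decomposition ℳ]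
  [SetLike.GradedSMul (addGr 𝒜) ℳ] (a : HomogeneousIdeal (addGr 𝒜)) (E : GrLC.StarInjRes (addGr 𝒜) ℳ)
  {N : Type u} [AddCommGroup N] [Module S N] {𝒩 : ℤ → AddSubgroup N} [Decomposition 𝒩]
  [SetLike.GradedSMul (addGr ℬ) 𝒩] (b : HomogeneousIdeal (addGr ℬ)) (F : GrLC.StarInjRes (addGr ℬ) 𝒩)
  (p q : ℕ) (g : ℤ)

/-- The cochain of a pair of primitives. -/
noncomputable def cupA : pieceK g (preMod a E p) ⊗[k] pieceK g (preMod b F q) →ₗ[k]
    pieceK g (sumX E.X) ⊗[k] pieceK g (sumX F.X) :=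
  TensorProduct.map (preA a E p g) (preA b F q g)

theorem redT_dT_cupA (v : pieceK g (preMod a E p) ⊗[k] pieceK g (preMod b F q)) :
    redT a E b F g (dT (dA E g) (sA E g) (dA F g) (cupA a E b F p q g v)) = 0 := by
  induction v using TensorProduct.induction_on with
  | zero => simp only [map_zero]
  | add x y hx hy => simp only [map_add, hx, hy, add_zero]
  | tmul x y =>
    have hx : (gamK g (sumX E.X) a.toIdeal).mkQ (dA (k := k) E g (preA a E p g x)) = 0 :=
      (Submodule.Quotient.mk_eq_zero _).2 (dA_preA_mem a E p g x)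
    have hy : (gamK g (sumX F.X) b.toIdeal).mkQ (dA (k := k) F g (preA b F q g y)) = 0 :=
      (Submodule.Quotient.mk_eq_zero _).2 (dA_preA_mem b F q g y)
    show redT a E b F g (dA E g (preA a E p g x) ⊗ₜ[k] preA b F q g y +
      sA E g (preA a E p g x) ⊗ₜ[k] dA F g (preA b F q g y)) = 0
    simp only [redT, map_add, TensorProduct.map_tmul, hx, hy, TensorProduct.zero_tmul, TensorProduct.tmul_zero,
      add_zero]

/-- When the product cocycle bounds in the torsion subcomplex. -/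
theorem cup_bounds_iff (v : pieceK g (preMod a E p) ⊗[k] pieceK g (preMod b F q)) :
    (∃ γ, redT a E b F g γ = 0 ∧
      dT (dA E g) (sA E g) (dA F g) γ = dT (dA E g) (sA E g) (dA F g) (cupA a E b F p q g v)) ↔
    TensorProduct.map (preH a E p g) (preH b F q g) v = 0 := by
  have GA := isGC_A (k := k) E g
  have GB := isGC_A (k := k) F g
  have GT := isGC_tensor GA GB (sA_eA E g)
  obtain ⟨l, hl, hlH⟩ := exists_preLam (k := k) a E p g
  obtain ⟨l', hl', hlH'⟩ := exists_preLam (k := k) b F q g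
  have hee : ∀ v, eT (eA E g) (eA F g) (p + q + 1 + 1) (cupA a E b F p q g v) = cupA a E b F p q g v := fun v => by
    induction v using TensorProduct.induction_on with
    | zero => simp only [map_zero]
    | add x y hx hy => simp only [map_add, hx, hy]
    | tmul x y =>
      show eT (eA E g) (eA F g) _ (preA a E p g x ⊗ₜ[k] preA b F q g y) = _
      rw [eT_tmul GA GB (eA_preA a E p g x) (eA_preA b F q g y), if_pos (by omega)]
      rfl
  let f : pieceK g (preMod a E p) →ₗ[k] _ := l ∘ₗ (gamK g (sumX E.X) a.toIdeal).mkQ ∘ₗ preA a E p g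
  let f' : pieceK g (preMod b F q) →ₗ[k] _ := l' ∘ₗ (gamK g (sumX F.X) b.toIdeal).mkQ ∘ₗ preA b F q g
  constructor
  · rintro ⟨γ, hγ, hdγ⟩
    obtain ⟨hex, -⟩ := exact_tensor GA GB (sA_eA E g) (fun n x hx => exact_A E g n hx) (fun n x hx => exact_A F g n hx)
    obtain ⟨y, hy⟩ := hex (p + q + 1) (eT (eA E g) (eA F g) (p + q + 1 + 1) (cupA a E b F p q g v - γ))
      ⟨⟨_, rfl⟩, by rw [SetLike.mem_coe, LinearMap.mem_ker, GT.de, map_sub, hdγ, sub_self, map_zero]⟩
    rw [map_sub, hee] at hy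
    have h1 : redT a E b F g (cupA a E b F p q g v) = dT (dQ a E g) (sQ a E g) (dQ b F g) (redT a E b F g y) := by
      rw [← redT_dT, hy, map_sub, redT_eT, hγ, map_zero, sub_zero]
    have hz : ∀ w, TensorProduct.map l l' (dT (dQ a E g) (sQ a E g) (dQ b F g) w) = 0 := fun w => by
      induction w using TensorProduct.induction_on with
      | zero => simp only [map_zero]
      | add x y hx hy => simp only [map_add, hx, hy, add_zero]
      | tmul x y =>
        show TensorProduct.map l l' (dQ a E g x ⊗ₜ[k] y + sQ a E g x ⊗ₜ[k] dQ b F g y) = 0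
        simp only [map_add, TensorProduct.map_tmul, hl, hl', TensorProduct.zero_tmul, TensorProduct.tmul_zero,
          add_zero]
    have hcomp : ∀ w, TensorProduct.map l l' (redT a E b F g (cupA a E b F p q g w)) = TensorProduct.map f f' w :=
      fun w => by
      induction w using TensorProduct.induction_on with
      | zero => simp only [map_zero]
      | add x y hx hy => simp only [map_add, hx, hy]
      | tmul x y => rfl
    have h2 : TensorProduct.map f f' v = 0 := by rw [← hcomp, h1, hz]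
    have hfac : ∀ {P H L : Type u} [AddCommGroup P] [Module k P] [AddCommGroup H] [Module k H] [AddCommGroup L]
        [Module k L] (π : P →ₗ[k] H) (f : P →ₗ[k] L), Function.Surjective π → (∀ x, π x = 0 ↔ f x = 0) →
        ∃ κ : H →ₗ[k] L, Function.Injective κ ∧ κ ∘ₗ π = f := by
      intro P H L _ _ _ _ _ _ π f hπ hker
      obtain ⟨s, hs⟩ := π.exists_rightInverse_of_surjective (LinearMap.range_eq_top.2 hπ)
      have hs' : ∀ y, π (s y) = y := fun y => LinearMap.congr_fun hs y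
      have hκ : ∀ x, f (s (π x)) = f x := fun x => by
        rw [← sub_eq_zero, ← map_sub, ← hker, map_sub, hs', sub_self]
      refine ⟨f ∘ₗ s, (injective_iff_map_eq_zero _).2 fun y hy => ?_, LinearMap.ext hκ⟩
      rw [← hs' y]
      exact (hker _).2 hy
    obtain ⟨κ, hκ, hκf⟩ := hfac (preH a E p g) f (preH_surjective a E p g) fun x => hlH x
    obtain ⟨κ', hκ', hκf'⟩ := hfac (preH b F q g) f' (preH_surjective b F q g) fun x => hlH' x
    refine TensorProduct.map_injective_of_flat_flat κ κ' hκ hκ' ?_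
    rw [map_zero, ← LinearMap.comp_apply, ← TensorProduct.map_comp, hκf, hκf']
    exact h2
  · intro hv
    let GOOD : Submodule k (pieceK g (preMod a E p) ⊗[k] pieceK g (preMod b F q)) :=
      ((LinearMap.ker (redT (k := k) a E b F g)).map (dT (dA E g) (sA E g) (dA F g))).comap
        (dT (dA E g) (sA E g) (dA F g) ∘ₗ cupA a E b F p q g)
    suffices h : v ∈ GOOD by
      obtain ⟨γ, hγ, hγv⟩ := h
      exact ⟨γ, hγ, hγv⟩
    have hs : ∀ (x : pieceK g (sumX E.X)), (gamK g (sumX E.X) a.toIdeal).mkQ x = 0 → ∀ y,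
        redT a E b F g (x ⊗ₜ[k] y) = 0 := fun x hx y => by
      simp only [redT, TensorProduct.map_tmul, hx, TensorProduct.zero_tmul]
    have hs' : ∀ (y : pieceK g (sumX F.X)), (gamK g (sumX F.X) b.toIdeal).mkQ y = 0 → ∀ x,
        redT a E b F g (x ⊗ₜ[k] y) = 0 := fun y hy x => by
      simp only [redT, TensorProduct.map_tmul, hy, TensorProduct.tmul_zero]
    have hdd : ∀ x y, dT (dA (k := k) E g) (sA E g) (dA F g) (dT (dA E g) (sA E g) (dA F g) (x ⊗ₜ[k] y)) = 0 :=
      fun x y => GT.dd _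
    have hL : ∀ (x : pieceK g (preMod a E p)) (y : pieceK g (preMod b F q)), preH a E p g x = 0 →
        x ⊗ₜ[k] y ∈ GOOD := by
      intro x y hx
      obtain ⟨t, ht, u, hu⟩ := exists_decomp (k := k) a E p g x hx
      let y' := preA (k := k) b F q g y
      refine ⟨t ⊗ₜ[k] y' - sA E g u ⊗ₜ[k] dA F g y', LinearMap.mem_ker.2 ?_, ?_⟩
      · rw [map_sub, hs t ((Submodule.Quotient.mk_eq_zero _).2 ht),
          hs' _ ((Submodule.Quotient.mk_eq_zero _).2 (dA_preA_mem b F q g y)), sub_zero]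
      · show dT _ _ _ (t ⊗ₜ[k] y' - sA E g u ⊗ₜ[k] dA F g y') =
          dT _ _ _ (preA a E p g x ⊗ₜ[k] preA b F q g y)
        rw [hu, TensorProduct.add_tmul, map_sub, map_add, sub_eq_add_neg, add_right_inj, neg_eq_iff_add_eq_zero,
          ← map_add, add_comm]
        exact hdd u y'
    have hR : ∀ (x : pieceK g (preMod a E p)) (y : pieceK g (preMod b F q)), preH b F q g y = 0 →
        x ⊗ₜ[k] y ∈ GOOD := by
      intro x y hy
      obtain ⟨t, ht, u, hu⟩ := exists_decomp (k := k) b F q g y hy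
      let x' := preA (k := k) a E p g x
      refine ⟨x' ⊗ₜ[k] t - ((-1 : k) ^ (p + 1)) • (dA E g x' ⊗ₜ[k] u), LinearMap.mem_ker.2 ?_, ?_⟩
      · rw [map_sub, map_smul, hs' t ((Submodule.Quotient.mk_eq_zero _).2 ht),
          hs _ ((Submodule.Quotient.mk_eq_zero _).2 (dA_preA_mem a E p g x)), smul_zero, sub_zero]
      · show dT _ _ _ (x' ⊗ₜ[k] t - ((-1 : k) ^ (p + 1)) • (dA E g x' ⊗ₜ[k] u)) =
          dT _ _ _ (preA a E p g x ⊗ₜ[k] preA b F q g y)
        have hsig : sA (k := k) E g x' = ((-1 : k) ^ (p + 1)) • x' := by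
          have h := sA_eA (k := k) E g (p + 1) x'
          rwa [eA_preA] at h
        have h0 := hdd x' u
        change dT (dA E g) (sA E g) (dA F g) (dA E g x' ⊗ₜ[k] u + sA E g x' ⊗ₜ[k] dA F g u) = 0 at h0
        rw [hsig, ← TensorProduct.smul_tmul', map_add, map_smul, add_eq_zero_iff_eq_neg] at h0
        rw [hu, TensorProduct.tmul_add, map_sub, map_add, map_smul, h0, smul_neg, sub_neg_eq_add, smul_smul,
          ← mul_pow, neg_one_mul, neg_neg, one_pow, one_smul]
    have hle : LinearMap.ker (TensorProduct.map (preH (k := k) a E p g) (preH (k := k) b F q g)) ≤ GOOD := by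
      rw [TensorProduct.map_ker (LinearMap.exact_subtype_ker_map _) (preH_surjective a E p g)
        (LinearMap.exact_subtype_ker_map _) (preH_surjective b F q g), sup_le_iff]
      constructor <;> rintro _ ⟨w, rfl⟩
      · induction w using TensorProduct.induction_on with
        | zero => rw [map_zero]; exact zero_mem _
        | add x y hx hy => rw [map_add]; exact add_mem hx hy
        | tmul x y => exact hR x y.1 (LinearMap.mem_ker.1 y.2)
      · induction w using TensorProduct.induction_on with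
        | zero => rw [map_zero]; exact zero_mem _
        | add x y hx hy => rw [map_add]; exact add_mem hx hy
        | tmul x y => exact hL x.1 y (LinearMap.mem_ker.1 x.2)
    exact hle (LinearMap.mem_ker.2 hv)

/-- The product cochain in the ambient Segre product. -/
noncomputable def cupW : (Seg ψ (preMod a E p) (preMod b F q)).carrier →ₗ[T] (W ψ E.X F.X).carrier :=
  DW ψ E.X F.X E.d E.d_grHom F.d F.d_grHom ∘ₗ
    segMap ψ (preIncl a E p) (isGrHom_preIncl a E p) (preIncl b F q) (isGrHom_preIncl b F q)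

variable {P : Type u} [AddCommGroup P] [Module T P] {𝒬 : ℤ → AddSubgroup P} [Decomposition 𝒬]
  [SetLike.GradedSMul (addGr 𝒯) 𝒬] (c : HomogeneousIdeal (addGr 𝒯)) (G : GrLC.StarInjRes (addGr 𝒯) 𝒬)
  (j : P →ₗ[T] (Seg ψ (GrLC.GMod.of (addGr 𝒜) M ℳ) (GrLC.GMod.of (addGr ℬ) N 𝒩)).carrier)
  (hj : GrLC.IsGrHom 𝒬 (Seg ψ (GrLC.GMod.of (addGr 𝒜) M ℳ) (GrLC.GMod.of (addGr ℬ) N 𝒩)).gr j)
  (hjb : Function.Bijective j)
  (ha : a.toIdeal = Ideal.span (⋃ n ∈ Set.Ioi (0 : ℤ), (𝒜 n : Set R)))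
  (hb : b.toIdeal = Ideal.span (⋃ n ∈ Set.Ioi (0 : ℤ), (ℬ n : Set S)))
  (hc : c.toIdeal = Ideal.span (⋃ n ∈ Set.Ioi (0 : ℤ), (𝒯 n : Set T)))
  (PR : Params (𝒜 := 𝒜) (ℬ := ℬ) a.toIdeal b.toIdeal)

include hj hjb ha hb hc PR in
/-- The product of local cohomology classes. -/
theorem exists_cup :
    ∃ Φ : (Seg ψ (hMod a E (p + 2)) (hMod b F (q + 2))).carrier →ₗ[T] G.H c (p + q + 3),
      GrLC.IsGrHom (Seg ψ (hMod a E (p + 2)) (hMod b F (q + 2))).gr (G.Hgr c (p + q + 3)) Φ ∧
      Function.Injective Φ := by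
  have haR : ∀ n : ℤ, 0 < n → ∀ x ∈ 𝒜 n, x ∈ a.toIdeal := fun n hn x hx =>
    ha ▸ Ideal.subset_span (Set.mem_iUnion₂.2 ⟨n, hn, hx⟩)
  have hbS : ∀ n : ℤ, 0 < n → ∀ x ∈ ℬ n, x ∈ b.toIdeal := fun n hn x hx =>
    hb ▸ Ideal.subset_span (Set.mem_iUnion₂.2 ⟨n, hn, hx⟩)
  have hTor : ∀ z : (W ψ E.X F.X).carrier, z ∈ GrLC.gam c.toIdeal (W ψ E.X F.X).carrier ↔
      TensorProduct.map (gamQ a.toIdeal (sumX E.X)) (gamQ b.toIdeal (sumX F.X)) (segVal ψ _ _ z) = 0 :=
    mem_gam_seg ψ a.toIdeal haR b.toIdeal hbS c.toIdeal hc PR (sumX E.X) (sumX F.X)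
  let RT := totRes ψ (H4Gr.Res.ofStar E) (H4Gr.Res.ofStar F) j hj hjb
  obtain ⟨φ, hdeg, hcomm, hcoc, -, -, hinj⟩ := exists_comparison c RT G (fun n i =>
    acyclic_totX ψ E.X F.X (dd_star E) (dd_star F) c.toIdeal (i + 1)
      (fun l l' => acyclic_seg ψ a.toIdeal haR b.toIdeal hbS c.toIdeal hc (E.X l) (F.X l') PR (E.starInj l)
        (F.starInj l') i) n)
  let A := preMod a E p
  let B := preMod b F q
  let π := segMap ψ (preCls a E p) (isGrHom_preCls a E p) (preCls b F q) (isGrHom_preCls b F q)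
  have hπs : Function.Surjective π := segMap_surjective ψ _ _ (preCls_surjective a E p) (preCls_surjective b F q)
  have hπg : GrLC.IsGrHom (Seg ψ A B).gr (Seg ψ (hMod a E (p + 2)) (hMod b F (q + 2))).gr π :=
    isGrHom_segMap ψ _ _ _ _
  -- values in one degree
  have hval : ∀ g (v : pieceK g A ⊗[k] pieceK g B) (w : (Seg ψ A B).carrier), segVal ψ A B w = incP A B g v →
      segVal ψ (sumX E.X) (sumX F.X) (cupW ψ a E b F p q w) =
        incT E F g (dT (dA E g) (sA E g) (dA F g) (cupA a E b F p q g v)) := fun g v w hw => by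
    refine (segVal_DW ψ E.X F.X E.d E.d_grHom F.d F.d_grHom _).trans ?_
    rw [segVal_segMap, hw, ← incP_map, incT_dT]
    rfl
  have htmp : ∀ v : A.carrier ⊗[k] B.carrier, eT (eK E.X) (eK F.X) (p + q + 2)
      (tmap (preIncl a E p) (preIncl b F q) v) = tmap (preIncl a E p) (preIncl b F q) v := fun v => by
    induction v using TensorProduct.induction_on with
    | zero => simp only [map_zero]
    | add x y hx hy => simp only [map_add, hx, hy]
    | tmul x y =>
      show eT (eK E.X) (eK F.X) _ (preIncl a E p x ⊗ₜ[k] preIncl b F q y) = _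
      rw [eT_tmul (isGC_sumX E.X (dd_star E)) (isGC_sumX F.X (dd_star F)) (eX_preIncl a E p x) (eX_preIncl b F q y),
        if_pos (by omega)]
      rfl
  have hrange : ∀ w, cupW ψ a E b F p q w ∈ LinearMap.range (qW ψ E.X F.X (p + q + 3)) := fun w => by
    refine ⟨cupW ψ a E b F p q w, ?_⟩
    show qW ψ E.X F.X (p + q + 2 + 1) (DW ψ E.X F.X E.d E.d_grHom F.d F.d_grHom _) =
      DW ψ E.X F.X E.d E.d_grHom F.d F.d_grHom _
    rw [← DW_qW ψ E.X F.X E.d_grHom F.d_grHom (dd_star E) (dd_star F)]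
    refine congrArg _ (segVal_injective ψ _ _ ?_)
    rw [segVal_qW, segVal_segMap]
    exact htmp _
  let κ : (Seg ψ A B).carrier →ₗ[T] (RT.X (p + q + 3)).carrier :=
    totCo ψ E.X F.X (p + q + 3) (cupW ψ a E b F p q) hrange
  have hκd : ∀ w, RT.d (p + q + 3) (κ w) = 0 := fun w => by
    refine totι_injective ψ E.X F.X _ ?_
    refine Eq.trans ?_ (map_zero (totι ψ E.X F.X _)).symm
    show DW ψ E.X F.X E.d E.d_grHom F.d F.d_grHom (cupW ψ a E b F p q w) = 0
    exact DW_DW ψ E.X F.X E.d_grHom F.d_grHom (dd_star E) (dd_star F) _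
  have hpc : ∀ (g : ℤ) (w : (Seg ψ A B).carrier), w ∈ (Seg ψ A B).gr g →
      ∃ v, segVal ψ A B w = incP A B g v := fun g w hw => by
    obtain ⟨v, hv⟩ := exists_incP g (hw : segVal ψ A B w ∈ _)
    exact ⟨v, hv.symm⟩
  have hκt : ∀ w, κ w ∈ GrLC.gam c.toIdeal (RT.X (p + q + 3)).carrier := fun w => by
    induction w using H4Gr.induction (Seg ψ A B).gr with
    | zero => rw [map_zero]; exact zero_mem _
    | add x y hx hy => rw [map_add]; exact add_mem hx hy
    | hom g w hw =>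
      obtain ⟨v, hv⟩ := hpc g w hw
      obtain ⟨N, hN⟩ := (hTor (cupW ψ a E b F p q w)).2 (by
        rw [hval g v w hv]
        exact (redT_eq_zero_iff a E b F g _).1 (redT_dT_cupA a E b F p q g v))
      exact ⟨N, fun t ht => totι_injective ψ E.X F.X _ (by
        refine ((totι ψ E.X F.X _).map_smul t _).trans ?_
        refine Eq.trans ?_ (map_zero (totι ψ E.X F.X _)).symm
        exact hN t ht)⟩
  have hκg : GrLC.IsGrHom (Seg ψ A B).gr (RT.X (p + q + 3)).gr κ := fun g w hw =>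
    isGrHom_DW ψ E.X F.X E.d E.d_grHom F.d F.d_grHom g _ (isGrHom_segMap ψ _ _ _ _ g w hw)
  let L : (Seg ψ A B).carrier →ₗ[T] G.H c (p + q + 3) :=
    G.toH c (p + q + 3) ∘ₗ ((φ (p + q + 3) ∘ₗ κ).codRestrict (G.cocyc c (p + q + 3))
      fun w => hcoc _ _ (hκt w) (hκd w))
  have hLg : GrLC.IsGrHom (Seg ψ A B).gr (G.Hgr c (p + q + 3)) L := fun g w hw =>
    ⟨_, hdeg (p + q + 3) g _ (hκg g w hw), rfl⟩
  -- vanishing in one degree
  have hker : ∀ g (w : (Seg ψ A B).carrier), w ∈ (Seg ψ A B).gr g → (L w = 0 ↔ π w = 0) := fun g w hw => by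
    obtain ⟨v, hv⟩ := hpc g w hw
    have hπ0 : π w = 0 ↔ TensorProduct.map (preH a E p g) (preH b F q g) v = 0 := by
      rw [← (segVal_injective ψ _ _).eq_iff, map_zero, segVal_segMap, hv, ← incP_map,
        ← (incP_injective (k := k) g).eq_iff (b := 0), map_zero]
      rfl
    have hL0 : L w = 0 ↔ φ (p + q + 3) (κ w) ∈ G.cobdy c (p + q + 3) := H4Gr.toH_eq_zero_iff c _ _
    rw [hπ0, ← cup_bounds_iff, hL0]
    constructor
    · intro h
      obtain ⟨y, hy, hdy⟩ := hinj (p + q + 2) _ (hκt w) (hκd w) h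
      let y' := H4Gr.proj (RT.X (p + q + 2)).gr g y
      have hy'gam : y' ∈ GrLC.gam c.toIdeal (RT.X (p + q + 2)).carrier := H4Gr.isHomogeneous_gam c g hy
      have hy'g : y' ∈ (RT.X (p + q + 2)).gr g := H4Gr.proj_mem _ g y
      obtain ⟨γ, hγ⟩ := exists_incT E F g (hy'g : segVal ψ _ _ (totι ψ E.X F.X (p + q + 2) y') ∈ _)
      refine ⟨γ, (redT_eq_zero_iff a E b F g γ).2 ?_, incT_injective E F g ?_⟩
      · rw [hγ]
        exact (hTor _).1 (H4Gr.map_mem_gam (totι ψ E.X F.X (p + q + 2)) hy'gam)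
      · have hd' : RT.d (p + q + 2) y' = κ w := by
          rw [H4Gr.map_proj₀ (RT.d_grHom (p + q + 2)), hdy]
          exact H4Gr.proj_same (hκg g w hw)
        rw [← hval g v w hv, incT_dT, hγ]
        exact ((segVal_DW ψ E.X F.X E.d E.d_grHom F.d F.d_grHom _).symm.trans
          (congrArg (fun x => segVal ψ _ _ (totι ψ E.X F.X (p + q + 2 + 1) x)) hd'))
    · rintro ⟨γ, hγ, hγd⟩
      have hre : ∀ z, redT a E b F g (eT (eA E g) (eA F g) (p + q + 2) z) =
          eT (eQ a E g) (eQ b F g) (p + q + 2) (redT a E b F g z) := redT_eT a E b F g (p + q + 2)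
      let u := toW ψ E F g γ
      let y : (RT.X (p + q + 2)).carrier :=
        totCo ψ E.X F.X (p + q + 2) (qW ψ E.X F.X (p + q + 2)) (LinearMap.mem_range_self _) u
      have hu : segVal ψ _ _ u = incT E F g γ := rfl
      have hyt : y ∈ GrLC.gam c.toIdeal (RT.X (p + q + 2)).carrier :=
        H4Gr.map_mem_gam (totCo ψ E.X F.X (p + q + 2) (qW ψ E.X F.X (p + q + 2)) (LinearMap.mem_range_self _))
          ((hTor u).2 ((redT_eq_zero_iff a E b F g γ).1 hγ))
      have hdy : RT.d (p + q + 2) y = κ w := by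
        refine totι_injective ψ E.X F.X _ (segVal_injective ψ _ _ ?_)
        show segVal ψ _ _ (DW ψ E.X F.X E.d E.d_grHom F.d F.d_grHom (qW ψ E.X F.X (p + q + 2) u)) =
          segVal ψ _ _ (cupW ψ a E b F p q w)
        rw [DW_qW ψ E.X F.X E.d_grHom F.d_grHom (dd_star E) (dd_star F), segVal_qW, segVal_DW, hu, ← incT_dT,
          hγd, ← hval g v w hv, ← segVal_qW]
        obtain ⟨z, hz⟩ := hrange w
        rw [← hz, qW_qW ψ E.X F.X (dd_star E) (dd_star F)]
      exact ⟨φ (p + q + 2) y, H4Gr.map_mem_gam _ hyt, by rw [← hcomm, hdy]⟩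
  have hkereq : LinearMap.ker π = LinearMap.ker L := by
    have hproj : ∀ {Z : Type u} [AddCommGroup Z] [Module T Z] {𝒵 : ℤ → AddSubgroup Z} [Decomposition 𝒵]
        [SetLike.GradedSMul (addGr 𝒯) 𝒵] (f : (Seg ψ A B).carrier →ₗ[T] Z),
        GrLC.IsGrHom (Seg ψ A B).gr 𝒵 f → ∀ w, f w = 0 → ∀ g, f (H4Gr.proj (Seg ψ A B).gr g w) = 0 :=
      fun f hf w hw g => by rw [H4Gr.map_proj₀ hf, hw, map_zero]
    letI := (H4Gr.isInternal_Hgr c G (p + q + 3)).chooseDecomposition
    haveI := H4Gr.gradedSMul_Hgr c G (p + q + 3)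
    refine le_antisymm (fun w hw => ?_) (fun w hw => ?_)
    · obtain ⟨s, hs, -⟩ := H4Gr.exists_sum_proj (Seg ψ A B).gr w
      rw [← hs]
      exact sum_mem fun g _ => (hker g _ (H4Gr.proj_mem _ g w)).2 (hproj π hπg w hw g)
    · obtain ⟨s, hs, -⟩ := H4Gr.exists_sum_proj (Seg ψ A B).gr w
      rw [← hs]
      exact sum_mem fun g _ => (hker g _ (H4Gr.proj_mem _ g w)).1 (hproj L hLg w hw g)
  let Φ := (LinearMap.ker π).liftQ L hkereq.le ∘ₗ (π.quotKerEquivOfSurjective hπs).symm.toLinearMap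
  have hΦ : ∀ w, Φ (π w) = L w := fun w => by
    show (LinearMap.ker π).liftQ L hkereq.le ((π.quotKerEquivOfSurjective hπs).symm (π w)) = L w
    rw [show (π.quotKerEquivOfSurjective hπs).symm (π w) = Submodule.Quotient.mk w from
      (LinearEquiv.symm_apply_eq _).2 rfl]
    rfl
  refine ⟨Φ, fun g y hy => ?_, (injective_iff_map_eq_zero Φ).2 fun y hy => ?_⟩
  · obtain ⟨w, rfl⟩ := hπs y
    rw [← H4Gr.proj_same hy, ← H4Gr.map_proj₀ hπg, hΦ]
    exact hLg g _ (H4Gr.proj_mem _ g w)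
  · obtain ⟨w, rfl⟩ := hπs y
    rw [hΦ] at hy
    exact hkereq.ge hy

end Two

end Groth.Agent.H4KS
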