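import Groth.Agent.H4KS.Kunneth

/-!
# Tensor products of resolutions are resolutions
-/

set_option autoImplicit false
set_option linter.unusedSectionVars false

universe u

open scoped TensorProduct

namespace Groth.Agent.H4KS

variable {k : Type u} [Field k] {A B : Type u} [AddCommGroup A] [Module k A] [AddCommGroup B] [Module k B]
  {eA : ℕ → A →ₗ[k] A} {dA σ : A →ₗ[k] A} {eB : ℕ → B →ₗ[k] B} {dB : B →ₗ[k] B}
  (GA : IsGC eA dA) (GB : IsGC eB dB) (hσ : ∀ a x, σ (eA a x) = ((-1 : k) ^ a) • eA a x)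
  (hA : ∀ a, ∀ x ∈ zc eA dA (a + 1), x ∈ LinearMap.range dA)
  (hB : ∀ b, ∀ y ∈ zc eB dB (b + 1), y ∈ LinearMap.range dB)

include GA GB hσ hA hB in
/-- The tensor product of two resolutions is a resolution of the tensor product. -/
theorem exact_tensor :
    (∀ n, ∀ z ∈ zc (eT eA eB) (dT dA σ dB) (n + 1), z ∈ LinearMap.range (dT dA σ dB)) ∧
      ∀ z ∈ zc (eT eA eB) (dT dA σ dB) 0,
        z ∈ LinearMap.range (TensorProduct.map (zc eA dA 0).subtype (zc eB dB 0).subtype) := by
  obtain ⟨h, π, hhd, hdπ, hπd, hππ, hπe, -, hhσ, hπσ, -⟩ := GA.exists_homotopy hσ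
  obtain ⟨sB, hsB⟩ := sign_exists GB
  obtain ⟨h', π', hhd', hdπ', hπd', hππ', hπe', -⟩ := GB.exists_homotopy hsB
  have GT := isGC_tensor GA GB hσ
  let H2 : A ⊗[k] B →ₗ[k] A ⊗[k] B :=
    TensorProduct.map h LinearMap.id + TensorProduct.map (π ∘ₗ σ) h'
  have key : ∀ z, dT dA σ dB z = 0 →
      ∃ w, dT dA σ dB w + TensorProduct.map π π' z = z := by
    intro z hz
    refine ⟨H2 z, ?_⟩
    have e1 : ∀ z, dT dA σ dB (H2 z) + H2 (dT dA σ dB z) =
          z - TensorProduct.map π π' z := by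
      intro z
      induction z using TensorProduct.induction_on with
      | zero => simp only [map_zero, add_zero, sub_zero]
      | add x y hx hy => simp only [map_add]; rw [add_add_add_comm, hx, hy]; abel
      | tmul x y =>
        simp only [H2, dT, LinearMap.add_apply, TensorProduct.map_tmul, LinearMap.id_apply, map_add, LinearMap.comp_apply]
        have a1 : σ (π (σ x)) = π x := by rw [hπσ, sigma_sigma GA hσ]
        have a2 : π (σ (dA x)) = 0 := by rw [eq_neg_of_add_eq_zero_left (sigma_d GA hσ x), map_neg, hπd, neg_zero]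
        simp only [hdπ, a1, a2, sigma_sigma GA hσ, TensorProduct.zero_tmul]
        calc dA (h x) ⊗ₜ[k] y + σ (h x) ⊗ₜ[k] dB y + (0 + π x ⊗ₜ[k] dB (h' y)) +
              (h (dA x) ⊗ₜ[k] y + 0 + (h (σ x) ⊗ₜ[k] dB y + π x ⊗ₜ[k] h' (dB y))) =
            (dA (h x) + h (dA x)) ⊗ₜ[k] y + (σ (h x) + h (σ x)) ⊗ₜ[k] dB y +
              π x ⊗ₜ[k] (dB (h' y) + h' (dB y)) := by
              simp only [TensorProduct.add_tmul, TensorProduct.tmul_add]; abel
          _ = _ := by
              rw [hhd, hhσ, hhd', TensorProduct.zero_tmul, TensorProduct.sub_tmul, TensorProduct.tmul_sub]; abel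
    have h2 := e1 z
    rw [hz, map_zero, add_zero] at h2
    rw [h2, sub_add_cancel]
  have hpA : ∀ a x, π (eA (a + 1) x) = 0 := fun a x => by
    obtain ⟨v, hv⟩ := hA a _ (show π (eA (a + 1) x) ∈ zc eA dA (a + 1) from
      ⟨⟨π x, by rw [hπe]⟩, hdπ _⟩)
    rw [← hππ, ← hv, hπd]
  have hpB : ∀ b y, π' (eB (b + 1) y) = 0 := fun b y => by
    obtain ⟨v, hv⟩ := hB b _ (show π' (eB (b + 1) y) ∈ zc eB dB (b + 1) from
      ⟨⟨π' y, by rw [hπe']⟩, hdπ' _⟩)
    rw [← hππ', ← hv, hπd']
  have heπ : ∀ z m, TensorProduct.map π π' (eT eA eB (m + 1) z) = 0 := fun z m => by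
    induction z using tensor_induction GA GB with
    | zero => simp only [map_zero]
    | add x y hx hy => simp only [map_add, hx, hy, add_zero]
    | hom a b x y hx hy =>
      rw [eT_tmul GA GB hx hy]
      split_ifs with hab
      · rw [TensorProduct.map_tmul]
        rcases Nat.eq_zero_or_pos a with ha | ha
        · obtain ⟨b', rfl⟩ : ∃ b', b = b' + 1 := ⟨b - 1, by omega⟩
          rw [← hy, hpB, TensorProduct.tmul_zero]
        · obtain ⟨a', rfl⟩ : ∃ a', a = a' + 1 := ⟨a - 1, by omega⟩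
          rw [← hx, hpA, TensorProduct.zero_tmul]
      · rw [map_zero]
  refine ⟨fun n z hz => ?_, fun z hz => ?_⟩
  · obtain ⟨w, hw⟩ := key z hz.2
    rw [← GT.e_of_mem hz.1, heπ, add_zero] at hw
    exact ⟨w, hw.trans (GT.e_of_mem hz.1)⟩
  · obtain ⟨w, hw⟩ := key z hz.2
    have hz' : TensorProduct.map π π' z = z := by
      have h3 := congrArg (eT eA eB 0) hw
      rw [map_add, GT.e_zero_d, zero_add, GT.e_of_mem hz.1] at h3
      have h5 : ∀ v, eT eA eB 0 (TensorProduct.map π π' v) = TensorProduct.map π π' (eT eA eB 0 v) := fun v => by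
        induction v using TensorProduct.induction_on with
        | zero => simp only [map_zero]
        | add x y hx hy => simp only [map_add, hx, hy]
        | tmul x y => simp [eT, hπe, hπe']
      rwa [h5, GT.e_of_mem hz.1] at h3
    let fA : A →ₗ[k] zc eA dA 0 := (π ∘ₗ eA 0).codRestrict _ fun x => ⟨⟨π x, hπe 0 x⟩, hdπ _⟩
    let fB : B →ₗ[k] zc eB dB 0 := (π' ∘ₗ eB 0).codRestrict _ fun y => ⟨⟨π' y, hπe' 0 y⟩, hdπ' _⟩
    refine ⟨TensorProduct.map fA fB z, ?_⟩
    have h4 : ∀ v, TensorProduct.map (zc eA dA 0).subtype (zc eB dB 0).subtype (TensorProduct.map fA fB v) =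
        TensorProduct.map π π' (eT eA eB 0 v) := fun v => by
      induction v using TensorProduct.induction_on with
      | zero => simp only [map_zero]
      | add x y hx hy => simp only [map_add, hx, hy]
      | tmul x y => simp [eT, fA, fB]
    rw [h4, GT.e_of_mem hz.1, hz']

end Groth.Agent.H4KS
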