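import Groth.Agent.H4Gr.Injective
import Groth.Agent.H4Gr.Acyclic
import Groth.Agent.H4Gr.Torsion
import Mathlib.RingTheory.Filtration

/-!
# Filtering *injective modules by torsion and bijective parts
-/

set_option autoImplicit false
set_option linter.unusedSectionVars false
set_option linter.style.haveILetI false

universe u

open DirectSum

namespace Groth.Agent.H4KS

variable {R : Type u} [CommRing R] [IsNoetherianRing R] {ι : Type} [AddCommGroup ι] [DecidableEq ι]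
  {𝒜 : ι → AddSubgroup R} [GradedRing 𝒜]
variable {I : Type u} [AddCommGroup I] [Module R I] {ℐ : ι → AddSubgroup I} [Decomposition ℐ]
  [SetLike.GradedSMul 𝒜 ℐ]

/-- Torsion parts of *injective modules are divisible modulo further torsion. -/
theorem exists_divide (hI : GrLC.IsStarInj 𝒜 ℐ) {J : Ideal R} (hJ : J.IsHomogeneous 𝒜) {e : ι} {f : R}
    (hf : f ∈ 𝒜 e) {y : I} (hy : y ∈ GrLC.gam J I) :
    ∃ z ∈ GrLC.gam J I, ∃ s : ℕ, f ^ (s + 1) • z = f ^ s • y := by
  obtain ⟨m, hm⟩ := hy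
  obtain ⟨s, hs⟩ := monotone_stabilizes_iff_noetherian.mpr (inferInstance : IsNoetherian R R)
    ⟨fun n => LinearMap.ker (LinearMap.mulLeft R (f ^ n)), fun n n' h x hx => by
      rw [LinearMap.mem_ker, LinearMap.mulLeft_apply] at hx ⊢
      rw [← Nat.sub_add_cancel h, pow_add, mul_assoc, hx, mul_zero]⟩
  obtain ⟨c, hc⟩ := J.exists_pow_inf_eq_pow_smul (M := R) (Ideal.span {f ^ (s + 1)})
  let N := m + c
  have hkey : ∀ r, r * f ^ (s + 1) ∈ J ^ N → r • f ^ s • y = 0 := fun r hr => by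
    have h1 : r * f ^ (s + 1) ∈ J ^ m • (Ideal.span {f ^ (s + 1)} : Ideal R) := by
      have h2 : r * f ^ (s + 1) ∈ J ^ N • (⊤ : Submodule R R) ⊓ Ideal.span {f ^ (s + 1)} :=
        ⟨by rw [smul_eq_mul, Ideal.mul_top]; exact hr, Ideal.mem_span_singleton'.2 ⟨r, rfl⟩⟩
      rw [hc N (Nat.le_add_left c m), show N - c = m from Nat.add_sub_cancel m c] at h2
      exact Submodule.smul_mono (le_refl (J ^ m)) inf_le_right h2
    rw [smul_eq_mul, mul_comm (J ^ m)] at h1
    obtain ⟨t, ht, htr⟩ := Ideal.mem_span_singleton_mul.1 h1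
    have h3 : r - t ∈ LinearMap.ker (LinearMap.mulLeft R (f ^ (s + 1))) := by
      rw [LinearMap.mem_ker, LinearMap.mulLeft_apply, mul_sub, htr, mul_comm, sub_self]
    have h4 : f ^ s * (r - t) = 0 := LinearMap.mem_ker.1 ((hs (s + 1) (Nat.le_succ s)).ge h3)
    rw [mul_sub, sub_eq_zero] at h4
    rw [← mul_smul, mul_comm, h4, mul_comm, mul_smul, smul_comm, hm t ht, smul_zero]
  let Q : Ideal R := J ^ N ⊔ Ideal.span {f ^ (s + 1)}
  have hQ : Q.IsHomogeneous 𝒜 := by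
    refine Ideal.IsHomogeneous.sup ?_ (Ideal.homogeneous_span _ _ fun x hx => ⟨(s + 1) • e, ?_⟩)
    · exact H4Gr.isHomogeneous_pow ⟨J, hJ⟩ N
    · rw [Set.mem_singleton_iff.1 hx]; exact SetLike.pow_mem_graded (s + 1) hf
  let Φ : ↥(J ^ N) × R →ₗ[R] R :=
    (J ^ N).subtype.coprod (LinearMap.toSpanSingleton R R (f ^ (s + 1)))
  let ψ : ↥(J ^ N) × R →ₗ[R] I :=
    LinearMap.toSpanSingleton R I (f ^ s • y) ∘ₗ LinearMap.snd R _ _
  have hker : LinearMap.ker Φ ≤ LinearMap.ker ψ := by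
    rintro ⟨j, r⟩ h
    refine hkey r ?_
    have h' : (j : R) + r • f ^ (s + 1) = 0 := h
    rw [show r * f ^ (s + 1) = -(j : R) from eq_neg_of_add_eq_zero_right h']
    exact neg_mem j.2
  have hran : LinearMap.range Φ = Q := by
    rw [LinearMap.range_coprod, Submodule.range_subtype]
    exact congrArg _ (LinearMap.span_singleton_eq_range R R (f ^ (s + 1))).symm
  let g₀ : Q →ₗ[R] I :=
    ((LinearMap.ker Φ).liftQ ψ hker) ∘ₗ (Φ.quotKerEquivRange.trans (LinearEquiv.ofEq _ _ hran)).symm.toLinearMap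
  have hg₀ : ∀ w : ↥(J ^ N) × R, ∀ hw : Φ w ∈ Q, g₀ ⟨Φ w, hw⟩ = ψ w := fun w hw => by
    have h : (Φ.quotKerEquivRange.trans (LinearEquiv.ofEq _ _ hran)).symm ⟨Φ w, hw⟩ = Submodule.Quotient.mk w := by
      rw [LinearEquiv.symm_apply_eq]; rfl
    show ((LinearMap.ker Φ).liftQ ψ hker) ((Φ.quotKerEquivRange.trans (LinearEquiv.ofEq _ _ hran)).symm ⟨Φ w, hw⟩) = _
    rw [h]
    exact Submodule.liftQ_apply _ _ _
  let X := H4Gr.subMod 𝒜 (ℳ := 𝒜) (Q : Submodule R R) hQ
  haveI : Module.Finite R X.carrier := inferInstanceAs (Module.Finite R Q)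
  obtain ⟨h, hh⟩ := H4Gr.exists_extension_of_finite hI (i := H4Gr.subIncl 𝒜 (ℳ := 𝒜) (Q : Submodule R R) hQ)
    (H4Gr.isGrHom_subIncl _ _) Subtype.val_injective g₀
  have hhQ : ∀ w, h (Φ w) = ψ w := fun w => by
    have hw : Φ w ∈ Q := hran ▸ LinearMap.mem_range_self Φ w
    exact (LinearMap.congr_fun hh ⟨Φ w, hw⟩).trans (hg₀ w hw)
  refine ⟨h 1, ⟨N, fun r hr => ?_⟩, s, ?_⟩
  · rw [← map_smul, smul_eq_mul, mul_one]
    have := hhQ (⟨r, hr⟩, 0)
    simpa [Φ, ψ] using this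
  · rw [← map_smul, smul_eq_mul, mul_one]
    have := hhQ (0, 1)
    simpa [Φ, ψ] using this

omit [DecidableEq ι] in
theorem gam_sup_span_singleton (J : Ideal R) (f : R) {x : I} :
    x ∈ GrLC.gam (J ⊔ Ideal.span {f}) I ↔ x ∈ GrLC.gam J I ∧ ∃ n : ℕ, f ^ n • x = 0 := by
  constructor
  · rintro ⟨n, hn⟩
    exact ⟨⟨n, fun r hr => hn r (Ideal.pow_right_mono le_sup_left n hr)⟩,
      ⟨n, hn _ (Ideal.pow_right_mono le_sup_right n (Ideal.pow_mem_pow (Ideal.mem_span_singleton_self f) n))⟩⟩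
  · rintro ⟨⟨a, ha⟩, b, hb⟩
    rw [← Ideal.span_eq J, ← Submodule.span_union]
    refine H4Gr.mem_gam_span _ x ?_
    rintro r (hr | hr)
    · exact ⟨a, ha _ (Ideal.pow_mem_pow hr a)⟩
    · rw [Set.mem_singleton_iff.1 hr]; exact ⟨b, hb⟩

variable (𝒜) in
/-- An exact sequence of graded modules. -/
structure GrSES (A B C : GrLC.GMod.{u} 𝒜) (f : A.carrier →ₗ[R] B.carrier) (g : B.carrier →ₗ[R] C.carrier) :
    Prop where
  gf : GrLC.IsGrHom A.gr B.gr f
  gg : GrLC.IsGrHom B.gr C.gr g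
  inj : Function.Injective f
  surj : Function.Surjective g
  exact : Function.Exact f g

/-- A property stable under extensions holding for torsion modules and for modules on which some
parameter acts bijectively holds for *injective modules. -/
theorem starInj_induction (m : Ideal R) {r : ℕ} (f : Fin r → R) (deg : Fin r → ι) (hf : ∀ l, f l ∈ 𝒜 (deg l))
    (hrad : m ≤ (Ideal.span (Set.range f)).radical) (Φ : GrLC.GMod.{u} 𝒜 → Prop)
    (hses : ∀ A B C φ χ, GrSES 𝒜 A B C φ χ → Φ A → Φ C → Φ B)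
    (htor : ∀ X : GrLC.GMod.{u} 𝒜, GrLC.gam m X.carrier = ⊤ → Φ X)
    (hbij : ∀ (X : GrLC.GMod.{u} 𝒜) (l : Fin r), Function.Bijective (fun x : X.carrier => f l • x) → Φ X)
    (hI : GrLC.IsStarInj 𝒜 ℐ) : Φ (GrLC.GMod.of 𝒜 I ℐ) := by
  have hgamh : ∀ {J : Ideal R}, J.IsHomogeneous 𝒜 → (GrLC.gam J I).IsHomogeneous ℐ :=
    fun hJ => H4Gr.isHomogeneous_gam ⟨_, hJ⟩
  have key : ∀ (L : List (Fin r)) (J : Ideal R) (hJ : J.IsHomogeneous 𝒜),
      m ≤ (J ⊔ Ideal.span (f '' {l | l ∈ L})).radical →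
        Φ (H4Gr.subMod 𝒜 (GrLC.gam J I) (hgamh hJ)) := by
    intro L
    induction L with
    | nil =>
      intro J hJ hmJ
      refine htor _ (eq_top_iff.2 fun x _ => ?_)
      simp only [List.not_mem_nil, Set.setOf_false, Set.image_empty, Ideal.span_empty, sup_bot_eq] at hmJ
      obtain ⟨e, he⟩ := Ideal.exists_pow_le_of_le_radical_of_fg hmJ (IsNoetherian.noetherian m)
      obtain ⟨n, hn⟩ := (x : GrLC.gam J I).2
      exact ⟨e * n, fun c hc => Subtype.ext (hn c (by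
        rw [pow_mul] at hc; exact Ideal.pow_right_mono he n hc))⟩
    | cons l L ih =>
      intro J hJ hmJ
      have hJ' : (J ⊔ Ideal.span {f l}).IsHomogeneous 𝒜 :=
        hJ.sup (Ideal.homogeneous_span _ _ fun x hx => ⟨_, (Set.mem_singleton_iff.1 hx).symm ▸ hf l⟩)
      let B := H4Gr.subMod 𝒜 (GrLC.gam J I) (hgamh hJ)
      let p : Submodule R B.carrier :=
        (GrLC.gam (J ⊔ Ideal.span {f l}) I).comap (GrLC.gam J I).subtype
      have hp : p.IsHomogeneous B.gr :=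
        H4Gr.isHomogeneous_comap (H4Gr.isGrHomDeg_zero_iff.2 (H4Gr.isGrHom_subIncl _ _)) (hgamh hJ')
      let A := H4Gr.subMod 𝒜 (GrLC.gam (J ⊔ Ideal.span {f l}) I) (hgamh hJ')
      let C := H4Gr.quotMod 𝒜 p hp
      have hle : GrLC.gam (J ⊔ Ideal.span {f l}) I ≤ GrLC.gam J I := fun x hx =>
        ((gam_sup_span_singleton J (f l)).1 hx).1
      let φ : A.carrier →ₗ[R] B.carrier := Submodule.inclusion hle
      have hφe : Function.Exact φ (H4Gr.quotProj 𝒜 p hp) := fun b => by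
        refine (Submodule.Quotient.mk_eq_zero (p := p)).trans ?_
        refine ⟨fun hb => ⟨(⟨(b : GrLC.gam J I).1, hb⟩ : GrLC.gam (J ⊔ Ideal.span {f l}) I), rfl⟩, ?_⟩
        rintro ⟨a, rfl⟩
        exact (a : GrLC.gam (J ⊔ Ideal.span {f l}) I).2
      have hφg : GrLC.IsGrHom A.gr B.gr φ := fun g x hx => hx
      have hSES : GrSES 𝒜 A B C φ (H4Gr.quotProj 𝒜 p hp) :=
        { gf := hφg
          gg := H4Gr.isGrHom_quotProj p hp
          inj := Submodule.inclusion_injective hle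
          surj := Submodule.mkQ_surjective p
          exact := hφe }
      refine hses A B C φ (H4Gr.quotProj 𝒜 p hp) hSES
        (ih _ hJ' (hmJ.trans (Ideal.radical_mono ?_))) (hbij C l ⟨?_, ?_⟩)
      · refine sup_le (le_sup_left.trans le_sup_left) (Ideal.span_le.2 ?_)
        rintro _ ⟨i, hi, rfl⟩
        rcases List.mem_cons.1 hi with rfl | hi
        · exact Submodule.mem_sup_left (Submodule.mem_sup_right (Ideal.mem_span_singleton_self _))
        · exact Submodule.mem_sup_right (Ideal.subset_span ⟨i, hi, rfl⟩)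
      · intro a b hab
        obtain ⟨a, rfl⟩ := Submodule.Quotient.mk_surjective p a
        obtain ⟨b, rfl⟩ := Submodule.Quotient.mk_surjective p b
        refine (Submodule.Quotient.eq p).2 ?_
        have h1 : f l • (a - b) ∈ p := by
          rw [smul_sub]
          exact (Submodule.Quotient.eq p).1 hab
        obtain ⟨-, n, hn⟩ := (gam_sup_span_singleton J (f l)).1 h1
        refine (gam_sup_span_singleton J (f l)).2 ⟨(a - b).2, n + 1, ?_⟩
        rw [pow_succ, mul_smul]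
        exact hn
      · intro y
        obtain ⟨y, rfl⟩ := Submodule.Quotient.mk_surjective p y
        obtain ⟨z, hz, s, hzs⟩ := exists_divide hI hJ (hf l) y.2
        let z' : B.carrier := (⟨z, hz⟩ : GrLC.gam J I)
        refine ⟨Submodule.Quotient.mk z', (Submodule.Quotient.eq p).2 ?_⟩
        refine (gam_sup_span_singleton J (f l)).2 ⟨Subtype.coe_prop (f l • z' - y), s, ?_⟩
        show f l ^ s • (f l • z - (y : GrLC.gam J I).1) = 0
        rw [smul_sub, ← mul_smul, ← pow_succ, hzs, sub_self]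
  have hbot : (⊥ : Ideal R).IsHomogeneous 𝒜 := Ideal.IsHomogeneous.bot 𝒜
  have htop : ∀ x : I, x ∈ GrLC.gam (⊥ : Ideal R) I := fun x => ⟨1, fun r hr => by
    rw [pow_one] at hr; rw [(Submodule.mem_bot R).1 hr, zero_smul]⟩
  have h0 := key (List.finRange r) ⊥ hbot (hrad.trans (Ideal.radical_mono (le_of_eq_of_le (congrArg _
    (show Set.range f = f '' {l | l ∈ List.finRange r} by simp [Set.image_univ])) le_sup_right)))
  let Z := H4Gr.subMod 𝒜 (⊥ : Submodule R I) (H4Gr.isHomogeneous_bot (ℳ := ℐ))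
  haveI : Subsingleton Z.carrier := inferInstanceAs (Subsingleton (⊥ : Submodule R I))
  refine hses Z (GrLC.GMod.of 𝒜 I ℐ) (H4Gr.subMod 𝒜 (GrLC.gam ⊥ I) (hgamh hbot))
    (H4Gr.subIncl 𝒜 _ _) (LinearMap.codRestrict _ LinearMap.id htop) ?_
    (htor Z (H4Gr.gam_eq_top_of_subsingleton m)) h0
  refine ⟨H4Gr.isGrHom_subIncl _ _, fun g x hx => hx, Subtype.val_injective,
    fun x => ⟨x.1, rfl⟩, fun b => ?_⟩
  refine ⟨fun hb => ⟨(⟨b, (Submodule.mem_bot R).2 (congrArg Subtype.val hb)⟩ : (⊥ : Submodule R I)), rfl⟩, ?_⟩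
  rintro ⟨a, rfl⟩
  exact Subtype.ext ((Submodule.mem_bot R).1 (a : (⊥ : Submodule R I)).2)

end Groth.Agent.H4KS
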