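import Mathlib.LinearAlgebra.Projection
import Mathlib.LinearAlgebra.Basis.VectorSpace
import Mathlib.LinearAlgebra.TensorProduct.Map
import Mathlib.LinearAlgebra.Dimension.Finrank

/-!
# Graded complexes of vector spaces as differential spaces with a grading by projections
-/

set_option autoImplicit false

universe u

open scoped TensorProduct

namespace Groth.Agent.H4KS

variable {k : Type u} [Field k] {V : Type u} [AddCommGroup V] [Module k V]

/-- `d` is a differential of degree one for the grading given by the projections `e n`. -/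
structure IsGC (e : ℕ → V →ₗ[k] V) (d : V →ₗ[k] V) : Prop where
  idem : ∀ a x, e a (e a x) = e a x
  orth : ∀ a b, a ≠ b → ∀ x, e a (e b x) = 0
  supp : ∀ x, ∃ N, ∑ a ∈ Finset.range N, e a x = x
  de : ∀ a x, d (e a x) = e (a + 1) (d x)
  dd : ∀ x, d (d x) = 0

/-- Cocycles of degree `n`. -/
def zc (e : ℕ → V →ₗ[k] V) (d : V →ₗ[k] V) (n : ℕ) : Submodule k V :=
  LinearMap.range (e n) ⊓ LinearMap.ker d

/-- Coboundaries of degree `n`. -/
def bc (e : ℕ → V →ₗ[k] V) (d : V →ₗ[k] V) (n : ℕ) : Submodule k V :=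
  LinearMap.range (e n) ⊓ LinearMap.range d

/-- Cohomology in degree `n`. -/
abbrev coh (e : ℕ → V →ₗ[k] V) (d : V →ₗ[k] V) (n : ℕ) : Type u :=
  ↥(zc e d n) ⧸ (bc e d n).comap (zc e d n).subtype

variable {e : ℕ → V →ₗ[k] V} {d : V →ₗ[k] V} (G : IsGC e d)

include G

theorem IsGC.e_of_mem {a : ℕ} {x : V} (hx : x ∈ LinearMap.range (e a)) : e a x = x := by
  obtain ⟨y, rfl⟩ := hx; exact G.idem a y

theorem IsGC.e_of_mem_ne {a b : ℕ} (h : a ≠ b) {x : V} (hx : x ∈ LinearMap.range (e b)) : e a x = 0 := by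
  obtain ⟨y, rfl⟩ := hx; exact G.orth a b h y

theorem IsGC.eq_zero_of_forall {x : V} (h : ∀ a, e a x = 0) : x = 0 := by
  obtain ⟨N, hN⟩ := G.supp x
  rw [← hN]
  exact Finset.sum_eq_zero fun a _ => h a

theorem IsGC.e_zero_d (x : V) : e 0 (d x) = 0 := by
  obtain ⟨N, hN⟩ := G.supp x
  rw [← hN, map_sum, map_sum]
  refine Finset.sum_eq_zero fun a _ => ?_
  rw [G.de, G.orth 0 (a + 1) (Nat.succ_ne_zero a).symm]

theorem IsGC.e_succ_d (a : ℕ) (x : V) : e (a + 1) (d x) = d (e a x) := (G.de a x).symm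

theorem IsGC.exists_compl {p q : Submodule k V} (hpq : p ≤ q) (hp : ∀ a, ∀ x ∈ p, e a x ∈ p)
    (hq : ∀ a, ∀ x ∈ q, e a x ∈ q) :
    ∃ r : Submodule k V, r ≤ q ∧ (∀ a, ∀ x ∈ r, e a x ∈ r) ∧ Disjoint p r ∧ p ⊔ r = q := by
  choose s hs using fun a => exists_isCompl ((p ⊓ LinearMap.range (e a)).comap (q ⊓ LinearMap.range (e a)).subtype)
  let ra : ℕ → Submodule k V := fun a => (s a).map (q ⊓ LinearMap.range (e a)).subtype
  have hra : ∀ a, ra a ≤ q ⊓ LinearMap.range (e a) := fun a => Submodule.map_subtype_le _ _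
  have hproj : ∀ b, ∀ x ∈ ⨆ a, ra a, e b x ∈ ra b := by
    intro b x hx
    induction hx using Submodule.iSup_induction' with
    | mem a y hy =>
      by_cases h : b = a
      · subst h; rwa [G.e_of_mem (hra b hy).2]
      · rw [G.e_of_mem_ne h (hra a hy).2]; exact zero_mem _
    | zero => rw [map_zero]; exact zero_mem _
    | add y z _ _ hy hz => rw [map_add]; exact add_mem hy hz
  refine ⟨⨆ a, ra a, iSup_le fun a => (hra a).trans inf_le_left,
    fun b x hx => Submodule.mem_iSup_of_mem b (hproj b x hx), ?_, ?_⟩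
  · rw [Submodule.disjoint_def]
    intro x hxp hxr
    refine G.eq_zero_of_forall fun a => ?_
    obtain ⟨y, hy, hyx⟩ := hproj a x hxr
    have h1 : y ∈ (p ⊓ LinearMap.range (e a)).comap (q ⊓ LinearMap.range (e a)).subtype :=
      ⟨by rw [hyx]; exact hp a x hxp, ⟨x, hyx.symm⟩⟩
    have h2 := Submodule.disjoint_def.1 (hs a).disjoint y h1 hy
    rw [← hyx, h2]
    rfl
  · refine le_antisymm (sup_le hpq (iSup_le fun a => (hra a).trans inf_le_left)) fun x hx => ?_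
    obtain ⟨N, hN⟩ := G.supp x
    rw [← hN]
    refine sum_mem fun a _ => ?_
    have h : (⟨e a x, hq a x hx, ⟨x, rfl⟩⟩ : ↥(q ⊓ LinearMap.range (e a))) ∈
        (p ⊓ LinearMap.range (e a)).comap (q ⊓ LinearMap.range (e a)).subtype ⊔ s a :=
      (hs a).sup_eq_top ▸ Submodule.mem_top
    obtain ⟨u, hu, v, hv, huv⟩ := Submodule.mem_sup.1 h
    rw [show e a x = (u : V) + (v : V) from (congrArg Subtype.val huv).symm]
    exact add_mem (Submodule.mem_sup_left (show (u : V) ∈ p from hu.1))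
      (Submodule.mem_sup_right (Submodule.mem_iSup_of_mem a ⟨v, hv, rfl⟩))

/-- A homotopy onto the cohomology, compatible with the grading. -/
theorem IsGC.exists_homotopy {σ : V →ₗ[k] V} (hσ : ∀ a x, σ (e a x) = ((-1 : k) ^ a) • e a x) :
    ∃ h π : V →ₗ[k] V, (∀ x, d (h x) + h (d x) = x - π x) ∧ (∀ x, d (π x) = 0) ∧ (∀ x, π (d x) = 0) ∧
      (∀ x, π (π x) = π x) ∧ (∀ a x, e a (π x) = π (e a x)) ∧ (∀ a x, h (e (a + 1) x) = e a (h x)) ∧
      (∀ x, σ (h x) + h (σ x) = 0) ∧ (∀ x, σ (π x) = π (σ x)) ∧ (∀ x, h (e 0 x) = 0) := by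
  have hker : ∀ a, ∀ x ∈ LinearMap.ker d, e a x ∈ LinearMap.ker d := fun a x hx => by
    rw [LinearMap.mem_ker, G.de, LinearMap.mem_ker.1 hx, map_zero]
  have hran : ∀ a, ∀ x ∈ LinearMap.range d, e a x ∈ LinearMap.range d := by
    rintro (_ | a) _ ⟨x, rfl⟩
    · rw [G.e_zero_d]; exact zero_mem _
    · rw [G.e_succ_d]; exact ⟨_, rfl⟩
  have hle : LinearMap.range d ≤ LinearMap.ker d := by
    rintro _ ⟨x, rfl⟩; exact G.dd x
  obtain ⟨H, hHk, hHe, hHd, hHs⟩ := G.exists_compl hle hran hker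
  obtain ⟨C, -, hCe, hCd, hCs⟩ := G.exists_compl (le_top : LinearMap.ker d ≤ ⊤) hker fun _ _ _ => Submodule.mem_top
  let Φ : C × H × C →ₗ[k] V :=
    (d ∘ₗ C.subtype) ∘ₗ LinearMap.fst k _ _ +
      ((H.subtype ∘ₗ LinearMap.fst k _ _) + (C.subtype ∘ₗ LinearMap.snd k _ _)) ∘ₗ LinearMap.snd k _ _
  have hΦapp : ∀ u η c, Φ (u, η, c) = d u + ((η : V) + (c : V)) := fun u η c => rfl
  have hCker : ∀ c : C, d c = 0 → c = 0 := fun c hc =>
    Subtype.ext (Submodule.disjoint_def.1 hCd c hc c.2)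
  have hinj : Function.Injective Φ := by
    rw [injective_iff_map_eq_zero]
    rintro ⟨u, η, c⟩ h0
    rw [hΦapp] at h0
    have hc : c = 0 := hCker c (by
      have := congrArg d h0
      rwa [map_add, map_add, G.dd, zero_add, LinearMap.mem_ker.1 (hHk η.2), zero_add, map_zero] at this)
    rw [hc, ZeroMemClass.coe_zero, add_zero] at h0
    have hη : η = 0 := Subtype.ext (Submodule.disjoint_def.1 hHd η
      (by rw [show (η : V) = d (-(u : V)) by rw [map_neg]; exact eq_neg_of_add_eq_zero_right h0]; exact ⟨_, rfl⟩) η.2)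
    rw [hη, ZeroMemClass.coe_zero, add_zero] at h0
    rw [hc, hη, hCker u h0]; rfl
  have hsurj : Function.Surjective Φ := fun x => by
    obtain ⟨z, hz, c, hc, rfl⟩ := Submodule.mem_sup.1 (hCs.ge (Submodule.mem_top (x := x)))
    obtain ⟨b, ⟨w, rfl⟩, η, hη, rfl⟩ := Submodule.mem_sup.1 (hHs.ge hz)
    obtain ⟨z', hz', c', hc', rfl⟩ := Submodule.mem_sup.1 (hCs.ge (Submodule.mem_top (x := w)))
    refine ⟨(⟨c', hc'⟩, ⟨η, hη⟩, ⟨c, hc⟩), ?_⟩
    rw [hΦapp, map_add, LinearMap.mem_ker.1 hz', zero_add, add_assoc]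
  let L := LinearEquiv.ofBijective Φ ⟨hinj, hsurj⟩
  let h : V →ₗ[k] V := C.subtype ∘ₗ LinearMap.fst k _ _ ∘ₗ L.symm.toLinearMap
  let π : V →ₗ[k] V := H.subtype ∘ₗ LinearMap.fst k _ _ ∘ₗ LinearMap.snd k _ _ ∘ₗ L.symm.toLinearMap
  have hh : ∀ u η c, h (Φ (u, η, c)) = u ∧ π (Φ (u, η, c)) = η := fun u η c => by
    have : L.symm (Φ (u, η, c)) = (u, η, c) := L.symm_apply_apply _
    simp [h, π, this]
  have hdΦ : ∀ u η c, d (Φ (u, η, c)) = Φ (c, 0, 0) := fun u η c => by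
    rw [hΦapp, hΦapp, map_add, map_add, G.dd, LinearMap.mem_ker.1 (hHk η.2)]
    simp
  have heΦ : ∀ a u η c, e (a + 1) (Φ (u, η, c)) = Φ (⟨e a u, hCe a u u.2⟩, ⟨e (a + 1) η, hHe _ η η.2⟩,
      ⟨e (a + 1) c, hCe _ c c.2⟩) := fun a u η c => by
    rw [hΦapp, hΦapp, map_add, map_add, G.e_succ_d]
  have he0 : ∀ u η c, e 0 (Φ (u, η, c)) = Φ (0, ⟨e 0 η, hHe _ η η.2⟩, ⟨e 0 c, hCe _ c c.2⟩) := fun u η c => by
    rw [hΦapp, hΦapp, map_add, map_add, G.e_zero_d]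
    simp
  have hsgn : ∀ (p : Submodule k V), (∀ a, ∀ x ∈ p, e a x ∈ p) → ∀ x ∈ p, σ x ∈ p := by
    intro p hp x hx
    obtain ⟨N, hN⟩ := G.supp x
    rw [← hN, map_sum]
    exact sum_mem fun a _ => by rw [hσ]; exact p.smul_mem _ (hp a x hx)
  have hσd : ∀ x, σ (d x) + d (σ x) = 0 := fun x => by
    obtain ⟨N, hN⟩ := G.supp x
    rw [← hN]
    simp only [map_sum, ← Finset.sum_add_distrib]
    refine Finset.sum_eq_zero fun a _ => ?_
    rw [hσ, map_smul, G.de, hσ, pow_succ, mul_neg_one, neg_smul, neg_add_cancel]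
  have hσΦ : ∀ u η c, σ (Φ (u, η, c)) = Φ (-⟨σ u, hsgn C hCe u u.2⟩, ⟨σ η, hsgn H hHe η η.2⟩,
      ⟨σ c, hsgn C hCe c c.2⟩) := fun u η c => by
    rw [hΦapp, hΦapp, map_add, map_add, eq_neg_of_add_eq_zero_left (hσd u), NegMemClass.coe_neg, map_neg]
  refine ⟨h, π, ?_, ?_, ?_, ?_, ?_, ?_, ?_, ?_, ?_⟩
  all_goals first
    | intro a x
      obtain ⟨⟨u, η, c⟩, rfl⟩ := hsurj x
    | intro x
      obtain ⟨⟨u, η, c⟩, rfl⟩ := hsurj x
  · rw [(hh u η c).1, (hh u η c).2, hdΦ, (hh c 0 0).1, hΦapp]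
    abel
  · rw [(hh u η c).2]; exact hHk η.2
  · rw [hdΦ, (hh c 0 0).2]; rfl
  · rw [(hh u η c).2]
    have e1 := (hh 0 η 0).2
    rwa [show Φ (0, η, 0) = (η : V) by rw [hΦapp]; simp] at e1
  · rw [(hh u η c).2]
    cases a with
    | zero => rw [he0, (hh _ _ _).2]
    | succ a => rw [heΦ, (hh _ _ _).2]
  · rw [heΦ, (hh _ _ _).1, (hh u η c).1]
  · rw [(hh u η c).1, hσΦ, (hh _ _ _).1, NegMemClass.coe_neg]
    exact add_neg_cancel _
  · rw [(hh u η c).2, hσΦ, (hh _ _ _).2]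
  · rw [he0, (hh _ _ _).1]; rfl

end Groth.Agent.H4KS
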