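import Groth.Agent.H4KS.Homotopy
import Mathlib.LinearAlgebra.Dimension.Constructions
import Mathlib.LinearAlgebra.FiniteDimensional.Lemmas
import Mathlib.RingTheory.Flat.Basic
import Mathlib.LinearAlgebra.TensorProduct.Tower

/-!
# The Künneth formula over a field for differential spaces
-/

set_option autoImplicit false
set_option linter.unusedSectionVars false

universe u

open scoped TensorProduct

namespace Groth.Agent.H4KS

variable {k : Type u} [Field k]

section Coh

variable {V : Type u} [AddCommGroup V] [Module k V] {e : ℕ → V →ₗ[k] V} {d : V →ₗ[k] V}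

/-- A homotopy onto a projection identifies cohomology with the range of the projection. -/
theorem IsGC.nonempty_coh_equiv (G : IsGC e d) {h π : V →ₗ[k] V} (hhd : ∀ x, d (h x) + h (d x) = x - π x)
    (hdπ : ∀ x, d (π x) = 0) (hπd : ∀ x, π (d x) = 0) (hππ : ∀ x, π (π x) = π x)
    (hπe : ∀ a x, e a (π x) = π (e a x)) (n : ℕ) :
    Nonempty (coh e d n ≃ₗ[k] LinearMap.range (π ∘ₗ e n)) := by
  let Φ : zc e d n →ₗ[k] LinearMap.range (π ∘ₗ e n) :=
    (π ∘ₗ (zc e d n).subtype).codRestrict _ fun z =>
      ⟨z, by rw [LinearMap.comp_apply, G.e_of_mem z.2.1]; rfl⟩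
  have hΦ : Function.Surjective Φ := by
    rintro ⟨_, w, rfl⟩
    refine ⟨⟨π (e n w), ⟨π w, by rw [hπe]⟩, hdπ _⟩, Subtype.ext ?_⟩
    exact hππ _
  have hker : LinearMap.ker Φ = (bc e d n).comap (zc e d n).subtype := by
    ext z
    constructor
    · intro hz
      have h0 : π (z : V) = 0 := congrArg Subtype.val hz
      refine ⟨z.2.1, h z, ?_⟩
      have h2 := hhd z
      rwa [LinearMap.mem_ker.1 z.2.2, map_zero, add_zero, h0, sub_zero] at h2
    · rintro ⟨-, w, hw⟩
      exact Subtype.ext (show π (z : V) = 0 by rw [show (z : V) = d w from hw.symm]; exact hπd w)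
  exact ⟨(Submodule.quotEquivOfEq _ _ hker.symm).trans (Φ.quotKerEquivOfSurjective hΦ)⟩

theorem sign_exists (G : IsGC e d) : ∃ s : V →ₗ[k] V, ∀ b x, s (e b x) = ((-1 : k) ^ b) • e b x := by
  choose N hN using G.supp
  let f : V → V := fun x => ∑ a ∈ Finset.range (N x), ((-1 : k) ^ a) • e a x
  have hf : ∀ x M, N x ≤ M → f x = ∑ a ∈ Finset.range M, ((-1 : k) ^ a) • e a x := fun x M hM => by
    refine Finset.sum_subset (Finset.range_mono hM) fun b _ hb => ?_
    rw [← hN x, map_sum, Finset.sum_eq_zero fun a ha => G.orth b a (fun h => hb (h ▸ ha)) x, smul_zero]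
  refine ⟨{ toFun := f, map_add' := fun x y => ?_, map_smul' := fun c x => ?_ }, fun b x => ?_⟩
  · rw [hf (x + y) (N x + N y + N (x + y)) (by omega), hf x (N x + N y + N (x + y)) (by omega),
      hf y (N x + N y + N (x + y)) (by omega), ← Finset.sum_add_distrib]
    simp only [map_add, smul_add]
  · rw [hf (c • x) (N x + N (c • x)) (by omega), hf x (N x + N (c • x)) (by omega), RingHom.id_apply, Finset.smul_sum]
    simp only [map_smul, smul_comm c]
  · show f (e b x) = _
    rw [hf (e b x) (N (e b x) + b + 1) (by omega), Finset.sum_eq_single b]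
    · rw [G.idem]
    · intro a _ hab; rw [G.orth a b hab, smul_zero]
    · intro h; exact absurd (Finset.mem_range.2 (by omega)) h

theorem IsGC.sum_of_le (G : IsGC e d) {x : V} {N M : ℕ} (hN : ∑ a ∈ Finset.range N, e a x = x) (hM : N ≤ M) :
    ∑ a ∈ Finset.range M, e a x = x := by
  conv_rhs => rw [← hN]
  refine (Finset.sum_subset (Finset.range_mono hM) fun b _ hb => ?_).symm
  rw [← hN, map_sum]
  refine Finset.sum_eq_zero fun a ha => G.orth b a ?_ x
  rintro rfl
  exact hb ha

end Coh

theorem finrank_range_map {A B A' B' : Type u} [AddCommGroup A] [Module k A] [AddCommGroup B] [Module k B]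
    [AddCommGroup A'] [Module k A'] [AddCommGroup B'] [Module k B'] (P : A →ₗ[k] A') (Q : B →ₗ[k] B') :
    Nonempty (LinearMap.range P ⊗[k] LinearMap.range Q ≃ₗ[k] LinearMap.range (TensorProduct.map P Q)) := by
  have hfac : TensorProduct.map P Q = TensorProduct.map (LinearMap.range P).subtype (LinearMap.range Q).subtype ∘ₗ
      TensorProduct.map P.rangeRestrict Q.rangeRestrict := by
    rw [← TensorProduct.map_comp]; rfl
  have hr : LinearMap.range (TensorProduct.map P Q) =
      LinearMap.range (TensorProduct.map (LinearMap.range P).subtype (LinearMap.range Q).subtype) := by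
    rw [hfac, LinearMap.range_comp, LinearMap.range_eq_top.2
      (TensorProduct.map_surjective P.surjective_rangeRestrict Q.surjective_rangeRestrict), Submodule.map_top]
  exact ⟨(LinearEquiv.ofInjective _ (TensorProduct.map_injective_of_flat_flat _ _
    (Submodule.injective_subtype _) (Submodule.injective_subtype _))).trans (LinearEquiv.ofEq _ _ hr.symm)⟩

theorem finrank_range_sum {V : Type u} [AddCommGroup V] [Module k V] {I : Type} (s : Finset I)
    (P : I → V →ₗ[k] V) (hii : ∀ i x, P i (P i x) = P i x) (hij : ∀ i j, i ≠ j → ∀ x, P i (P j x) = 0)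
    (hfin : ∀ i, FiniteDimensional k (LinearMap.range (P i))) :
    FiniteDimensional k (LinearMap.range (∑ i ∈ s, P i)) ∧
      Module.finrank k (LinearMap.range (∑ i ∈ s, P i)) = ∑ i ∈ s, Module.finrank k (LinearMap.range (P i)) := by
  classical
  induction s using Finset.induction with
  | empty =>
    rw [Finset.sum_empty, Finset.sum_empty, LinearMap.range_zero]
    exact ⟨inferInstance, finrank_bot k V⟩
  | @insert i s hi ih =>
    obtain ⟨hf, hd⟩ := ih
    rw [Finset.sum_insert hi, Finset.sum_insert hi]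
    set Q := ∑ j ∈ s, P j
    have hPQ : ∀ x, P i (Q x) = 0 := fun x => by
      simp only [Q, LinearMap.sum_apply, map_sum]
      exact Finset.sum_eq_zero fun j hj => hij i j (fun e => hi (e ▸ hj)) x
    have hQP : ∀ x, Q (P i x) = 0 := fun x => by
      simp only [Q, LinearMap.sum_apply]
      exact Finset.sum_eq_zero fun j hj => hij j i (fun e => hi (e ▸ hj)) x
    have hQQ : ∀ x, Q (Q x) = Q x := fun x => by
      simp only [Q, LinearMap.sum_apply, map_sum]
      refine Finset.sum_congr rfl fun j hj => ?_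
      rw [Finset.sum_eq_single j (fun j' _ hne => hij j' j hne x) (fun h => absurd hj h), hii]
    have hr : LinearMap.range (P i + Q) = LinearMap.range (P i) ⊔ LinearMap.range Q := by
      refine le_antisymm (LinearMap.range_add_le _ _) (sup_le ?_ ?_)
      · rintro _ ⟨x, rfl⟩
        exact ⟨P i x, by rw [LinearMap.add_apply, hii, hQP, add_zero]⟩
      · rintro _ ⟨x, rfl⟩
        exact ⟨Q x, by rw [LinearMap.add_apply, hPQ, hQQ, zero_add]⟩
    have hdis : LinearMap.range (P i) ⊓ LinearMap.range Q = ⊥ := by
      rw [eq_bot_iff]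
      rintro _ ⟨⟨x, rfl⟩, y, hy⟩
      rw [Submodule.mem_bot]
      have := congrArg (P i) hy
      rwa [hPQ, hii, eq_comm] at this
    haveI := hfin i
    rw [hr]
    refine ⟨inferInstance, ?_⟩
    have h := Submodule.finrank_sup_add_finrank_inf_eq (LinearMap.range (P i)) (LinearMap.range Q)
    rwa [hdis, finrank_bot, add_zero, hd] at h

section Tensor

variable {A B : Type u} [AddCommGroup A] [Module k A] [AddCommGroup B] [Module k B]
  (eA : ℕ → A →ₗ[k] A) (dA σ : A →ₗ[k] A) (eB : ℕ → B →ₗ[k] B) (dB : B →ₗ[k] B)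

/-- The total grading of a tensor product. -/
noncomputable def eT (n : ℕ) : A ⊗[k] B →ₗ[k] A ⊗[k] B :=
  ∑ a ∈ Finset.range (n + 1), TensorProduct.map (eA a) (eB (n - a))

/-- The total differential of a tensor product. -/
noncomputable def dT : A ⊗[k] B →ₗ[k] A ⊗[k] B :=
  TensorProduct.map dA LinearMap.id + TensorProduct.map σ dB

variable {eA dA σ eB dB} (GA : IsGC eA dA) (GB : IsGC eB dB)
  (hσ : ∀ a x, σ (eA a x) = ((-1 : k) ^ a) • eA a x)

include GA hσ in
theorem sigma_d (x : A) : σ (dA x) + dA (σ x) = 0 := by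
  obtain ⟨N, hN⟩ := GA.supp x
  rw [← hN]
  simp only [map_sum, ← Finset.sum_add_distrib]
  refine Finset.sum_eq_zero fun a _ => ?_
  rw [hσ, map_smul, GA.de, hσ, pow_succ, mul_neg_one, neg_smul, neg_add_cancel]

include GA hσ in
theorem sigma_sigma (x : A) : σ (σ x) = x := by
  obtain ⟨N, hN⟩ := GA.supp x
  rw [← hN]
  simp only [map_sum]
  refine Finset.sum_congr rfl fun a _ => ?_
  rw [hσ, map_smul, hσ, smul_smul, ← pow_add, Even.neg_one_pow ⟨a, rfl⟩, one_smul]

include GA GB in
theorem tensor_induction {motive : A ⊗[k] B → Prop} (zero : motive 0)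
    (add : ∀ x y, motive x → motive y → motive (x + y))
    (hom : ∀ (a b : ℕ) (x : A) (y : B), eA a x = x → eB b y = y → motive (x ⊗ₜ y)) (z : A ⊗[k] B) : motive z := by
  induction z using TensorProduct.induction_on with
  | zero => exact zero
  | add x y hx hy => exact add x y hx hy
  | tmul x y =>
    obtain ⟨N, hN⟩ := GA.supp x
    obtain ⟨M, hM⟩ := GB.supp y
    rw [← hN, TensorProduct.sum_tmul]
    refine Finset.sum_induction _ motive add zero fun a _ => ?_
    rw [← hM, TensorProduct.tmul_sum]
    exact Finset.sum_induction _ motive add zero fun b _ => hom a b _ _ (GA.idem a x) (GB.idem b y)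

include GA GB in
theorem eT_tmul {a b : ℕ} {x : A} {y : B} (hx : eA a x = x) (hy : eB b y = y) (n : ℕ) :
    eT eA eB n (x ⊗ₜ[k] y) = if a + b = n then x ⊗ₜ[k] y else 0 := by
  simp only [eT, LinearMap.sum_apply, TensorProduct.map_tmul]
  by_cases h : a + b = n
  · rw [if_pos h, Finset.sum_eq_single a]
    · rw [hx, show n - a = b by omega, hy]
    · intro c _ hc
      rw [← hx, GA.orth c a hc, TensorProduct.zero_tmul]
    · intro hna
      exact absurd (Finset.mem_range.2 (by omega)) hna
  · rw [if_neg h]
    refine Finset.sum_eq_zero fun c hc => ?_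
    rw [Finset.mem_range] at hc
    by_cases hca : c = a
    · subst hca
      rw [← hy, GB.orth (n - c) b (by omega), TensorProduct.tmul_zero]
    · rw [← hx, GA.orth c a hca, TensorProduct.zero_tmul]

include GA GB hσ in
/-- The tensor product of two differential spaces. -/
theorem isGC_tensor : IsGC (eT eA eB) (dT dA σ dB) := by
  refine ⟨fun n z => ?_, fun n m hnm z => ?_, fun z => ?_, fun n z => ?_, fun z => ?_⟩
  · induction z using tensor_induction GA GB with
    | zero => simp only [map_zero]
    | add x y hx hy => simp only [map_add, hx, hy]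
    | hom a b x y hx hy =>
      simp only [eT_tmul GA GB hx hy]
      split_ifs with h
      · rw [eT_tmul GA GB hx hy, if_pos h]
      · rw [map_zero]
  · induction z using tensor_induction GA GB with
    | zero => simp only [map_zero]
    | add x y hx hy => simp only [map_add, hx, hy, add_zero]
    | hom a b x y hx hy =>
      simp only [eT_tmul GA GB hx hy]
      split_ifs with h
      · rw [eT_tmul GA GB hx hy, if_neg (by omega)]
      · rw [map_zero]
  · suffices ∃ N, ∀ M, N ≤ M → ∑ n ∈ Finset.range M, eT eA eB n z = z by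
      obtain ⟨N, hN⟩ := this; exact ⟨N, hN N le_rfl⟩
    induction z using tensor_induction GA GB with
    | zero => exact ⟨0, fun M _ => by simp⟩
    | add x y hx hy =>
      obtain ⟨N, hN⟩ := hx
      obtain ⟨N', hN'⟩ := hy
      exact ⟨N + N', fun M hM => by simp only [map_add, Finset.sum_add_distrib]; rw [hN M (by omega), hN' M (by omega)]⟩
    | hom a b x y hx hy =>
      refine ⟨a + b + 1, fun M hM => ?_⟩
      rw [Finset.sum_eq_single (a + b)]
      · rw [eT_tmul GA GB hx hy, if_pos rfl]
      · intro n _ hn; rw [eT_tmul GA GB hx hy, if_neg (Ne.symm hn)]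
      · intro h; exact absurd (Finset.mem_range.2 (by omega)) h
  · induction z using tensor_induction GA GB with
    | zero => simp only [map_zero]
    | add x y hx hy => simp only [map_add, hx, hy]
    | hom a b x y hx hy =>
      have h1 : eA (a + 1) (dA x) = dA x := by rw [← GA.de, hx]
      have h2 : eB (b + 1) (dB y) = dB y := by rw [← GB.de, hy]
      have h3 : eA a (σ x) = σ x := by rw [← hx, hσ, map_smul, GA.idem]
      simp only [eT_tmul GA GB hx hy, dT, LinearMap.add_apply, TensorProduct.map_tmul, LinearMap.id_apply, map_add,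
        eT_tmul GA GB h1 hy, eT_tmul GA GB h3 h2]
      by_cases h : a + b = n
      · rw [if_pos h, if_pos (by omega), if_pos (by omega)]
        simp only [TensorProduct.map_tmul, LinearMap.id_apply]
      · rw [if_neg h, if_neg (by omega), if_neg (by omega)]
        simp
  · induction z using TensorProduct.induction_on with
    | zero => simp only [map_zero]
    | add x y hx hy => simp only [map_add, hx, hy, add_zero]
    | tmul x y =>
      simp only [dT, LinearMap.add_apply, TensorProduct.map_tmul, LinearMap.id_apply, map_add, GA.dd, GB.dd,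
        TensorProduct.zero_tmul, TensorProduct.tmul_zero, add_zero, zero_add]
      rw [← TensorProduct.add_tmul, sigma_d GA hσ, TensorProduct.zero_tmul]

include GA GB hσ in
/-- The Künneth formula. -/
theorem finrank_coh_tensor (hfA : ∀ a, FiniteDimensional k (coh eA dA a))
    (hfB : ∀ b, FiniteDimensional k (coh eB dB b)) (n : ℕ) :
    FiniteDimensional k (coh (eT eA eB) (dT dA σ dB) n) ∧
      Module.finrank k (coh (eT eA eB) (dT dA σ dB) n) =
        ∑ a ∈ Finset.range (n + 1), Module.finrank k (coh eA dA a) * Module.finrank k (coh eB dB (n - a)) := by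
  obtain ⟨h, π, hhd, hdπ, hπd, hππ, hπe, -, hhσ, hπσ, -⟩ := GA.exists_homotopy hσ
  have hexB : ∃ h' π' : B →ₗ[k] B, (∀ x, dB (h' x) + h' (dB x) = x - π' x) ∧ (∀ x, dB (π' x) = 0) ∧
      (∀ x, π' (dB x) = 0) ∧ (∀ x, π' (π' x) = π' x) ∧ (∀ b x, eB b (π' x) = π' (eB b x)) := by
    obtain ⟨s, hs⟩ : ∃ s : B →ₗ[k] B, ∀ b x, s (eB b x) = ((-1 : k) ^ b) • eB b x := sign_exists GB
    obtain ⟨h', π', h1, h2, h3, h4, h5, -⟩ := GB.exists_homotopy hs
    exact ⟨h', π', h1, h2, h3, h4, h5⟩
  obtain ⟨h', π', hhd', hdπ', hπd', hππ', hπe'⟩ := hexB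
  have GT := isGC_tensor GA GB hσ
  let H2 : A ⊗[k] B →ₗ[k] A ⊗[k] B := TensorProduct.map h LinearMap.id + TensorProduct.map (π ∘ₗ σ) h'
  let Q2 : A ⊗[k] B →ₗ[k] A ⊗[k] B := TensorProduct.map π π'
  have e1 : ∀ z, dT dA σ dB (H2 z) + H2 (dT dA σ dB z) = z - Q2 z := by
    intro z
    induction z using TensorProduct.induction_on with
    | zero => simp only [map_zero, add_zero, sub_zero]
    | add x y hx hy => simp only [map_add]; rw [add_add_add_comm, hx, hy]; abel
    | tmul x y =>
      simp only [dT, H2, Q2, LinearMap.add_apply, TensorProduct.map_tmul, LinearMap.id_apply, map_add,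
        LinearMap.comp_apply]
      have a1 : σ (π (σ x)) = π x := by rw [hπσ, sigma_sigma GA hσ]
      have a2 : π (σ (dA x)) = 0 := by rw [eq_neg_of_add_eq_zero_left (sigma_d GA hσ x), map_neg, hπd, neg_zero]
      simp only [hdπ, a1, a2, sigma_sigma GA hσ, TensorProduct.zero_tmul]
      calc dA (h x) ⊗ₜ[k] y + σ (h x) ⊗ₜ[k] dB y + (0 + π x ⊗ₜ[k] dB (h' y)) +
            (h (dA x) ⊗ₜ[k] y + 0 + (h (σ x) ⊗ₜ[k] dB y + π x ⊗ₜ[k] h' (dB y))) =
          (dA (h x) + h (dA x)) ⊗ₜ[k] y + (σ (h x) + h (σ x)) ⊗ₜ[k] dB y +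
            π x ⊗ₜ[k] (dB (h' y) + h' (dB y)) := by
            simp only [TensorProduct.add_tmul, TensorProduct.tmul_add]; abel
        _ = _ := by
            rw [hhd, hhσ, hhd', TensorProduct.zero_tmul, TensorProduct.sub_tmul, TensorProduct.tmul_sub]; abel
  have e2 : ∀ z, dT dA σ dB (Q2 z) = 0 := by
    intro z
    induction z using TensorProduct.induction_on with
    | zero => simp only [map_zero]
    | add x y hx hy => simp only [map_add, hx, hy, add_zero]
    | tmul x y => simp [dT, Q2, hdπ, hdπ']
  have e3 : ∀ z, Q2 (dT dA σ dB z) = 0 := by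
    intro z
    induction z using TensorProduct.induction_on with
    | zero => simp only [map_zero]
    | add x y hx hy => simp only [map_add, hx, hy, add_zero]
    | tmul x y => simp [dT, Q2, hπd, hπd']
  have e4 : ∀ z, Q2 (Q2 z) = Q2 z := by
    intro z
    induction z using TensorProduct.induction_on with
    | zero => simp only [map_zero]
    | add x y hx hy => simp only [map_add, hx, hy]
    | tmul x y => simp [Q2, hππ, hππ']
  have e5 : ∀ m z, eT eA eB m (Q2 z) = Q2 (eT eA eB m z) := by
    intro m z
    induction z using TensorProduct.induction_on with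
    | zero => simp only [map_zero]
    | add x y hx hy => simp only [map_add, hx, hy]
    | tmul x y => simp [eT, Q2, LinearMap.sum_apply, map_sum, hπe, hπe']
  obtain ⟨eqv⟩ := GT.nonempty_coh_equiv e1 e2 e3 e4 e5 n
  let P : ℕ → A ⊗[k] B →ₗ[k] A ⊗[k] B := fun a => TensorProduct.map (π ∘ₗ eA a) (π' ∘ₗ eB (n - a))
  have hsum : Q2 ∘ₗ eT eA eB n = ∑ a ∈ Finset.range (n + 1), P a := by
    rw [eT, ← LinearMap.llcomp_apply' , map_sum]
    refine Finset.sum_congr rfl fun a _ => ?_
    exact TensorProduct.ext' fun x y => rfl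
  have hA : ∀ a, Nonempty (coh eA dA a ≃ₗ[k] LinearMap.range (π ∘ₗ eA a)) :=
    fun a => GA.nonempty_coh_equiv hhd hdπ hπd hππ hπe a
  have hB : ∀ b, Nonempty (coh eB dB b ≃ₗ[k] LinearMap.range (π' ∘ₗ eB b)) :=
    fun b => GB.nonempty_coh_equiv hhd' hdπ' hπd' hππ' hπe' b
  have hfinP : ∀ a, FiniteDimensional k (LinearMap.range (P a)) ∧ Module.finrank k (LinearMap.range (P a)) =
      Module.finrank k (coh eA dA a) * Module.finrank k (coh eB dB (n - a)) := fun a => by
    obtain ⟨q⟩ := finrank_range_map (π ∘ₗ eA a) (π' ∘ₗ eB (n - a))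
    obtain ⟨qa⟩ := hA a
    obtain ⟨qb⟩ := hB (n - a)
    haveI := hfA a; haveI := hfB (n - a)
    haveI := qa.finiteDimensional; haveI := qb.finiteDimensional
    refine ⟨q.finiteDimensional, ?_⟩
    rw [← q.finrank_eq, Module.finrank_tensorProduct, qa.finrank_eq, qb.finrank_eq]
  have hidem : ∀ a z, P a (P a z) = P a z := fun a z => by
    induction z using TensorProduct.induction_on with
    | zero => simp only [map_zero]
    | add x y hx hy => simp only [map_add, hx, hy]
    | tmul x y => simp [P, hπe, hπe', hππ, hππ', GA.idem, GB.idem]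
  have horth : ∀ a b, a ≠ b → ∀ z, P a (P b z) = 0 := fun a b hab z => by
    induction z using TensorProduct.induction_on with
    | zero => simp only [map_zero]
    | add x y hx hy => simp only [map_add, hx, hy, add_zero]
    | tmul x y => simp [P, hπe, GA.orth a b hab]
  obtain ⟨hf, hd⟩ := finrank_range_sum (Finset.range (n + 1)) P hidem horth fun a => (hfinP a).1
  rw [← hsum] at hf hd
  exact ⟨eqv.symm.finiteDimensional, by rw [eqv.finrank_eq, hd]; exact Finset.sum_congr rfl fun a _ => (hfinP a).2⟩

end Tensor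

end Groth.Agent.H4KS
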