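import Groth.Agent.H4KS.Adapter
import Groth.Agent.H4KS.Homotopy
import Mathlib.Algebra.DirectSum.Module

/-!
# The sum of the terms of a graded complex
-/

set_option autoImplicit false
set_option linter.unusedSectionVars false

universe u

open DirectSum

namespace Groth.Agent.H4KS

section Sum

variable {R : Type u} [CommRing R] {𝒜 : ℤ → AddSubgroup R} [GradedRing 𝒜] (X : ℕ → GrLC.GMod.{u} 𝒜)

/-- The pieces of a sum. -/
def sumGr (g : ℤ) : AddSubgroup (⨁ a, (X a).carrier) where
  carrier := {x | ∀ a, x a ∈ (X a).gr g}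
  add_mem' {x y} hx hy a := by rw [DirectSum.add_apply]; exact add_mem (hx a) (hy a)
  zero_mem' a := by rw [DirectSum.zero_apply]; exact zero_mem _
  neg_mem' {x} hx a := by rw [show (-x) a = -(x a) from DFinsupp.neg_apply x a]; exact neg_mem (hx a)

theorem isInternal_sumGr : DirectSum.IsInternal (sumGr X) := by
  refine H4Gr.isInternal_of _
    (fun g => DFinsupp.mapRange.addMonoidHom fun a => H4Gr.proj (X a).gr g)
    (fun g x a => by
      rw [DFinsupp.mapRange.addMonoidHom_apply, DFinsupp.mapRange_apply]; exact H4Gr.proj_mem (X a).gr g (x a))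
    (fun g x hx h => DFinsupp.ext fun a => ?_) fun x => ?_
  · rw [DFinsupp.mapRange.addMonoidHom_apply, DFinsupp.mapRange_apply, H4Gr.proj_of_mem (hx a)]
    split_ifs <;> rfl
  · induction x using DirectSum.induction_on with
    | zero => exact zero_mem _
    | add x y hx hy => exact add_mem hx hy
    | of a x =>
      induction x using H4Gr.induction (X a).gr with
      | zero => rw [map_zero]; exact zero_mem _
      | add x y hx hy => rw [map_add]; exact add_mem hx hy
      | hom g x hx =>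
        refine AddSubgroup.mem_iSup_of_mem g fun b => ?_
        by_cases hb : a = b
        · subst hb; rw [DirectSum.of_eq_same]; exact hx
        · rw [DirectSum.of_eq_of_ne _ _ _ (Ne.symm hb)]; exact zero_mem _

theorem gradedSMul_sumGr : SetLike.GradedSMul 𝒜 (sumGr X) :=
  ⟨fun {_ _ _ _} ha hx a => by rw [DirectSum.smul_apply]; exact SetLike.GradedSMul.smul_mem ha (hx a)⟩

/-- The sum of a sequence of graded modules. -/
noncomputable def sumX : GrLC.GMod.{u} 𝒜 :=
  { carrier := ⨁ a, (X a).carrier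
    gr := sumGr X
    dec := (isInternal_sumGr X).chooseDecomposition
    gsmul := gradedSMul_sumGr X }

/-- Inclusion of a term. -/
noncomputable def lofX (a : ℕ) : (X a).carrier →ₗ[R] (sumX X).carrier :=
  DirectSum.lof R ℕ (fun a => (X a).carrier) a

/-- A component. -/
noncomputable def cmpX (a : ℕ) : (sumX X).carrier →ₗ[R] (X a).carrier :=
  DirectSum.component R ℕ (fun a => (X a).carrier) a

theorem cmpX_lofX (a : ℕ) (x : (X a).carrier) : cmpX X a (lofX X a x) = x :=
  DirectSum.component.lof_self (R := R) (M := fun a => (X a).carrier) a x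

theorem cmpX_lofX_ne {a b : ℕ} (h : a ≠ b) (x : (X b).carrier) : cmpX X a (lofX X b x) = 0 :=
  DirectSum.of_eq_of_ne _ _ _ h

theorem extX {x y : (sumX X).carrier} (h : ∀ a, cmpX X a x = cmpX X a y) : x = y := DFinsupp.ext h

theorem suppX (x : (sumX X).carrier) : ∃ N, ∑ a ∈ Finset.range N, lofX X a (cmpX X a x) = x := by
  classical
  refine ⟨(DFinsupp.support (x : Π₀ a, (X a).carrier)).sup id + 1, extX X fun b => ?_⟩
  rw [map_sum]
  by_cases hb : b ∈ Finset.range ((DFinsupp.support (x : Π₀ a, (X a).carrier)).sup id + 1)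
  · rw [Finset.sum_eq_single b (fun a _ ha => cmpX_lofX_ne X (Ne.symm ha) _) (fun h => absurd hb h), cmpX_lofX]
  · rw [Finset.sum_eq_zero fun a ha => cmpX_lofX_ne X (fun (e : b = a) => hb (by rw [e]; exact ha)) _]
    have hs : b ∉ DFinsupp.support (x : Π₀ a, (X a).carrier) := fun hs =>
      hb (Finset.mem_range.2 (Nat.lt_succ_of_le (Finset.le_sup (f := id) hs)))
    exact (DFinsupp.notMem_support_iff.1 hs).symm

/-- The map out of a sum. -/
noncomputable def liftX {Z : Type u} [AddCommGroup Z] [Module R Z] (f : ∀ a, (X a).carrier →ₗ[R] Z) :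
    (sumX X).carrier →ₗ[R] Z :=
  DirectSum.toModule R ℕ Z f

theorem liftX_lofX {Z : Type u} [AddCommGroup Z] [Module R Z] (f : ∀ a, (X a).carrier →ₗ[R] Z) (a : ℕ)
    (x : (X a).carrier) : liftX X f (lofX X a x) = f a x :=
  DirectSum.toModule_lof (M := fun a => (X a).carrier) R a x

theorem lofX_mem {a : ℕ} {g : ℤ} {x : (X a).carrier} (hx : x ∈ (X a).gr g) : lofX X a x ∈ (sumX X).gr g := fun b => by
  show cmpX X b (lofX X a x) ∈ (X b).gr g
  by_cases hb : b = a
  · subst hb; rw [cmpX_lofX]; exact hx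
  · rw [cmpX_lofX_ne X hb]; exact zero_mem _

theorem isGrHom_lofX (a : ℕ) : GrLC.IsGrHom (X a).gr (sumX X).gr (lofX X a) := fun _ _ hx => lofX_mem X hx

theorem isGrHom_cmpX (a : ℕ) : GrLC.IsGrHom (sumX X).gr (X a).gr (cmpX X a) := fun _ _ hx => hx a

theorem isGrHom_liftX {Z : GrLC.GMod.{u} 𝒜} {f : ∀ a, (X a).carrier →ₗ[R] Z.carrier}
    (hf : ∀ a, GrLC.IsGrHom (X a).gr Z.gr (f a)) : GrLC.IsGrHom (sumX X).gr Z.gr (liftX X f) := fun g x hx => by
  obtain ⟨N, hN⟩ := suppX X x
  rw [← hN, map_sum]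
  exact sum_mem fun a _ => by rw [liftX_lofX]; exact hf a g _ (hx a)

/-- The projection onto a term. -/
noncomputable def eX (a : ℕ) : (sumX X).carrier →ₗ[R] (sumX X).carrier := lofX X a ∘ₗ cmpX X a

theorem isGrHom_eX (a : ℕ) : GrLC.IsGrHom (sumX X).gr (sumX X).gr (eX X a) :=
  H4Gr.isGrHom_comp (isGrHom_lofX X a) (isGrHom_cmpX X a)

theorem eX_lofX (a : ℕ) (x : (X a).carrier) : eX X a (lofX X a x) = lofX X a x := by
  show lofX X a (cmpX X a _) = _
  rw [cmpX_lofX]

theorem eX_lofX_ne {a b : ℕ} (h : a ≠ b) (x : (X b).carrier) : eX X a (lofX X b x) = 0 := by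
  show lofX X a (cmpX X a _) = _
  rw [cmpX_lofX_ne X h, map_zero]

/-- The sign. -/
noncomputable def sigX : (sumX X).carrier →ₗ[R] (sumX X).carrier := liftX X fun a => ((-1 : R) ^ a) • lofX X a

theorem isGrHom_sigX : GrLC.IsGrHom (sumX X).gr (sumX X).gr (sigX X) :=
  isGrHom_liftX X fun a g x hx => by
    rcases neg_one_pow_eq_or R a with h | h <;> rw [LinearMap.smul_apply, h]
    · rw [one_smul]; exact lofX_mem X hx
    · rw [neg_one_smul]; exact neg_mem (lofX_mem X hx)

variable (d : ∀ a, (X a).carrier →ₗ[R] (X (a + 1)).carrier)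

/-- The differential. -/
noncomputable def dX : (sumX X).carrier →ₗ[R] (sumX X).carrier := liftX X fun a => lofX X (a + 1) ∘ₗ d a

theorem dX_lofX (a : ℕ) (x : (X a).carrier) : dX X d (lofX X a x) = lofX X (a + 1) (d a x) := liftX_lofX X _ a x

theorem isGrHom_dX (hd : ∀ a, GrLC.IsGrHom (X a).gr (X (a + 1)).gr (d a)) :
    GrLC.IsGrHom (sumX X).gr (sumX X).gr (dX X d) :=
  isGrHom_liftX X fun a => H4Gr.isGrHom_comp (isGrHom_lofX X (a + 1)) (hd a)

end Sum

section GC

variable {k : Type u} [Field k] {R : Type u} [CommRing R] [Algebra k R] {𝒜 : ℤ → Submodule k R} [GradedAlgebra 𝒜]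
  (X : ℕ → GrLC.GMod.{u} (addGr 𝒜)) (d : ∀ a, (X a).carrier →ₗ[R] (X (a + 1)).carrier)

/-- The projections as maps of vector spaces. -/
noncomputable def eK (a : ℕ) : (sumX X).carrier →ₗ[k] (sumX X).carrier := (eX X a).restrictScalars k

/-- The sign as a map of vector spaces. -/
noncomputable def sigK : (sumX X).carrier →ₗ[k] (sumX X).carrier := (sigX X).restrictScalars k

/-- The differential as a map of vector spaces. -/
noncomputable def dK : (sumX X).carrier →ₗ[k] (sumX X).carrier := (dX X d).restrictScalars k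

theorem induction_sumX {motive : (sumX X).carrier → Prop} (zero : motive 0)
    (add : ∀ x y, motive x → motive y → motive (x + y)) (hom : ∀ a x, motive (lofX X a x))
    (x : (sumX X).carrier) : motive x := by
  obtain ⟨N, hN⟩ := suppX X x
  rw [← hN]
  exact Finset.sum_induction _ motive add zero fun a _ => hom a _

theorem sigK_eK (a : ℕ) (x : (sumX X).carrier) : sigK X (eK X a x) = ((-1 : k) ^ a) • eK X a x := by
  show sigX X (lofX X a (cmpX X a x)) = _
  rw [sigX, liftX_lofX, ← IsScalarTower.algebraMap_smul R ((-1 : k) ^ a), map_pow, map_neg, map_one]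
  rfl

variable {d} in
theorem isGC_sumX (hdd : ∀ a x, d (a + 1) (d a x) = 0) : IsGC (eK X) (dK X d) where
  idem a x := eX_lofX X a _
  orth a b h x := eX_lofX_ne X h _
  supp x := suppX X x
  de a x := by
    show dX X d (eX X a x) = eX X (a + 1) (dX X d x)
    induction x using induction_sumX X with
    | zero => simp only [map_zero]
    | add x y hx hy => simp only [map_add, hx, hy]
    | hom b x =>
      rw [dX_lofX]
      by_cases h : a = b
      · subst h; rw [eX_lofX, dX_lofX, eX_lofX]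
      · rw [eX_lofX_ne X h, map_zero, eX_lofX_ne X (fun e => h (Nat.succ.inj e))]
  dd x := by
    show dX X d (dX X d x) = 0
    induction x using induction_sumX X with
    | zero => simp only [map_zero]
    | add x y hx hy => simp only [map_add, hx, hy, add_zero]
    | hom b x => rw [dX_lofX, dX_lofX, hdd, map_zero]

theorem mem_range_eK {a : ℕ} {x : (sumX X).carrier} :
    x ∈ LinearMap.range (eK X a) ↔ ∃ y, x = lofX X a y := by
  constructor
  · rintro ⟨z, rfl⟩; exact ⟨cmpX X a z, rfl⟩
  · rintro ⟨y, rfl⟩; exact ⟨lofX X a y, eX_lofX X a y⟩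

theorem exact_succ_sumX (hex : ∀ a, LinearMap.ker (d (a + 1)) = LinearMap.range (d a)) (a : ℕ)
    {x : (sumX X).carrier} (hx : x ∈ zc (eK X) (dK X d) (a + 1)) : x ∈ LinearMap.range (dK X d) := by
  obtain ⟨y, rfl⟩ := (mem_range_eK X).1 hx.1
  have h : d (a + 1) y = 0 := by
    have h2 : dX X d (lofX X (a + 1) y) = 0 := hx.2
    rw [dX_lofX] at h2
    simpa [cmpX_lofX] using congrArg (cmpX X (a + 2)) h2
  obtain ⟨w, rfl⟩ := (hex a).le h
  exact ⟨lofX X a w, dX_lofX X d a w⟩

theorem mem_zc_zero {x : (sumX X).carrier} :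
    x ∈ zc (eK X) (dK X d) 0 ↔ ∃ y, d 0 y = 0 ∧ x = lofX X 0 y := by
  constructor
  · rintro ⟨h1, h2⟩
    obtain ⟨y, rfl⟩ := (mem_range_eK X).1 h1
    have h3 : dX X d (lofX X 0 y) = 0 := h2
    rw [dX_lofX] at h3
    exact ⟨y, by simpa [cmpX_lofX] using congrArg (cmpX X 1) h3, rfl⟩
  · rintro ⟨y, hy, rfl⟩
    refine ⟨(mem_range_eK X).2 ⟨y, rfl⟩, ?_⟩
    show dX X d (lofX X 0 y) = 0
    rw [dX_lofX, hy, map_zero]

end GC

end Groth.Agent.H4KS
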