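import Groth.Agent.H4KS.Seg
import Groth.Agent.H4KS.Sum
import Groth.Agent.H4KS.Exact
import Groth.Agent.H4Gr.Lift
import Groth.Agent.H4LC.TransformExact

/-!
# The Segre product of two resolutions
-/

set_option autoImplicit false
set_option linter.unusedSectionVars false

universe u

open DirectSum
open scoped TensorProduct

namespace Groth.Agent.H4KS

variable {k : Type u} [Field k] {R : Type u} [CommRing R] [Algebra k R] {𝒜 : ℤ → Submodule k R} [GradedAlgebra 𝒜]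
  {S : Type u} [CommRing S] [Algebra k S] {ℬ : ℤ → Submodule k S} [GradedAlgebra ℬ]
  {T : Type u} [CommRing T] [Algebra k T] {𝒯 : ℤ → Submodule k T} [GradedAlgebra 𝒯]
  (ψ : T →ₐ[k] R ⊗[k] S) [hS : SegreHom ψ 𝒜 ℬ 𝒯]

section Tot

variable (X : ℕ → GrLC.GMod.{u} (addGr 𝒜)) (Y : ℕ → GrLC.GMod.{u} (addGr ℬ))
  (dA : ∀ a, (X a).carrier →ₗ[R] (X (a + 1)).carrier) (hdA : ∀ a, GrLC.IsGrHom (X a).gr (X (a + 1)).gr (dA a))
  (dB : ∀ a, (Y a).carrier →ₗ[S] (Y (a + 1)).carrier) (hdB : ∀ a, GrLC.IsGrHom (Y a).gr (Y (a + 1)).gr (dB a))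

/-- The ambient Segre product of the sums. -/
@[implicit_reducible]
noncomputable def W : GrLC.GMod.{u} (addGr 𝒯) := Seg ψ (sumX X) (sumX Y)

/-- The projection onto total degree `n`. -/
noncomputable def qW (n : ℕ) : (W ψ X Y).carrier →ₗ[T] (W ψ X Y).carrier :=
  ∑ a ∈ Finset.range (n + 1), segMap ψ (eX X a) (isGrHom_eX X a) (eX Y (n - a)) (isGrHom_eX Y (n - a))

theorem segVal_qW (n : ℕ) (w : (W ψ X Y).carrier) :
    segVal ψ (sumX X) (sumX Y) (qW ψ X Y n w) = eT (eK X) (eK Y) n (segVal ψ (sumX X) (sumX Y) w) := by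
  rw [qW, LinearMap.sum_apply, map_sum, eT, LinearMap.sum_apply]
  rfl

theorem isGrHom_qW (n : ℕ) : GrLC.IsGrHom (W ψ X Y).gr (W ψ X Y).gr (qW ψ X Y n) := fun g x hx => by
  rw [qW, LinearMap.sum_apply]
  exact sum_mem fun a _ => isGrHom_segMap ψ _ _ _ _ g x hx

include hdA hdB in
/-- The total differential. -/
noncomputable def DW : (W ψ X Y).carrier →ₗ[T] (W ψ X Y).carrier :=
  segMap ψ (dX X dA) (isGrHom_dX X dA hdA) LinearMap.id H4Gr.isGrHom_id +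
    segMap ψ (sigX X) (isGrHom_sigX X) (dX Y dB) (isGrHom_dX Y dB hdB)

theorem segVal_DW (w : (W ψ X Y).carrier) :
    segVal ψ (sumX X) (sumX Y) (DW ψ X Y dA hdA dB hdB w) =
      dT (dK X dA) (sigK X) (dK Y dB) (segVal ψ (sumX X) (sumX Y) w) := by
  rw [DW, LinearMap.add_apply, map_add]
  rfl

theorem isGrHom_DW : GrLC.IsGrHom (W ψ X Y).gr (W ψ X Y).gr (DW ψ X Y dA hdA dB hdB) := fun g x hx =>
  add_mem (isGrHom_segMap ψ _ _ _ _ g x hx) (isGrHom_segMap ψ _ _ _ _ g x hx)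

variable {dA dB} (hA : ∀ a x, dA (a + 1) (dA a x) = 0) (hB : ∀ a x, dB (a + 1) (dB a x) = 0)

include hA hB in
theorem DW_qW (n : ℕ) (w : (W ψ X Y).carrier) :
    DW ψ X Y dA hdA dB hdB (qW ψ X Y n w) = qW ψ X Y (n + 1) (DW ψ X Y dA hdA dB hdB w) := by
  refine segVal_injective ψ _ _ ?_
  rw [segVal_DW, segVal_qW, segVal_qW, segVal_DW]
  exact (isGC_tensor (isGC_sumX X hA) (isGC_sumX Y hB) (sigK_eK X)).de n _

include hA hB in
theorem qW_qW (n : ℕ) (w : (W ψ X Y).carrier) : qW ψ X Y n (qW ψ X Y n w) = qW ψ X Y n w := by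
  refine segVal_injective ψ _ _ ?_
  rw [segVal_qW, segVal_qW]
  exact (isGC_tensor (isGC_sumX X hA) (isGC_sumX Y hB) (sigK_eK X)).idem n _

include hA hB in
theorem DW_DW (w : (W ψ X Y).carrier) : DW ψ X Y dA hdA dB hdB (DW ψ X Y dA hdA dB hdB w) = 0 := by
  refine segVal_injective ψ _ _ ?_
  rw [segVal_DW, segVal_DW, map_zero]
  exact (isGC_tensor (isGC_sumX X hA) (isGC_sumX Y hB) (sigK_eK X)).dd _

/-- The terms of the total complex. -/
@[implicit_reducible]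
noncomputable def totX (n : ℕ) : GrLC.GMod.{u} (addGr 𝒯) :=
  H4Gr.subMod (addGr 𝒯) (LinearMap.range (qW ψ X Y n))
    (H4Gr.isHomogeneous_range (H4Gr.isGrHomDeg_zero_iff.2 (isGrHom_qW ψ X Y n)))

/-- The inclusion of a term. -/
noncomputable def totι (n : ℕ) : (totX ψ X Y n).carrier →ₗ[T] (W ψ X Y).carrier :=
  H4Gr.subIncl (addGr 𝒯) _ _

theorem totι_injective (n : ℕ) : Function.Injective (totι ψ X Y n) := Subtype.val_injective

theorem range_totι (n : ℕ) : LinearMap.range (totι ψ X Y n) = LinearMap.range (qW ψ X Y n) :=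
  Submodule.range_subtype _

theorem totι_mem (n : ℕ) (x : (totX ψ X Y n).carrier) : totι ψ X Y n x ∈ LinearMap.range (qW ψ X Y n) :=
  (x : LinearMap.range (qW ψ X Y n)).2

theorem mem_gr_totX {n : ℕ} {g : ℤ} {x : (totX ψ X Y n).carrier} :
    x ∈ (totX ψ X Y n).gr g ↔ totι ψ X Y n x ∈ (W ψ X Y).gr g := Iff.rfl

/-- Restriction of a map into a term. -/
noncomputable def totCo {Z : Type u} [AddCommGroup Z] [Module T Z] (n : ℕ) (f : Z →ₗ[T] (W ψ X Y).carrier)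
    (hf : ∀ z, f z ∈ LinearMap.range (qW ψ X Y n)) : Z →ₗ[T] (totX ψ X Y n).carrier :=
  f.codRestrict _ hf

theorem totι_totCo {Z : Type u} [AddCommGroup Z] [Module T Z] (n : ℕ) (f : Z →ₗ[T] (W ψ X Y).carrier)
    (hf : ∀ z, f z ∈ LinearMap.range (qW ψ X Y n)) (z : Z) : totι ψ X Y n (totCo ψ X Y n f hf z) = f z := rfl

include hA hB in
theorem segVal_totι (n : ℕ) (x : (totX ψ X Y n).carrier) :
    segVal ψ (sumX X) (sumX Y) (totι ψ X Y n x) ∈ LinearMap.range (eT (eK X) (eK Y) n) := by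
  obtain ⟨w, hw⟩ := totι_mem ψ X Y n x
  exact ⟨segVal ψ (sumX X) (sumX Y) w, by rw [← segVal_qW ψ X Y, hw]⟩

/-- The differential of the total complex. -/
noncomputable def totD (n : ℕ) : (totX ψ X Y n).carrier →ₗ[T] (totX ψ X Y (n + 1)).carrier :=
  totCo ψ X Y (n + 1) (DW ψ X Y dA hdA dB hdB ∘ₗ totι ψ X Y n) fun x => by
    obtain ⟨w, hw⟩ := totι_mem ψ X Y n x
    exact ⟨DW ψ X Y dA hdA dB hdB w, by rw [LinearMap.comp_apply, ← hw, DW_qW ψ X Y hdA hdB hA hB]⟩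

theorem totι_totD (n : ℕ) (x : (totX ψ X Y n).carrier) :
    totι ψ X Y (n + 1) (totD ψ X Y hdA hdB hA hB n x) = DW ψ X Y dA hdA dB hdB (totι ψ X Y n x) := rfl

theorem isGrHom_totD (n : ℕ) :
    GrLC.IsGrHom (totX ψ X Y n).gr (totX ψ X Y (n + 1)).gr (totD ψ X Y hdA hdB hA hB n) :=
  fun g x hx => isGrHom_DW ψ X Y dA hdA dB hdB g _ hx

theorem totD_totD (n : ℕ) (x : (totX ψ X Y n).carrier) :
    totD ψ X Y hdA hdB hA hB (n + 1) (totD ψ X Y hdA hdB hA hB n x) = 0 :=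
  totι_injective ψ X Y (n + 2) (by rw [totι_totD, totι_totD, map_zero, DW_DW ψ X Y hdA hdB hA hB])

theorem exact_totD (hexA : ∀ a, LinearMap.ker (dA (a + 1)) = LinearMap.range (dA a))
    (hexB : ∀ a, LinearMap.ker (dB (a + 1)) = LinearMap.range (dB a)) (n : ℕ) :
    LinearMap.ker (totD ψ X Y hdA hdB hA hB (n + 1)) = LinearMap.range (totD ψ X Y hdA hdB hA hB n) := by
  refine le_antisymm (fun x hx => ?_) (by rintro _ ⟨y, rfl⟩; exact totD_totD ψ X Y hdA hdB hA hB n y)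
  have h1 : segVal ψ (sumX X) (sumX Y) (totι ψ X Y (n + 1) x) ∈
      zc (eT (eK X) (eK Y)) (dT (dK X dA) (sigK X) (dK Y dB)) (n + 1) := by
    refine ⟨segVal_totι ψ X Y hA hB (n + 1) x, ?_⟩
    rw [SetLike.mem_coe, LinearMap.mem_ker, ← segVal_DW ψ X Y dA hdA dB hdB, ← totι_totD ψ X Y hdA hdB hA hB,
      LinearMap.mem_ker.1 hx, map_zero, map_zero]
  obtain ⟨v, hv⟩ := (exact_tensor (isGC_sumX X hA) (isGC_sumX Y hB) (sigK_eK X)
    (fun a _ => exact_succ_sumX X dA hexA a) (fun b _ => exact_succ_sumX Y dB hexB b)).1 n _ h1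
  let w : (W ψ X Y).carrier := segMk ψ (sumX X) (sumX Y) (H4Segre.diag 𝒜 (sumX X).gr ℬ (sumX Y).gr v)
    (H4Segre.diag_mem_iSup 𝒜 _ ℬ _ v)
  have hw : DW ψ X Y dA hdA dB hdB w = totι ψ X Y (n + 1) x := by
    refine segVal_injective ψ _ _ ?_
    rw [segVal_DW]
    show dT (dK X dA) (sigK X) (dK Y dB) (H4Segre.diag 𝒜 (sumX X).gr ℬ (sumX Y).gr v) = _
    have hcomm : H4Segre.diag 𝒜 (sumX X).gr ℬ (sumX Y).gr (dT (dK X dA) (sigK X) (dK Y dB) v) =
        dT (dK X dA) (sigK X) (dK Y dB) (H4Segre.diag 𝒜 (sumX X).gr ℬ (sumX Y).gr v) := by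
      show H4Segre.diag 𝒜 (sumX X).gr ℬ (sumX Y).gr
          (tmap (dX X dA) LinearMap.id v + tmap (sigX X) (dX Y dB) v) =
        tmap (dX X dA) LinearMap.id _ + tmap (sigX X) (dX Y dB) _
      rw [map_add, diag_tmap (isGrHom_dX X dA hdA) H4Gr.isGrHom_id,
        diag_tmap (isGrHom_sigX X) (isGrHom_dX Y dB hdB)]
    rw [← hcomm, hv]
    exact H4Segre.diag_of_mem_iSup 𝒜 _ ℬ _ (segVal_mem ψ (sumX X) (sumX Y) _)
  refine ⟨totCo ψ X Y n (qW ψ X Y n) (LinearMap.mem_range_self _) w, totι_injective ψ X Y (n + 1) ?_⟩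
  rw [totι_totD, totι_totCo, DW_qW ψ X Y hdA hdB hA hB, hw]
  obtain ⟨u, hu⟩ := totι_mem ψ X Y (n + 1) x
  rw [← hu, qW_qW ψ X Y hA hB]

include hA hB in
/-- Terms of the total complex are acyclic. -/
theorem acyclic_totX [IsNoetherianRing T] (I : Ideal T) (q : ℕ)
    (hacy : ∀ a b, Subsingleton (LocCoh.H I q (Seg ψ (X a) (Y b)).carrier)) (n : ℕ) :
    Subsingleton (LocCoh.H I q (totX ψ X Y n).carrier) := by
  have h0 : ∀ z, H4LC.Hmap I (0 : (W ψ X Y).carrier →ₗ[T] (W ψ X Y).carrier) q z = 0 := fun z => by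
    have h := H4LC.Hmap_add I (0 : (W ψ X Y).carrier →ₗ[T] (W ψ X Y).carrier) 0 q z
    rwa [add_zero, left_eq_add] at h
  have hterm : ∀ a b z, H4LC.Hmap I (segMap ψ (eX X a) (isGrHom_eX X a) (eX Y b) (isGrHom_eX Y b)) q z = 0 := by
    intro a b z
    have hf : segMap ψ (eX X a) (isGrHom_eX X a) (eX Y b) (isGrHom_eX Y b) =
        segMap ψ (lofX X a) (isGrHom_lofX X a) (lofX Y b) (isGrHom_lofX Y b) ∘ₗ
          segMap ψ (cmpX X a) (isGrHom_cmpX X a) (cmpX Y b) (isGrHom_cmpX Y b) := by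
      refine LinearMap.ext fun w => segVal_injective ψ _ _ ?_
      show tmap (eX X a) (eX Y b) (segVal ψ _ _ w) = tmap (lofX X a) (lofX Y b) (tmap (cmpX X a) (cmpX Y b) _)
      induction segVal ψ (sumX X) (sumX Y) w using TensorProduct.induction_on with
      | zero => simp only [map_zero]
      | add x y hx hy => simp only [map_add, hx, hy]
      | tmul x y => rfl
    rw [hf, H4LC.Hmap_comp, LinearMap.comp_apply, @Subsingleton.elim _ (hacy a b) (H4LC.Hmap I _ q z) 0, map_zero]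
  have hq : ∀ z, H4LC.Hmap I (qW ψ X Y n) q z = 0 := by
    rw [qW]
    refine Finset.sum_induction _ (fun f => ∀ z, H4LC.Hmap I f q z = 0) (fun f g hf hg z => ?_) h0
      fun a _ => hterm a (n - a)
    rw [H4LC.Hmap_add, hf, hg, add_zero]
  let r := totCo ψ X Y n (qW ψ X Y n) (LinearMap.mem_range_self _)
  refine subsingleton_of_forall_eq 0 fun z => ?_
  have hid : (LinearMap.id : (totX ψ X Y n).carrier →ₗ[T] _) = r ∘ₗ totι ψ X Y n :=
    LinearMap.ext fun x => totι_injective ψ X Y n (by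
      obtain ⟨u, hu⟩ := totι_mem ψ X Y n x
      show totι ψ X Y n x = qW ψ X Y n (totι ψ X Y n x)
      rw [← hu, qW_qW ψ X Y hA hB])
  have hr : r = r ∘ₗ qW ψ X Y n := LinearMap.ext fun w => totι_injective ψ X Y n (qW_qW ψ X Y hA hB n w).symm
  have h1 : z = H4LC.Hmap I (LinearMap.id : (totX ψ X Y n).carrier →ₗ[T] _) q z := by rw [H4LC.Hmap_id]; rfl
  rw [h1, hid, H4LC.Hmap_comp, LinearMap.comp_apply, hr, H4LC.Hmap_comp, LinearMap.comp_apply, hq, map_zero]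

end Tot

section Res

variable {M : Type u} [AddCommGroup M] [Module R M] {ℳ : ℤ → AddSubgroup M} [Decomposition ℳ]
  [SetLike.GradedSMul (addGr 𝒜) ℳ] (E : H4Gr.Res (addGr 𝒜) ℳ)
variable {N : Type u} [AddCommGroup N] [Module S N] {𝒩 : ℤ → AddSubgroup N} [Decomposition 𝒩]
  [SetLike.GradedSMul (addGr ℬ) 𝒩] (F : H4Gr.Res (addGr ℬ) 𝒩)
variable {P : Type u} [AddCommGroup P] [Module T P] {𝒬 : ℤ → AddSubgroup P} [Decomposition 𝒬]
  [SetLike.GradedSMul (addGr 𝒯) 𝒬]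

theorem Res.dd (n : ℕ) (x : (E.X n).carrier) : E.d (n + 1) (E.d n x) = 0 :=
  LinearMap.mem_ker.1 ((E.exact_succ n).ge ⟨x, rfl⟩)

theorem Res.d_ε (m : M) : E.d 0 (E.ε m) = 0 := LinearMap.mem_ker.1 (E.exact_zero.ge ⟨m, rfl⟩)

/-- The augmentation into the sum. -/
noncomputable def εX : (GrLC.GMod.of (addGr 𝒜) M ℳ).carrier →ₗ[R] (sumX E.X).carrier :=
  (lofX E.X 0 ∘ₗ E.ε : M →ₗ[R] (sumX E.X).carrier)

theorem isGrHom_εX : GrLC.IsGrHom (GrLC.GMod.of (addGr 𝒜) M ℳ).gr (sumX E.X).gr (εX E) :=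
  fun g m hm => lofX_mem E.X (E.ε_grHom g m hm)

theorem εX_injective : Function.Injective (εX E) := fun a b h => E.ε_injective <| by
  have h2 : cmpX E.X 0 (lofX E.X 0 (E.ε a)) = cmpX E.X 0 (lofX E.X 0 (E.ε b)) := congrArg (cmpX E.X 0) h
  rwa [cmpX_lofX, cmpX_lofX] at h2

theorem εX_mem_zc (m : M) : εX E m ∈ zc (eK E.X) (dK E.X E.d) 0 :=
  (mem_zc_zero E.X E.d).2 ⟨_, Res.d_ε E m, rfl⟩

theorem zc_zero_le : zc (eK E.X) (dK E.X E.d) 0 ≤ LinearMap.range ((εX E).restrictScalars k) := fun x hx => by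
  obtain ⟨y, hy, rfl⟩ := (mem_zc_zero E.X E.d).1 hx
  obtain ⟨m, rfl⟩ := E.exact_zero.le hy
  exact ⟨m, rfl⟩

/-- The augmentation. -/
noncomputable def εW : (Seg ψ (GrLC.GMod.of (addGr 𝒜) M ℳ) (GrLC.GMod.of (addGr ℬ) N 𝒩)).carrier →ₗ[T]
    (W ψ E.X F.X).carrier :=
  segMap ψ (εX E) (isGrHom_εX E) (εX F) (isGrHom_εX F)

theorem qW_εW (z : (Seg ψ (GrLC.GMod.of (addGr 𝒜) M ℳ) (GrLC.GMod.of (addGr ℬ) N 𝒩)).carrier) :
    qW ψ E.X F.X 0 (εW ψ E F z) = εW ψ E F z := by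
  refine segVal_injective ψ _ _ ?_
  rw [segVal_qW]
  show eT (eK E.X) (eK F.X) 0 (tmap (εX E) (εX F) (segVal ψ _ _ z)) = tmap (εX E) (εX F) _
  induction segVal ψ (GrLC.GMod.of (addGr 𝒜) M ℳ) (GrLC.GMod.of (addGr ℬ) N 𝒩) z using
    TensorProduct.induction_on with
  | zero => simp only [map_zero]
  | add x y hx hy => simp only [map_add, hx, hy]
  | tmul x y =>
    show eT (eK E.X) (eK F.X) 0 (lofX E.X 0 (E.ε x) ⊗ₜ[k] lofX F.X 0 (F.ε y)) = _
    rw [eT_tmul (isGC_sumX E.X (Res.dd E)) (isGC_sumX F.X (Res.dd F)) (a := 0) (b := 0) (eX_lofX E.X 0 _)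
      (eX_lofX F.X 0 _) 0, if_pos rfl]
    rfl

theorem DW_εW (z : (Seg ψ (GrLC.GMod.of (addGr 𝒜) M ℳ) (GrLC.GMod.of (addGr ℬ) N 𝒩)).carrier) :
    DW ψ E.X F.X E.d E.d_grHom F.d F.d_grHom (εW ψ E F z) = 0 := by
  refine segVal_injective ψ _ _ ?_
  rw [segVal_DW, map_zero]
  show dT (dK E.X E.d) (sigK E.X) (dK F.X F.d) (tmap (εX E) (εX F) (segVal ψ _ _ z)) = 0
  induction segVal ψ (GrLC.GMod.of (addGr 𝒜) M ℳ) (GrLC.GMod.of (addGr ℬ) N 𝒩) z using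
    TensorProduct.induction_on with
  | zero => simp only [map_zero]
  | add x y hx hy => simp only [map_add, hx, hy, add_zero]
  | tmul x y =>
    show dK E.X E.d (εX E x) ⊗ₜ[k] εX F y + sigK E.X (εX E x) ⊗ₜ[k] dK F.X F.d (εX F y) = 0
    rw [LinearMap.mem_ker.1 (εX_mem_zc E x).2, LinearMap.mem_ker.1 (εX_mem_zc F y).2, TensorProduct.zero_tmul,
      TensorProduct.tmul_zero, add_zero]

variable (j : P →ₗ[T] (Seg ψ (GrLC.GMod.of (addGr 𝒜) M ℳ) (GrLC.GMod.of (addGr ℬ) N 𝒩)).carrier)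
  (hj : GrLC.IsGrHom 𝒬 (Seg ψ (GrLC.GMod.of (addGr 𝒜) M ℳ) (GrLC.GMod.of (addGr ℬ) N 𝒩)).gr j)
  (hjb : Function.Bijective j)

/-- The resolution of a Segre product. -/
noncomputable def totRes : H4Gr.Res (addGr 𝒯) 𝒬 where
  X := totX ψ E.X F.X
  d := totD ψ E.X F.X E.d_grHom F.d_grHom (Res.dd E) (Res.dd F)
  ε := totCo ψ E.X F.X 0 (εW ψ E F ∘ₗ j) fun p => ⟨_, qW_εW ψ E F (j p)⟩
  d_grHom := isGrHom_totD ψ E.X F.X E.d_grHom F.d_grHom (Res.dd E) (Res.dd F)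
  ε_grHom g p hp := isGrHom_segMap ψ _ (isGrHom_εX E) _ (isGrHom_εX F) g _ (hj g p hp)
  ε_injective a b hab := hjb.1 (segMap_injective ψ (isGrHom_εX E) (isGrHom_εX F) (εX_injective E) (εX_injective F)
    (congrArg (totι ψ E.X F.X 0) hab :))
  exact_zero := by
    refine le_antisymm (fun x hx => ?_) ?_
    · have h1 : segVal ψ (sumX E.X) (sumX F.X) (totι ψ E.X F.X 0 x) ∈
          zc (eT (eK E.X) (eK F.X)) (dT (dK E.X E.d) (sigK E.X) (dK F.X F.d)) 0 := by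
        refine ⟨segVal_totι ψ E.X F.X (Res.dd E) (Res.dd F) 0 x, ?_⟩
        rw [SetLike.mem_coe, LinearMap.mem_ker, ← segVal_DW ψ E.X F.X E.d E.d_grHom F.d F.d_grHom,
          ← totι_totD ψ E.X F.X E.d_grHom F.d_grHom (Res.dd E) (Res.dd F), LinearMap.mem_ker.1 hx, map_zero,
          map_zero]
      obtain ⟨v, hv⟩ := (exact_tensor (isGC_sumX E.X (Res.dd E)) (isGC_sumX F.X (Res.dd F)) (sigK_eK E.X)
        (fun a _ => exact_succ_sumX E.X E.d E.exact_succ a)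
        (fun b _ => exact_succ_sumX F.X F.d F.exact_succ b)).2 _ h1
      have h2 : ∀ v, ∃ m, tmap (εX E) (εX F) m = TensorProduct.map (zc (eK E.X) (dK E.X E.d) 0).subtype
          (zc (eK F.X) (dK F.X F.d) 0).subtype v := fun v => by
        induction v using TensorProduct.induction_on with
        | zero => exact ⟨0, by simp only [map_zero]⟩
        | add a b ha hb =>
          obtain ⟨m, hm⟩ := ha
          obtain ⟨m', hm'⟩ := hb
          exact ⟨m + m', by rw [map_add, map_add, hm, hm']⟩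
        | tmul a b =>
          obtain ⟨m, hm⟩ := zc_zero_le E a.2
          obtain ⟨m', hm'⟩ := zc_zero_le F b.2
          exact ⟨m ⊗ₜ[k] m', congrArg₂ (fun p q => p ⊗ₜ[k] q) hm hm'⟩
      obtain ⟨m, hm⟩ := h2 v
      obtain ⟨p, hp⟩ := hjb.2 (segMk ψ _ _ _ (H4Segre.diag_mem_iSup 𝒜 _ ℬ _ m))
      refine ⟨p, totι_injective ψ E.X F.X 0 (segVal_injective ψ _ _ ?_)⟩
      rw [totι_totCo, LinearMap.comp_apply, hp]
      show tmap (εX E) (εX F) (H4Segre.diag 𝒜 _ ℬ _ m) = _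
      rw [← diag_tmap (isGrHom_εX E) (isGrHom_εX F), hm, hv]
      exact H4Segre.diag_of_mem_iSup 𝒜 _ ℬ _ (segVal_mem ψ _ _ _)
    · rintro _ ⟨p, rfl⟩
      exact totι_injective ψ E.X F.X 1 (DW_εW ψ E F (j p))
  exact_succ n := exact_totD ψ E.X F.X E.d_grHom F.d_grHom (Res.dd E) (Res.dd F) E.exact_succ F.exact_succ n

end Res

end Groth.Agent.H4KS
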