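import Groth.Agent.H4KS.Piece
import Groth.Agent.H4KS.Tot
import Groth.Agent.H4KS.Compare
import Groth.Agent.H4Gr.FinPieces
import Mathlib.LinearAlgebra.Dimension.Constructions

/-!
# The Künneth formula for the local cohomology of Segre products
-/

set_option autoImplicit false
set_option linter.unusedSectionVars false
set_option linter.style.haveILetI false

universe u

open DirectSum
open scoped TensorProduct

namespace Groth.Agent.H4KS

variable {k : Type u} [Field k]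

theorem finrank_coh_zero {V : Type u} [AddCommGroup V] [Module k V] {e : ℕ → V →ₗ[k] V} {d : V →ₗ[k] V}
    (G : IsGC e d) :
    Module.finrank k (coh e d 0) = Module.finrank k (zc e d 0) ∧
      (FiniteDimensional k (zc e d 0) → FiniteDimensional k (coh e d 0)) := by
  have h : (bc e d 0).comap (zc e d 0).subtype = ⊥ := (Submodule.eq_bot_iff _).2 fun x hx => Subtype.ext <| by
    obtain ⟨v, hv⟩ := hx.2
    show (x : V) = 0
    rw [← G.e_of_mem x.2.1, show (x : V) = d v from hv.symm, G.e_zero_d]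
  exact ⟨(Submodule.quotEquivOfEqBot _ h).finrank_eq, fun _ => inferInstance⟩

section One

variable {R : Type u} [CommRing R] [IsNoetherianRing R] [Algebra k R] {𝒜 : ℤ → Submodule k R} [GradedAlgebra 𝒜]
  {M : Type u} [AddCommGroup M] [Module R M] {ℳ : ℤ → AddSubgroup M} [Decomposition ℳ]
  [SetLike.GradedSMul (addGr 𝒜) ℳ] (a : HomogeneousIdeal (addGr 𝒜)) (E : GrLC.StarInjRes (addGr 𝒜) ℳ) (g : ℤ)

omit [IsNoetherianRing R] in
theorem algebraMap_mem_deg0 (c : k) : algebraMap k R c ∈ GrLC.deg0 (addGr 𝒜) :=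
  SetLike.algebraMap_mem_graded 𝒜 c

variable (h0R : 𝒜 0 = Submodule.span k {(1 : R)}) [Nontrivial R]

omit [IsNoetherianRing R] in
include h0R in
theorem bijective_deg0 :
    Function.Bijective (fun c : k => (⟨_, algebraMap_mem_deg0 c⟩ : GrLC.deg0 (addGr 𝒜))) := by
  refine ⟨fun a b h => (algebraMap k R).injective (congrArg Subtype.val h), fun x => ?_⟩
  have hx : (x : R) ∈ 𝒜 0 := x.2
  rw [h0R, Submodule.mem_span_singleton] at hx
  obtain ⟨c, hc⟩ := hx
  exact ⟨c, Subtype.ext (by simp [Algebra.algebraMap_eq_smul_one, hc])⟩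

include h0R in
theorem finrank_cohSub (n : ℕ) :
    Module.finrank k (cohSub (eA E g) (dA E g) (LinearMap.ker (gamK g (sumX E.X) a.toIdeal).mkQ) n) =
        Module.finrank (GrLC.deg0 (addGr 𝒜)) (E.Hcomp a n g) ∧
      (Module.Finite (GrLC.deg0 (addGr 𝒜)) (E.Hcomp a n g) →
        FiniteDimensional k (cohSub (eA E g) (dA E g) (LinearMap.ker (gamK g (sumX E.X) a.toIdeal).mkQ) n)) := by
  obtain ⟨j, hj⟩ := exists_cohSub_equiv_Hcomp a E g n
  exact finrank_transfer _ (bijective_deg0 h0R) j fun c x => hj c x _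

include h0R in
theorem finrank_zc_zero [Module.Finite R M] :
    FiniteDimensional k (zc (eA E g) (dA E g) 0) ∧
      Module.finrank k (zc (eA E g) (dA E g) 0) = Module.finrank (GrLC.deg0 (addGr 𝒜)) (GrLC.comp (addGr 𝒜) ℳ g) := by
  obtain ⟨e⟩ := nonempty_zc_zero_equiv (k := k) E g
  let j : pieceK g (GrLC.GMod.of (addGr 𝒜) M ℳ) ≃+ GrLC.comp (addGr 𝒜) ℳ g :=
    { toFun := fun x => ⟨x.1, x.2⟩, invFun := fun x => ⟨x.1, x.2⟩, map_add' := fun _ _ => rfl }
  have h := finrank_transfer _ (bijective_deg0 h0R) j fun c x => Subtype.ext rfl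
  haveI := h.2 (by haveI := H4Gr.isNoetherian_comp (𝒜 := addGr 𝒜) (ℳ := ℳ) g; infer_instance)
  exact ⟨Module.Finite.equiv e, e.finrank_eq ▸ h.1⟩

variable (hpos : ∀ n : ℤ, n < 0 → 𝒜 n = ⊥)
  (ha : a.toIdeal = Ideal.span (⋃ n ∈ Set.Ioi (0 : ℤ), (𝒜 n : Set R)))

include hpos ha in
theorem finite_Hcomp [Module.Finite R M] (n : ℕ) :
    Module.Finite (GrLC.deg0 (addGr 𝒜)) (E.Hcomp a n g) := by
  haveI : Module.Finite R (GrLC.GMod.of (addGr 𝒜) M ℳ).carrier := inferInstanceAs (Module.Finite R M)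
  refine (H4Gr.tame a (fun n hn => ?_) ha (GrLC.GMod.of (addGr 𝒜) M ℳ) E).2 n g
  show (𝒜 n).toAddSubgroup = ⊥
  rw [hpos n hn]
  rfl

variable (h0 : ∀ m ∈ ℳ g, m ∈ GrLC.gam a.toIdeal M → m = 0)

include h0R hpos ha h0 in
/-- The cohomology of one factor modulo torsion. -/
theorem dims_Q [Module.Finite R M] :
    (∀ n, FiniteDimensional k (coh (eQ a E g) (dQ a E g) n)) ∧
    Module.finrank k (coh (eQ a E g) (dQ a E g) 0) =
      Module.finrank (GrLC.deg0 (addGr 𝒜)) (GrLC.comp (addGr 𝒜) ℳ g) +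
        Module.finrank (GrLC.deg0 (addGr 𝒜)) (E.Hcomp a 1 g) ∧
    ∀ n, Module.finrank k (coh (eQ a E g) (dQ a E g) (n + 1)) =
      Module.finrank (GrLC.deg0 (addGr 𝒜)) (E.Hcomp a (n + 2) g) := by
  obtain ⟨-, h1, h2⟩ := coh_ker (isGC_A E g) (isGC_Q a E g) (P := (gamK g (sumX E.X) a.toIdeal).mkQ)
    (Submodule.mkQ_surjective _) (fun _ _ => rfl) (fun _ => rfl) (fun x hx => inj_A a E g h0 hx)
    (fun n x hx => exact_A E g n hx)
  obtain ⟨hf0, hd0⟩ := finrank_zc_zero (k := k) E g h0R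
  obtain ⟨hfW, -, heq⟩ := h1 (Or.inr ⟨hf0, (finrank_cohSub a E g h0R 1).2 (finite_Hcomp a E g hpos ha 1)⟩)
  obtain ⟨hc, hcf⟩ := finrank_coh_zero (isGC_Q a E g)
  refine ⟨fun n => ?_, ?_, fun n => ?_⟩
  · cases n with
    | zero => exact hcf hfW
    | succ n =>
      obtain ⟨e⟩ := h2 n
      haveI := (finrank_cohSub a E g h0R (n + 2)).2 (finite_Hcomp a E g hpos ha (n + 2))
      exact Module.Finite.equiv e.symm
  · rw [hc, ← heq, hd0, (finrank_cohSub a E g h0R 1).1, add_comm]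
  · obtain ⟨e⟩ := h2 n
    rw [e.finrank_eq, (finrank_cohSub a E g h0R (n + 2)).1]

end One

section Two

variable {R : Type u} [CommRing R] [IsNoetherianRing R] [Algebra k R] {𝒜 : ℤ → Submodule k R} [GradedAlgebra 𝒜]
  {S : Type u} [CommRing S] [IsNoetherianRing S] [Algebra k S] {ℬ : ℤ → Submodule k S} [GradedAlgebra ℬ]
  {T : Type u} [CommRing T] [IsNoetherianRing T] [Algebra k T] {𝒯 : ℤ → Submodule k T} [GradedAlgebra 𝒯]
  (ψ : T →ₐ[k] R ⊗[k] S) [hS : SegreHom ψ 𝒜 ℬ 𝒯]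
  {M : Type u} [AddCommGroup M] [Module R M] {ℳ : ℤ → AddSubgroup M} [Decomposition ℳ]
  [SetLike.GradedSMul (addGr 𝒜) ℳ] (a : HomogeneousIdeal (addGr 𝒜)) (E : GrLC.StarInjRes (addGr 𝒜) ℳ)
  {N : Type u} [AddCommGroup N] [Module S N] {𝒩 : ℤ → AddSubgroup N} [Decomposition 𝒩]
  [SetLike.GradedSMul (addGr ℬ) 𝒩] (b : HomogeneousIdeal (addGr ℬ)) (F : GrLC.StarInjRes (addGr ℬ) 𝒩)
  {P : Type u} [AddCommGroup P] [Module T P] {𝒬 : ℤ → AddSubgroup P} [Decomposition 𝒬]
  [SetLike.GradedSMul (addGr 𝒯) 𝒬] (c : HomogeneousIdeal (addGr 𝒯)) (G : GrLC.StarInjRes (addGr 𝒯) 𝒬)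
  (g : ℤ)

/-- The inclusion of a degree into the tensor product. -/
noncomputable def incT : pieceK g (sumX E.X) ⊗[k] pieceK g (sumX F.X) →ₗ[k] (sumX E.X).carrier ⊗[k] (sumX F.X).carrier :=
  TensorProduct.map (pieceK g (sumX E.X)).subtype (pieceK g (sumX F.X)).subtype

theorem incT_injective : Function.Injective (incT (k := k) E F g) :=
  TensorProduct.map_injective_of_flat_flat _ _ Subtype.val_injective Subtype.val_injective

theorem incT_eT (n : ℕ) (v : pieceK g (sumX E.X) ⊗[k] pieceK g (sumX F.X)) :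
    incT E F g (eT (eA E g) (eA F g) n v) = eT (eK E.X) (eK F.X) n (incT E F g v) := by
  induction v using TensorProduct.induction_on with
  | zero => simp only [map_zero]
  | add x y hx hy => simp only [map_add, hx, hy]
  | tmul x y =>
    simp only [incT, eT, LinearMap.sum_apply, map_sum, TensorProduct.map_tmul]
    rfl

theorem incT_dT (v : pieceK g (sumX E.X) ⊗[k] pieceK g (sumX F.X)) :
    incT E F g (dT (dA E g) (sA E g) (dA F g) v) =
      dT (dK E.X E.d) (sigK E.X) (dK F.X F.d) (incT E F g v) := by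
  induction v using TensorProduct.induction_on with
  | zero => simp only [map_zero]
  | add x y hx hy => simp only [map_add, hx, hy]
  | tmul x y =>
    simp only [incT, dT, LinearMap.add_apply, map_add, TensorProduct.map_tmul, LinearMap.id_apply]
    rfl

theorem incT_mem (v : pieceK g (sumX E.X) ⊗[k] pieceK g (sumX F.X)) :
    incT E F g v ∈ GrSeg.segrePiece k (sumX E.X).gr (sumX F.X).gr g := by
  induction v using TensorProduct.induction_on with
  | zero => rw [map_zero]; exact zero_mem _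
  | add x y hx hy => rw [map_add]; exact add_mem hx hy
  | tmul x y => exact Submodule.subset_span ⟨x.1, x.2, y.1, y.2, rfl⟩

theorem exists_incT {w : (sumX E.X).carrier ⊗[k] (sumX F.X).carrier}
    (hw : w ∈ GrSeg.segrePiece k (sumX E.X).gr (sumX F.X).gr g) : ∃ v, incT E F g v = w := by
  induction hw using Submodule.span_induction with
  | mem w hw =>
    obtain ⟨x, hx, y, hy, rfl⟩ := hw
    exact ⟨(⟨x, hx⟩ : pieceK g (sumX E.X)) ⊗ₜ[k] (⟨y, hy⟩ : pieceK g (sumX F.X)), rfl⟩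
  | zero => exact ⟨0, map_zero _⟩
  | add x y _ _ hx hy =>
    obtain ⟨v, rfl⟩ := hx
    obtain ⟨v', rfl⟩ := hy
    exact ⟨v + v', map_add _ _ _⟩
  | smul r x _ hx =>
    obtain ⟨v, rfl⟩ := hx
    exact ⟨r • v, map_smul _ _ _⟩

/-- Reduction modulo torsion of both factors. -/
noncomputable def redT : pieceK g (sumX E.X) ⊗[k] pieceK g (sumX F.X) →ₗ[k]
    QK g (sumX E.X) a.toIdeal ⊗[k] QK g (sumX F.X) b.toIdeal :=
  TensorProduct.map (gamK g (sumX E.X) a.toIdeal).mkQ (gamK g (sumX F.X) b.toIdeal).mkQ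

theorem redT_eq_zero_iff (v : pieceK g (sumX E.X) ⊗[k] pieceK g (sumX F.X)) :
    redT a E b F g v = 0 ↔
      TensorProduct.map (gamQ a.toIdeal (sumX E.X)) (gamQ b.toIdeal (sumX F.X)) (incT E F g v) = 0 := by
  let κA : QK g (sumX E.X) a.toIdeal →ₗ[k] (sumX E.X).carrier ⧸ GrLC.gam a.toIdeal (sumX E.X).carrier :=
    (gamK g (sumX E.X) a.toIdeal).liftQ (gamQ a.toIdeal (sumX E.X) ∘ₗ (pieceK g (sumX E.X)).subtype)
      fun x hx => (gamQ_eq_zero_iff _ _ _).2 hx
  let κB : QK g (sumX F.X) b.toIdeal →ₗ[k] (sumX F.X).carrier ⧸ GrLC.gam b.toIdeal (sumX F.X).carrier :=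
    (gamK g (sumX F.X) b.toIdeal).liftQ (gamQ b.toIdeal (sumX F.X) ∘ₗ (pieceK g (sumX F.X)).subtype)
      fun x hx => (gamQ_eq_zero_iff _ _ _).2 hx
  have hA : Function.Injective κA := (injective_iff_map_eq_zero κA).2 fun y hy => by
    obtain ⟨x, rfl⟩ := Submodule.mkQ_surjective _ y
    exact (Submodule.Quotient.mk_eq_zero _).2 ((gamQ_eq_zero_iff _ _ _).1 hy :)
  have hB : Function.Injective κB := (injective_iff_map_eq_zero κB).2 fun y hy => by
    obtain ⟨x, rfl⟩ := Submodule.mkQ_surjective _ y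
    exact (Submodule.Quotient.mk_eq_zero _).2 ((gamQ_eq_zero_iff _ _ _).1 hy :)
  have h : ∀ w, TensorProduct.map (gamQ a.toIdeal (sumX E.X)) (gamQ b.toIdeal (sumX F.X)) (incT E F g w) =
      TensorProduct.map κA κB (redT a E b F g w) := fun w => by
    induction w using TensorProduct.induction_on with
    | zero => simp only [map_zero]
    | add x y hx hy => simp only [map_add, hx, hy]
    | tmul x y => rfl
  rw [h, ← (TensorProduct.map_injective_of_flat_flat κA κB hA hB).eq_iff, map_zero]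

theorem redT_eT (n : ℕ) (v : pieceK g (sumX E.X) ⊗[k] pieceK g (sumX F.X)) :
    redT a E b F g (eT (eA E g) (eA F g) n v) = eT (eQ a E g) (eQ b F g) n (redT a E b F g v) := by
  induction v using TensorProduct.induction_on with
  | zero => simp only [map_zero]
  | add x y hx hy => simp only [map_add, hx, hy]
  | tmul x y =>
    simp only [redT, eT, LinearMap.sum_apply, map_sum, TensorProduct.map_tmul]
    rfl

theorem redT_dT (v : pieceK g (sumX E.X) ⊗[k] pieceK g (sumX F.X)) :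
    redT a E b F g (dT (dA E g) (sA E g) (dA F g) v) =
      dT (dQ a E g) (sQ a E g) (dQ b F g) (redT a E b F g v) := by
  induction v using TensorProduct.induction_on with
  | zero => simp only [map_zero]
  | add x y hx hy => simp only [map_add, hx, hy]
  | tmul x y =>
    simp only [redT, dT, LinearMap.add_apply, map_add, TensorProduct.map_tmul, LinearMap.id_apply]
    rfl

variable (j : P →ₗ[T] (Seg ψ (GrLC.GMod.of (addGr 𝒜) M ℳ) (GrLC.GMod.of (addGr ℬ) N 𝒩)).carrier)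
  (hj : GrLC.IsGrHom 𝒬 (Seg ψ (GrLC.GMod.of (addGr 𝒜) M ℳ) (GrLC.GMod.of (addGr ℬ) N 𝒩)).gr j)
  (hjb : Function.Bijective j)
  (hposR : ∀ n : ℤ, n < 0 → 𝒜 n = ⊥) (ha : a.toIdeal = Ideal.span (⋃ n ∈ Set.Ioi (0 : ℤ), (𝒜 n : Set R)))
  (hposS : ∀ n : ℤ, n < 0 → ℬ n = ⊥) (hb : b.toIdeal = Ideal.span (⋃ n ∈ Set.Ioi (0 : ℤ), (ℬ n : Set S)))
  (hc : c.toIdeal = Ideal.span (⋃ n ∈ Set.Ioi (0 : ℤ), (𝒯 n : Set T)))
  (PR : Params (𝒜 := 𝒜) (ℬ := ℬ) a.toIdeal b.toIdeal)

/-- An element of the ambient Segre product from one degree. -/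
noncomputable def toW (v : pieceK g (sumX E.X) ⊗[k] pieceK g (sumX F.X)) : (W ψ E.X F.X).carrier :=
  segMk ψ (sumX E.X) (sumX F.X) (incT E F g v) (Submodule.mem_iSup_of_mem g (incT_mem E F g v))

include hj hjb ha hb hc PR in
/-- Local cohomology of a Segre product in one degree as a tensor cohomology. -/
theorem exists_cohSub_equiv_Hcomp_seg (n : ℕ) :
    ∃ i : cohSub (eT (eA E g) (eA F g)) (dT (dA (k := k) E g) (sA E g) (dA F g))
        (LinearMap.ker (redT a E b F g)) n ≃+ G.Hcomp c n g,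
      ∀ (r : k) x, i (r • x) = (⟨_, algebraMap_mem_deg0 r⟩ : GrLC.deg0 (addGr 𝒯)) • i x := by
  have haR : ∀ n : ℤ, 0 < n → ∀ x ∈ 𝒜 n, x ∈ a.toIdeal := fun n hn x hx =>
    ha ▸ Ideal.subset_span (Set.mem_iUnion₂.2 ⟨n, hn, hx⟩)
  have hbS : ∀ n : ℤ, 0 < n → ∀ x ∈ ℬ n, x ∈ b.toIdeal := fun n hn x hx =>
    hb ▸ Ideal.subset_span (Set.mem_iUnion₂.2 ⟨n, hn, hx⟩)
  have hTor : ∀ z : (W ψ E.X F.X).carrier, z ∈ GrLC.gam c.toIdeal (W ψ E.X F.X).carrier ↔
      TensorProduct.map (gamQ a.toIdeal (sumX E.X)) (gamQ b.toIdeal (sumX F.X)) (segVal ψ _ _ z) = 0 :=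
    mem_gam_seg ψ a.toIdeal haR b.toIdeal hbS c.toIdeal hc PR (sumX E.X) (sumX F.X)
  let RT := totRes ψ (H4Gr.Res.ofStar E) (H4Gr.Res.ofStar F) j hj hjb
  obtain ⟨φ, hdeg, hcomm, hcoc, hsurj, hinj0, hinj⟩ := exists_comparison c RT G (fun n i =>
    acyclic_totX ψ E.X F.X (dd_star E) (dd_star F) c.toIdeal (i + 1)
      (fun p q => acyclic_seg ψ a.toIdeal haR b.toIdeal hbS c.toIdeal hc (E.X p) (F.X q) PR (E.starInj p)
        (F.starInj q) i) n)
  have GT := isGC_tensor (isGC_A (k := k) E g) (isGC_A F g) (sA_eA E g)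
  set K := LinearMap.ker (redT a E b F g) with hK
  -- the cochain attached to an element of one degree
  let ξ : ∀ n, pieceK g (sumX E.X) ⊗[k] pieceK g (sumX F.X) → (RT.X n).carrier := fun n v =>
    totCo ψ E.X F.X n (qW ψ E.X F.X n) (LinearMap.mem_range_self _) (toW ψ E F g v)
  have hξ : ∀ n v, segVal ψ _ _ (totι ψ E.X F.X n (ξ n v)) = incT E F g (eT (eA E g) (eA F g) n v) :=
    fun n v => by rw [incT_eT]; exact segVal_qW ψ E.X F.X n _
  have hξd : ∀ n v, RT.d n (ξ n v) = ξ (n + 1) (dT (dA E g) (sA E g) (dA F g) v) := fun n v => by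
    refine totι_injective ψ E.X F.X (n + 1) (segVal_injective ψ _ _ ?_)
    show segVal ψ _ _ (DW ψ E.X F.X E.d E.d_grHom F.d F.d_grHom (totι ψ E.X F.X n (ξ n v))) = _
    rw [segVal_DW, hξ, hξ, ← incT_dT, GT.de]
  have hξg : ∀ n v, ξ n v ∈ (RT.X n).gr g := fun n v => by
    show segVal ψ _ _ (totι ψ E.X F.X n (ξ n v)) ∈ GrSeg.segrePiece k (sumX E.X).gr (sumX F.X).gr g
    rw [hξ]; exact incT_mem E F g _
  have hξinj : ∀ n v, ξ n v = 0 → eT (eA E g) (eA F g) n v = 0 := fun n v h => incT_injective E F g (by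
    rw [← hξ, h, map_zero (incT E F g)]
    exact (congrArg (segVal ψ _ _) (map_zero (totι ψ E.X F.X n))).trans (map_zero _))
  have hξK : ∀ n v, v ∈ K → ξ n v ∈ GrLC.gam c.toIdeal (RT.X n).carrier := fun n v hv =>
    H4Gr.map_mem_gam (totCo ψ E.X F.X n (qW ψ E.X F.X n) (LinearMap.mem_range_self _))
      ((hTor _).2 ((redT_eq_zero_iff a E b F g v).1 (LinearMap.mem_ker.1 hv)))
  have hback : ∀ n (x : (RT.X n).carrier), x ∈ (RT.X n).gr g →
      x ∈ GrLC.gam c.toIdeal (RT.X n).carrier →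
      ∃ v, eT (eA E g) (eA F g) n v = v ∧ v ∈ K ∧ ξ n v = x := by
    intro n x hxg hx
    obtain ⟨v, hv⟩ := exists_incT E F g (hxg : segVal ψ _ _ (totι ψ E.X F.X n x) ∈ _)
    obtain ⟨u, hu⟩ := segVal_totι ψ E.X F.X (dd_star E) (dd_star F) n x
    have he : eT (eA E g) (eA F g) n v = v := incT_injective E F g (by
      rw [incT_eT, hv, ← hu]
      exact (isGC_tensor (isGC_sumX E.X (dd_star E)) (isGC_sumX F.X (dd_star F)) (sigK_eK E.X)).idem n u)
    refine ⟨v, he, LinearMap.mem_ker.2 ((redT_eq_zero_iff a E b F g v).2 ?_), totι_injective ψ E.X F.X n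
      (segVal_injective ψ _ _ (by rw [hξ, he, hv]))⟩
    rw [hv]
    exact (hTor _).1 (H4Gr.map_mem_gam (totι ψ E.X F.X n) hx)
  let ξL : pieceK g (sumX E.X) ⊗[k] pieceK g (sumX F.X) →+ (RT.X n).carrier :=
    AddMonoidHom.mk' (ξ n) fun v w => totι_injective ψ E.X F.X n (segVal_injective ψ _ _ (by
      refine (hξ n _).trans ?_
      rw [map_add, map_add, ← hξ n v, ← hξ n w]
      exact ((congrArg (segVal ψ _ _) (map_add (totι ψ E.X F.X n) _ _)).trans (map_add _ _ _)).symm))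
  have hzd : ∀ v ∈ zs (eT (eA E g) (eA F g)) (dT (dA E g) (sA E g) (dA F g)) K n, RT.d n (ξ n v) = 0 := fun v hv => by
    rw [hξd, LinearMap.mem_ker.1 hv.2.2]
    refine totι_injective ψ E.X F.X (n + 1) (segVal_injective ψ _ _ ?_)
    rw [hξ, map_zero, map_zero]
    exact ((congrArg (segVal ψ _ _) (map_zero (totι ψ E.X F.X (n + 1)))).trans (map_zero _)).symm
  let ν : zs (eT (eA E g) (eA F g)) (dT (dA E g) (sA E g) (dA F g)) K n →+ G.Hcomp c n g :=
    AddMonoidHom.mk' (fun v => ⟨G.toH c n ⟨φ n (ξ n v), hcoc n _ (hξK n v v.2.1) (hzd v v.2)⟩,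
      ⟨_, hdeg n g _ (hξg n v), rfl⟩⟩) fun v w => Subtype.ext (by
        show G.toH c n _ = G.toH c n _ + G.toH c n _
        rw [← map_add]
        exact congrArg _ (Subtype.ext ((congrArg (φ n) (map_add ξL v.1 w.1)).trans (map_add (φ n) _ _))))
  have hν : Function.Surjective ν := by
    rintro ⟨_, z, hz, rfl⟩
    obtain ⟨x, hx, hdx, hxg, hxz⟩ := hsurj n g z hz
    obtain ⟨v, hev, hvK, rfl⟩ := hback n x hxg hx
    have hdv : dT (dA E g) (sA E g) (dA F g) v = 0 := by
      rw [← hev, GT.de]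
      exact hξinj (n + 1) _ (by rw [← hξd, hdx])
    refine ⟨⟨v, hvK, ⟨v, hev⟩, hdv⟩, Subtype.ext ?_⟩
    show G.toH c n _ = G.toH c n z
    exact (Submodule.Quotient.eq _).2 hxz
  have hker : ∀ v, ν v = 0 ↔ v ∈ (bs (eT (eA E g) (eA F g)) (dT (dA E g) (sA E g) (dA F g)) K n).comap
      (zs (eT (eA E g) (eA F g)) (dT (dA E g) (sA E g) (dA F g)) K n).subtype := by
    intro v
    have h0 : ν v = 0 ↔ φ n (ξ n v) ∈ G.cobdy c n := by
      refine Subtype.ext_iff.trans ?_
      show G.toH c n _ = 0 ↔ _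
      rw [Submodule.mkQ_apply, Submodule.Quotient.mk_eq_zero, Submodule.mem_comap, Submodule.subtype_apply]
    rw [h0, Submodule.mem_comap, Submodule.subtype_apply]
    have hev : eT (eA E g) (eA F g) n (v : pieceK g (sumX E.X) ⊗[k] pieceK g (sumX F.X)) = v := GT.e_of_mem v.2.2.1
    cases n with
    | zero =>
      constructor
      · intro h
        have h1 := hinj0 _ (hzd v v.2) ((Submodule.mem_bot T).1 h)
        rw [← hev, hξinj 0 _ h1]; exact zero_mem _
      · rintro ⟨-, u, -, hu⟩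
        have : (v : pieceK g (sumX E.X) ⊗[k] pieceK g (sumX F.X)) = 0 := by rw [← hev, ← hu, GT.e_zero_d]
        rw [this, show ξ 0 0 = 0 from map_zero ξL, map_zero]; exact zero_mem _
    | succ m =>
      constructor
      · intro h
        obtain ⟨y, hy, hdy⟩ := hinj m _ (hξK (m + 1) v v.2.1) (hzd v v.2) h
        obtain ⟨u, heu, huK, hu⟩ := hback m (H4Gr.proj (RT.X m).gr g y) (H4Gr.proj_mem _ g y)
          (H4Gr.isHomogeneous_gam c g hy)
        refine ⟨v.2.2.1, u, huK, ?_⟩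
        have h2 : ξ (m + 1) (dT (dA E g) (sA E g) (dA F g) u) = ξ (m + 1) v := by
          rw [← hξd, hu, H4Gr.map_proj₀ (RT.d_grHom m), hdy]
          exact H4Gr.proj_same (hξg (m + 1) v)
        have h3 := congrArg (fun x => segVal ψ _ _ (totι ψ E.X F.X (m + 1) x)) h2
        simp only [hξ] at h3
        rw [← GT.de, heu, hev] at h3
        exact incT_injective E F g h3
      · rintro ⟨-, u, hu, huv⟩
        exact ⟨φ m (ξ m u), H4Gr.map_mem_gam _ (hξK m u hu), by rw [← hcomm, hξd, huv]⟩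
  obtain ⟨i, hi⟩ := exists_addEquiv_quot ν hν _ hker
  refine ⟨i, fun r x => ?_⟩
  obtain ⟨v, rfl⟩ := Submodule.Quotient.mk_surjective _ x
  rw [← Submodule.Quotient.mk_smul, hi, hi]
  refine Subtype.ext ?_
  show G.toH c n _ = algebraMap k T r • G.toH c n _
  rw [← map_smul]
  refine congrArg _ (Subtype.ext ?_)
  show φ n (ξ n (r • (v : pieceK g (sumX E.X) ⊗[k] pieceK g (sumX F.X)))) =
    algebraMap k T r • φ n (ξ n v)
  rw [← map_smul]
  refine congrArg (φ n) (totι_injective ψ E.X F.X n (segVal_injective ψ _ _ ?_))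
  refine Eq.trans ?_ (congrArg (segVal ψ _ _) ((totι ψ E.X F.X n).map_smul (algebraMap k T r) (ξ n v))).symm
  refine Eq.trans ?_ (segVal_smul ψ _ _ (algebraMap k T r) _).symm
  rw [hξ, map_smul, map_smul, ψ.commutes, ← hξ n v, Algebra.algebraMap_eq_smul_one,
    map_smul, LinearMap.smul_apply, Algebra.TensorProduct.one_def]
  congr 1
  induction segVal ψ _ _ (totι ψ E.X F.X n (ξ n v)) using TensorProduct.induction_on with
  | zero => simp only [map_zero]
  | add x y hx hy => simp only [map_add, ← hx, ← hy]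
  | tmul x y => rw [GrSeg.act_tmul, one_smul, one_smul]

variable [Module.Finite R M] [Module.Finite S N] [Nontrivial R] [Nontrivial S] [Nontrivial T]
  (h0R : 𝒜 0 = Submodule.span k {(1 : R)}) (h0S : ℬ 0 = Submodule.span k {(1 : S)})
  (h0T : 𝒯 0 = Submodule.span k {(1 : T)})
  (hM0 : ∀ m ∈ ℳ g, m ∈ GrLC.gam a.toIdeal M → m = 0) (hN0 : ∀ m ∈ 𝒩 g, m ∈ GrLC.gam b.toIdeal N → m = 0)

include hj hjb ha hb hc PR hposR hposS h0R h0S h0T hM0 hN0 in
/-- The Künneth formula, degree by degree. -/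
theorem kunneth :
    Module.finrank (GrLC.deg0 (addGr 𝒯)) (G.Hcomp c 0 g) = 0 ∧
    Module.finrank (GrLC.deg0 (addGr 𝒯)) (G.Hcomp c 1 g) +
        Module.finrank (GrLC.deg0 (addGr 𝒜)) (GrLC.comp (addGr 𝒜) ℳ g) *
          Module.finrank (GrLC.deg0 (addGr ℬ)) (GrLC.comp (addGr ℬ) 𝒩 g) =
      Module.finrank k (coh (eQ a E g) (dQ (k := k) a E g) 0) *
        Module.finrank k (coh (eQ b F g) (dQ (k := k) b F g) 0) ∧
    ∀ q, Module.finrank (GrLC.deg0 (addGr 𝒯)) (G.Hcomp c (q + 2) g) =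
      ∑ p ∈ Finset.range (q + 2), Module.finrank k (coh (eQ a E g) (dQ (k := k) a E g) p) *
        Module.finrank k (coh (eQ b F g) (dQ (k := k) b F g) (q + 1 - p)) := by
  have htr : ∀ n, Module.finrank k (cohSub (eT (eA E g) (eA F g)) (dT (dA (k := k) E g) (sA E g) (dA F g))
      (LinearMap.ker (redT a E b F g)) n) = Module.finrank (GrLC.deg0 (addGr 𝒯)) (G.Hcomp c n g) := fun n => by
    obtain ⟨i, hi⟩ := exists_cohSub_equiv_Hcomp_seg ψ a E b F c G g j hj hjb ha hb hc PR n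
    exact (finrank_transfer _ (bijective_deg0 h0T) i hi).1
  have GA := isGC_A (k := k) E g
  have GB := isGC_A (k := k) F g
  obtain ⟨hex, hex0⟩ := exact_tensor GA GB (sA_eA E g) (fun n x hx => exact_A E g n hx) (fun n x hx => exact_A F g n hx)
  have hinjm : Function.Injective (TensorProduct.map
      ((gamK g (sumX E.X) a.toIdeal).mkQ ∘ₗ (zc (eA (k := k) E g) (dA E g) 0).subtype)
      ((gamK g (sumX F.X) b.toIdeal).mkQ ∘ₗ (zc (eA (k := k) F g) (dA F g) 0).subtype)) :=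
    TensorProduct.map_injective_of_flat_flat _ _
      ((injective_iff_map_eq_zero _).2 fun x hx => Subtype.ext (inj_A a E g hM0 x.2 hx))
      ((injective_iff_map_eq_zero _).2 fun x hx => Subtype.ext (inj_A b F g hN0 x.2 hx))
  obtain ⟨h0, h1, h2⟩ := coh_ker (P := redT a E b F g) (isGC_tensor GA GB (sA_eA E g))
    (isGC_tensor (isGC_Q (k := k) a E g) (isGC_Q b F g) (sQ_eQ a E g))
    (TensorProduct.map_surjective (Submodule.mkQ_surjective _) (Submodule.mkQ_surjective _))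
    (redT_eT a E b F g) (redT_dT a E b F g) (fun x hx hPx => by
      obtain ⟨w, rfl⟩ := hex0 x hx
      have : w = 0 := hinjm (by rw [map_zero, TensorProduct.map_comp, LinearMap.comp_apply]; exact hPx)
      rw [this, map_zero]) hex
  obtain ⟨hfA, hA0, -⟩ := dims_Q (k := k) a E g h0R hposR ha hM0
  obtain ⟨hfB, hB0, -⟩ := dims_Q (k := k) b F g h0S hposS hb hN0
  have hK := finrank_coh_tensor (isGC_Q (k := k) a E g) (isGC_Q b F g) (sQ_eQ a E g) hfA hfB
  refine ⟨?_, ?_, fun q => ?_⟩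
  · rw [← htr]
    haveI := h0
    exact Module.finrank_zero_of_subsingleton
  · obtain ⟨hd0, hf0⟩ := finrank_coh_zero (isGC_tensor (isGC_Q (k := k) a E g) (isGC_Q b F g) (sQ_eQ a E g))
    have hfin : FiniteDimensional k (zc (eT (eQ a E g) (eQ b F g)) (dT (dQ a E g) (sQ a E g) (dQ b F g)) 0) := by
      haveI := (hK 0).1
      refine Module.Finite.equiv (Submodule.quotEquivOfEqBot _ ?_ :
        coh (eT (eQ a E g) (eQ b F g)) (dT (dQ a E g) (sQ a E g) (dQ b F g)) 0 ≃ₗ[k] _)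
      refine (Submodule.eq_bot_iff _).2 fun x hx => Subtype.ext ?_
      have GW := isGC_tensor (isGC_Q (k := k) a E g) (isGC_Q b F g) (sQ_eQ a E g)
      obtain ⟨v, hv⟩ := hx.2
      show (x : QK g (sumX E.X) a.toIdeal ⊗[k] QK g (sumX F.X) b.toIdeal) = 0
      rw [← GW.e_of_mem x.2.1, show (x : QK g (sumX E.X) a.toIdeal ⊗[k] QK g (sumX F.X) b.toIdeal) =
        dT (dQ a E g) (sQ a E g) (dQ b F g) v from hv.symm, GW.e_zero_d]
    obtain ⟨-, -, heq⟩ := h1 (Or.inl hfin)
    have hz : Module.finrank k (zc (eT (eA E g) (eA F g)) (dT (dA (k := k) E g) (sA E g) (dA F g)) 0) =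
        Module.finrank k (zc (eA (k := k) E g) (dA E g) 0) * Module.finrank k (zc (eA (k := k) F g) (dA F g) 0) := by
      have hi : Function.Injective (TensorProduct.map (zc (eA (k := k) E g) (dA E g) 0).subtype
          (zc (eA (k := k) F g) (dA F g) 0).subtype) :=
        TensorProduct.map_injective_of_flat_flat _ _ Subtype.val_injective Subtype.val_injective
      have hr : LinearMap.range (TensorProduct.map (zc (eA (k := k) E g) (dA E g) 0).subtype
          (zc (eA (k := k) F g) (dA F g) 0).subtype) =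
          zc (eT (eA E g) (eA F g)) (dT (dA (k := k) E g) (sA E g) (dA F g)) 0 := by
        refine le_antisymm ?_ hex0
        rintro _ ⟨w, rfl⟩
        induction w using TensorProduct.induction_on with
        | zero => rw [map_zero]; exact zero_mem _
        | add x y hx hy => rw [map_add]; exact add_mem hx hy
        | tmul x y =>
          refine ⟨⟨(x : pieceK g (sumX E.X)) ⊗ₜ[k] (y : pieceK g (sumX F.X)), ?_⟩, ?_⟩
          · rw [eT_tmul GA GB (GA.e_of_mem x.2.1) (GB.e_of_mem y.2.1), if_pos rfl]; rfl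
          · show dA E g x.1 ⊗ₜ[k] y.1 + sA E g x.1 ⊗ₜ[k] dA F g y.1 = 0
            rw [LinearMap.mem_ker.1 x.2.2, LinearMap.mem_ker.1 y.2.2, TensorProduct.zero_tmul,
              TensorProduct.tmul_zero, add_zero]
      rw [← hr, LinearMap.finrank_range_of_inj hi, Module.finrank_tensorProduct]
    rw [hz, (finrank_zc_zero (k := k) E g h0R).2, (finrank_zc_zero (k := k) F g h0S).2, ← hd0, (hK 0).2,
      Finset.sum_range_one] at heq
    rw [← htr, heq]
  · obtain ⟨e⟩ := h2 q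
    rw [← htr, ← e.finrank_eq, (hK (q + 1)).2]

end Two

end Groth.Agent.H4KS
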