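import Groth.Agent.H4KS.RingCM
import Groth.Agent.H4Gr.Lift
import Groth.Agent.H4Depth.Regular
import Mathlib.RingTheory.MvPolynomial.WeightedHomogeneous
import Mathlib.RingTheory.KrullDimension.Polynomial
import Mathlib.RingTheory.RegularLocalRing.Polynomial

/-!
# Segre products of shifted polynomial rings
-/

set_option autoImplicit false
set_option linter.unusedSectionVars false
set_option linter.style.haveILetI false
set_option linter.overlappingInstances false

universe u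

open DirectSum
open scoped TensorProduct

attribute [local instance] MvPolynomial.weightedGradedAlgebra

namespace Groth.Agent.H4KS

section Shift

variable {k : Type u} [Field k] {R : Type u} [CommRing R] [Algebra k R] {𝒜 : ℤ → Submodule k R} [GradedAlgebra 𝒜]

theorem gradedSMul_shift (a : ℤ) : SetLike.GradedSMul 𝒜 (H4Gr.shiftPieces (addGr 𝒜) a) :=
  ⟨fun {i j x y} hx hy => (H4Gr.gradedSMul_shiftPieces (𝒜 := addGr 𝒜) (ℳ := addGr 𝒜) a).smul_mem hx hy⟩

/-- A shifted resolution. -/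
noncomputable def shiftRes [IsNoetherianRing R] (E : GrLC.StarInjRes 𝒜 (addGr 𝒜)) (a : ℤ)
    [Decomposition (H4Gr.shiftPieces (addGr 𝒜) a)] [SetLike.GradedSMul 𝒜 (H4Gr.shiftPieces (addGr 𝒜) a)] :
    GrLC.StarInjRes 𝒜 (H4Gr.shiftPieces (addGr 𝒜) a) :=
  { X := fun n => fromA 𝒜 (H4Gr.shiftMod (addGr 𝒜) (toA 𝒜 (E.X n)).gr a)
    d := E.d, ε := E.ε
    d_grHom := fun n g x hx => E.d_grHom n (g + a) x hx
    ε_grHom := fun g x hx => E.ε_grHom (g + a) x hx
    ε_injective := E.ε_injective, exact_zero := E.exact_zero, exact_succ := E.exact_succ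
    starInj := fun n => unA_aux _ (H4Gr.isStarInj_shiftMod (toA 𝒜 (E.X n)) ((starInj_iff 𝒜 _).2 (E.starInj n)) a) }

theorem shiftRes_eq_bot_iff [IsNoetherianRing R] (E : GrLC.StarInjRes 𝒜 (addGr 𝒜)) (a : ℤ)
    [Decomposition (H4Gr.shiftPieces (addGr 𝒜) a)] [SetLike.GradedSMul 𝒜 (H4Gr.shiftPieces (addGr 𝒜) a)]
    (m : HomogeneousIdeal 𝒜) (i : ℕ) (g : ℤ) :
    (shiftRes E a).Hcomp m i g = ⊥ ↔ E.Hcomp m i (g + a) = ⊥ :=
  ⟨fun h => (Submodule.eq_bot_iff _).2 fun x hx => (Submodule.eq_bot_iff _).1 h x hx,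
    fun h => (Submodule.eq_bot_iff _).2 fun x hx => (Submodule.eq_bot_iff _).1 h x hx⟩

end Shift

section Polynomial

variable {k : Type u} [Field k] {r : ℕ}

local notation "𝒫" => MvPolynomial.weightedHomogeneousSubmodule k (fun _ : Fin r => (1 : ℤ))

theorem weight_one (d : Fin r →₀ ℕ) : Finsupp.weight (fun _ : Fin r => (1 : ℤ)) d = (d.degree : ℤ) := by
  simp [Finsupp.weight, Finsupp.linearCombination_apply, Finsupp.sum, Finsupp.degree]

theorem poly_neg (n : ℤ) (hn : n < 0) : (𝒫) n = ⊥ := by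
  refine (Submodule.eq_bot_iff _).2 fun p hp => ?_
  rw [MvPolynomial.mem_weightedHomogeneousSubmodule] at hp
  ext d
  rw [MvPolynomial.coeff_zero]
  by_contra h
  have := hp h
  rw [weight_one] at this
  omega

theorem poly_zero : (𝒫) 0 = Submodule.span k {(1 : MvPolynomial (Fin r) k)} := by
  refine le_antisymm (fun p hp => ?_) (Submodule.span_le.2 (Set.singleton_subset_iff.2 (SetLike.one_mem_graded _)))
  rw [MvPolynomial.mem_weightedHomogeneousSubmodule] at hp
  refine Submodule.mem_span_singleton.2 ⟨MvPolynomial.coeff 0 p, ?_⟩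
  ext d
  by_cases hd : d = 0
  · subst hd; simp
  · rw [MvPolynomial.coeff_smul, MvPolynomial.coeff_one, if_neg (Ne.symm hd), smul_zero]
    by_contra h
    have := hp (Ne.symm h)
    rw [weight_one] at this
    exact hd (Finsupp.ext fun i => by
      have h0 : d.degree = 0 := by exact_mod_cast this
      simpa using Nat.le_zero.1 (h0 ▸ d.le_degree i))

theorem poly_X_mem (i : Fin r) : (MvPolynomial.X i : MvPolynomial (Fin r) k) ∈ (𝒫) 1 :=
  (MvPolynomial.mem_weightedHomogeneousSubmodule _ _ _ _).2 (MvPolynomial.isWeightedHomogeneous_X _ _ i)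

theorem poly_std : Ideal.span (⋃ n ∈ Set.Ioi (0 : ℤ), ((𝒫) n : Set (MvPolynomial (Fin r) k))) =
    Ideal.span (((𝒫) 1 : Submodule k _) : Set (MvPolynomial (Fin r) k)) := by
  refine le_antisymm (Ideal.span_le.2 fun p hp => ?_) (Ideal.span_le.2 fun p hp => Ideal.subset_span
    (Set.mem_iUnion₂.2 ⟨1, (one_pos : (0 : ℤ) < 1), hp⟩))
  obtain ⟨n, hn, hp⟩ := Set.mem_iUnion₂.1 hp
  rw [SetLike.mem_coe, MvPolynomial.as_sum p]
  refine Ideal.sum_mem _ fun d hd => ?_
  have hw := (MvPolynomial.mem_weightedHomogeneousSubmodule _ _ _ _).1 hp (MvPolynomial.mem_support_iff.1 hd)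
  rw [weight_one] at hw
  have hn' : (0 : ℤ) < n := hn
  obtain ⟨i, hi⟩ : ∃ i, d i ≠ 0 := by
    by_contra h
    push Not at h
    rw [show d = 0 from Finsupp.ext fun i => h i, map_zero] at hw
    omega
  rw [← tsub_add_cancel_of_le (show Finsupp.single i 1 ≤ d by
      rw [Finsupp.single_le_iff]; omega), MvPolynomial.monomial_add_single, pow_one]
  exact Ideal.mul_mem_left _ _ (Ideal.subset_span (poly_X_mem i))

theorem poly_piece_ne_bot (hr : 1 ≤ r) {n : ℤ} (hn : 0 ≤ n) : (𝒫) n ≠ ⊥ := fun h => by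
  have hm : (MvPolynomial.X (⟨0, hr⟩ : Fin r) : MvPolynomial (Fin r) k) ^ n.toNat ∈ (𝒫) n := by
    have := SetLike.pow_mem_graded n.toNat (poly_X_mem (k := k) (⟨0, hr⟩ : Fin r))
    rwa [nsmul_one, Int.toNat_of_nonneg hn] at this
  rw [h, Submodule.mem_bot] at hm
  exact pow_ne_zero _ (MvPolynomial.X_ne_zero _) hm

theorem poly_cm : LocCoh.IsCohenMacaulayRing (MvPolynomial (Fin r) k) :=
  { isCohenMacaulayLocalRing_localization := fun _ _ => H4Depth.isCohenMacaulayLocalRing_of_regular _ }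

theorem poly_dim : ringKrullDim (MvPolynomial (Fin r) k) = (r : WithBot ℕ∞) := by
  simp [MvPolynomial.ringKrullDim_of_isNoetherianRing]

/-- The top local cohomology of a polynomial ring. -/
theorem poly_top_eq_bot_iff (hr : 1 ≤ r) (m : HomogeneousIdeal (𝒫))
    (hm : m.toIdeal = H4Segre.irr (𝒫)) (E : GrLC.StarInjRes (𝒫) (addGr (𝒫))) (g : ℤ) :
    E.Hcomp m r g = ⊥ ↔ -(r : ℤ) < g := by
  haveI := poly_cm (k := k) (r := r)
  have hpos := poly_neg (k := k) (r := r)
  have h0 := poly_zero (k := k) (r := r)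
  have hloc := isStarLocal_irr hpos h0 m hm
  have hpos' : ∀ i : ℤ, i < 0 → addGr (𝒫) i = ⊥ := fun i hi => (addGr_eq_bot_iff i).2 (hpos i hi)
  have hF : IsField (GrLC.deg0 (addGr (𝒫))) := isField_deg0 h0
  let f : k →+* GrLC.deg0 (addGr (𝒫)) :=
    (algebraMap k (MvPolynomial (Fin r) k)).codRestrict (GrLC.deg0 (addGr (𝒫))) fun c => algebraMap_mem_deg0 c
  have hf : Function.Bijective f := bijective_deg0 h0
  set F := resA (𝒫) (addGr (𝒫)) E with hFdef
  set a := idealA (𝒫) m with hadef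
  have hend := (S18644.result (MvPolynomial (Fin r) k) (addGr (𝒫)) hpos' hF a hloc hm poly_std r poly_dim F).2
    ⟨MvPolynomial.mapEquiv (Fin r) (RingEquiv.ofBijective f hf)⟩
  have htop : ∀ g : ℤ, -(r : ℤ) < g → F.Hgr a r g = ⊥ := (H4Gr.endDeg_le_iff' _).1 hend.le
  have hne : F.Hgr a r (-(r : ℤ)) ≠ ⊥ := fun hb => by
    have hle := (H4Gr.endDeg_le_iff' (ℳ' := F.Hgr a r) (-(r : ℤ) - 1)).2 fun n hn => by
      rcases eq_or_ne n (-(r : ℤ)) with rfl | hne
      · exact hb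
      · exact htop n (by omega)
    rw [hend, WithBot.coe_le_coe, WithTop.coe_le_coe] at hle
    omega
  -- multiplication by a variable is surjective on the top cohomology
  let x : MvPolynomial (Fin r) k := MvPolynomial.X ⟨0, hr⟩
  have hx : x ∈ addGr (𝒫) 1 := poly_X_mem (k := k) (⟨0, hr⟩ : Fin r)
  have hsurj : ∀ z : F.H a r, ∃ w, x • w = z := by
    obtain ⟨e⟩ := H4Gr.nonempty_H_equiv a F r
    have hxr : IsSMulRegular (MvPolynomial (Fin r) k) x :=
      fun u v huv => mul_left_cancel₀ (MvPolynomial.X_ne_zero _) huv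
    let μ : MvPolynomial (Fin r) k →ₗ[MvPolynomial (Fin r) k] MvPolynomial (Fin r) k := x • LinearMap.id
    have hsub : Subsingleton (LocCoh.H a.toIdeal r (MvPolynomial (Fin r) k ⧸ LinearMap.range μ)) := by
      refine H4LC.subsingleton_H_of_supportDim_lt (I := a.toIdeal) r _ ?_
      rw [show LinearMap.range μ = (Ideal.span {x} : Ideal _) from by
        ext y; rw [Ideal.mem_span_singleton', LinearMap.mem_range]
        exact exists_congr fun t => by simp [μ, mul_comm]]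
      rw [Module.supportDim_eq_ringKrullDim_quotient_annihilator, Ideal.annihilator_quotient]
      have h2 := ringKrullDim_quotient_succ_le_of_nonZeroDivisor
        (mem_nonZeroDivisors_of_ne_zero (MvPolynomial.X_ne_zero (R := k) (⟨0, hr⟩ : Fin r)))
      rw [poly_dim] at h2
      obtain ⟨r', rfl⟩ : ∃ r', r = r' + 1 := ⟨r - 1, by omega⟩
      refine lt_of_le_of_lt (b := ((r' : ℕ) : WithBot ℕ∞)) ?_ (by exact_mod_cast Nat.lt_succ_self r')
      push_cast at h2
      generalize ringKrullDim (MvPolynomial (Fin (r' + 1)) k ⧸ Ideal.span {(MvPolynomial.X ⟨0, hr⟩ : MvPolynomial (Fin (r' + 1)) k)}) = d at h2 ⊢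
      induction d with
      | bot => exact bot_le
      | coe d =>
        induction d with
        | top =>
          rw [← WithBot.coe_one, ← WithBot.coe_add, top_add] at h2
          exact absurd h2 (by norm_cast)
        | coe d => norm_cast at h2 ⊢; omega
    intro z
    obtain ⟨w, hw⟩ := (H4LC.exactH₂ a.toIdeal (f := μ) (g := (LinearMap.range μ).mkQ) hxr (Submodule.mkQ_surjective _)
      (LinearMap.exact_map_mkQ_range μ) r (e z)).1 (Subsingleton.elim _ _)
    refine ⟨e.symm w, e.injective ?_⟩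
    rw [map_smul, e.apply_symm_apply, ← hw]
    exact (H4LC.Hmap_smul_id a.toIdeal _ x r w).symm
  rw [← Hcomp_resA_eq_bot_iff, ← hFdef, ← hadef, ← H4Gr.Hgr_eq_bot_iff]
  refine ⟨fun hg => by_contra fun hlt => ?_, htop g⟩
  have hdown : ∀ n : ℕ, F.Hgr a r (-(r : ℤ) - n) ≠ ⊥ := by
    intro n
    induction n with
    | zero => simpa using hne
    | succ n ih =>
      intro hb
      refine ih ((AddSubgroup.eq_bot_iff_forall _).2 fun z hz => ?_)
      letI := (H4Gr.isInternal_Hgr a F r).chooseDecomposition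
      letI := H4Gr.gradedSMul_Hgr a F r
      obtain ⟨w, rfl⟩ := hsurj z
      have h := H4Gr.proj_smul (ℳ := F.Hgr a r) hx (-(r : ℤ) - n) w
      rw [H4Gr.proj_same hz, show -(r : ℤ) - n - 1 = -(r : ℤ) - ((n + 1 : ℕ) : ℤ) by push_cast; ring,
        (AddSubgroup.eq_bot_iff_forall _).1 hb _ (H4Gr.proj_mem _ _ w), smul_zero] at h
      exact h
  exact hdown (-(r : ℤ) - g).toNat (by rwa [Int.toNat_of_nonneg (by omega), sub_sub_cancel])

end Polynomial

section SegrePoly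

variable {k : Type u} [Field k] {r s : ℕ}

local notation "𝒫r" => MvPolynomial.weightedHomogeneousSubmodule k (fun _ : Fin r => (1 : ℤ))
local notation "𝒫s" => MvPolynomial.weightedHomogeneousSubmodule k (fun _ : Fin s => (1 : ℤ))

theorem poly_cm_mod (q : Ideal (MvPolynomial (Fin r) k)) [q.IsPrime] :
    Subsingleton (LocalizedModule q.primeCompl (MvPolynomial (Fin r) k)) ∨
      LocCoh.IsCohenMacaulayModule (Localization.AtPrime q) (LocalizedModule q.primeCompl (MvPolynomial (Fin r) k)) :=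
  (isCM_ring_iff _).1 poly_cm q

theorem poly_supportDim : Module.supportDim (MvPolynomial (Fin r) k) (MvPolynomial (Fin r) k) = (r : WithBot ℕ∞) := by
  rw [Module.supportDim_self_eq_ringKrullDim, poly_dim]

theorem shift_piece_eq_bot_iff (hr : 1 ≤ r) (a d : ℤ) :
    H4Gr.shiftPieces (addGr (𝒫r)) a d = ⊥ ↔ d + a < 0 := by
  refine (addGr_eq_bot_iff (d + a)).trans ⟨fun h => ?_, poly_neg (d + a)⟩
  by_contra hd
  exact poly_piece_ne_bot hr (not_lt.1 hd) h

variable {T : Type u} [CommRing T] [Algebra k T] {𝒯 : ℤ → Submodule k T} [GradedAlgebra 𝒯]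
  {ψ : T →ₐ[k] MvPolynomial (Fin r) k ⊗[k] MvPolynomial (Fin s) k}
  {a b : ℤ} {P : Type u} [AddCommGroup P] [Module T P] [Module k P] [IsScalarTower k T P]
  {𝒬 : ℤ → AddSubgroup P} [Decomposition 𝒬] {φ : P →ₗ[k] MvPolynomial (Fin r) k ⊗[k] MvPolynomial (Fin s) k}

theorem isSegreMod_shift (hP : GrSeg.IsSegreMod ψ (fun n : ℤ => (𝒫r) (n + a)) (fun n : ℤ => (𝒫s) (n + b)) 𝒬 φ) :
    GrSeg.IsSegreMod ψ (H4Gr.shiftPieces (addGr (𝒫r)) a) (H4Gr.shiftPieces (addGr (𝒫s)) b) 𝒬 φ :=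
  ⟨hP.injective, hP.image_piece, hP.map_smul⟩

theorem nontrivial_segre_poly (hr : 1 ≤ r) (hs : 1 ≤ s)
    (hP : GrSeg.IsSegreMod ψ (fun n : ℤ => (𝒫r) (n + a)) (fun n : ℤ => (𝒫s) (n + b)) 𝒬 φ) : Nontrivial P := by
  let n : ℤ := max (-a) (-b)
  obtain ⟨x, hx, hx0⟩ := (Submodule.ne_bot_iff _).1 (poly_piece_ne_bot (k := k) hr (show 0 ≤ n + a by omega))
  obtain ⟨y, hy, hy0⟩ := (Submodule.ne_bot_iff _).1 (poly_piece_ne_bot (k := k) hs (show 0 ≤ n + b by omega))
  have hmem : x ⊗ₜ[k] y ∈ (GrSeg.segrePiece k (fun n : ℤ => (𝒫r) (n + a)) (fun n : ℤ => (𝒫s) (n + b)) n :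
      Set (MvPolynomial (Fin r) k ⊗[k] MvPolynomial (Fin s) k)) := Submodule.subset_span ⟨x, hx, y, hy, rfl⟩
  rw [← hP.image_piece n] at hmem
  obtain ⟨p, -, hp⟩ := hmem
  obtain ⟨f, hf⟩ := Module.Projective.exists_dual_ne_zero k hx0
  refine nontrivial_of_ne p 0 fun h => smul_ne_zero hf hy0 ?_
  have h1 := congrArg ((TensorProduct.lid k (MvPolynomial (Fin s) k)).toLinearMap ∘ₗ f.rTensor (MvPolynomial (Fin s) k)) hp
  simpa [h] using h1.symm

theorem segre_poly_two_le (h2r : 2 ≤ r) (h2s : 2 ≤ s) (hT : GrSeg.IsSegreRing (𝒫r) (𝒫s) 𝒯 ψ)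
    (mT : HomogeneousIdeal 𝒯) (hmT : mT.toIdeal = Ideal.span (⋃ n ∈ Set.Ioi (0 : ℤ), (𝒯 n : Set T)))
    (hP : GrSeg.IsSegreMod ψ (fun n : ℤ => (𝒫r) (n + a)) (fun n : ℤ => (𝒫s) (n + b)) 𝒬 φ) :
    ((∀ (q : Ideal T) [q.IsPrime], Subsingleton (LocalizedModule q.primeCompl P) ∨
        LocCoh.IsCohenMacaulayModule (Localization.AtPrime q) (LocalizedModule q.primeCompl P)) ↔
        (a - b < (s : ℤ) ∧ -(r : ℤ) < a - b)) ∧
      ((s : ℤ) ≤ a - b → LocCoh.idealDepth mT.toIdeal P = (s : ℕ∞)) ∧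
      (a - b ≤ -(r : ℤ) → LocCoh.idealDepth mT.toIdeal P = (r : ℕ∞)) := by
  haveI := nontrivial_segre_poly (by omega) (by omega) hP
  letI := (H4Gr.isInternal_shiftPieces (ℳ := addGr (𝒫r)) a).chooseDecomposition
  letI := (H4Gr.isInternal_shiftPieces (ℳ := addGr (𝒫s)) b).chooseDecomposition
  haveI := gradedSMul_shift (𝒜 := 𝒫r) a
  haveI := gradedSMul_shift (𝒜 := 𝒫s) b
  obtain ⟨Er⟩ := nonempty_starInjRes (𝒫r) (addGr (𝒫r))
  obtain ⟨Es⟩ := nonempty_starInjRes (𝒫s) (addGr (𝒫s))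
  let mR : HomogeneousIdeal (𝒫r) := ⟨H4Segre.irr (𝒫r), H4Segre.isHomogeneous_irr (𝒫r)⟩
  let mS : HomogeneousIdeal (𝒫s) := ⟨H4Segre.irr (𝒫s), H4Segre.isHomogeneous_irr (𝒫s)⟩
  let EM := shiftRes Er a
  let EN := shiftRes Es b
  have hEM : ∀ g, EM.Hcomp mR r g = ⊥ ↔ -(r : ℤ) < g + a := fun g =>
    (shiftRes_eq_bot_iff Er a mR r g).trans (poly_top_eq_bot_iff (by omega) mR rfl Er (g + a))
  have hEN : ∀ g, EN.Hcomp mS s g = ⊥ ↔ -(s : ℤ) < g + b := fun g =>
    (shiftRes_eq_bot_iff Es b mS s g).trans (poly_top_eq_bot_iff (by omega) mS rfl Es (g + b))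
  have hP' := isSegreMod_shift hP
  refine ⟨?_, ?_⟩
  · rw [segre_CM_iff_two_le poly_neg poly_zero poly_neg poly_zero mR rfl mS rfl hT hP' EM EN h2r h2s
      poly_supportDim poly_supportDim (fun q _ => poly_cm_mod q) (fun q _ => poly_cm_mod q)]
    simp only [hEM, hEN, shift_piece_eq_bot_iff (show 1 ≤ r by omega), shift_piece_eq_bot_iff (show 1 ≤ s by omega)]
    refine ⟨fun h => ⟨?_, ?_⟩, fun h => ⟨fun d => by omega, fun d => by omega⟩⟩
    · have := h.1 (-a); omega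
    · have := h.2 (-b); omega
  haveI := nontrivial_T hT
  haveI := isNoetherianRing_T hT
  haveI := gradedSMul_segre hT hP'
  haveI : IsNoetherianRing (MvPolynomial (Fin r) k ⊗[k] MvPolynomial (Fin s) k) := by
    haveI : Algebra.FiniteType k (MvPolynomial (Fin r) k ⊗[k] MvPolynomial (Fin s) k) :=
      Algebra.FiniteType.trans (S := MvPolynomial (Fin r) k) inferInstance inferInstance
    exact Algebra.FiniteType.isNoetherianRing k _
  haveI : Module.Finite T P := H4Segre.moduleFinite_segre (𝒫r) (H4Gr.shiftPieces (addGr (𝒫r)) a) (𝒫s)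
    (H4Gr.shiftPieces (addGr (𝒫s)) b) hT.2 hP'
  have h0T := deg0_segre hT poly_zero poly_zero
  haveI := finiteType_of_noetherian (negT hT poly_neg) h0T
  obtain ⟨EP⟩ := nonempty_starInjRes 𝒯 𝒬
  have hMv : ∀ i g, i ≠ r → EM.Hcomp mR i g = ⊥ := fun i g hi =>
    Hcomp_eq_bot_of_isCM poly_neg poly_zero mR rfl poly_supportDim (fun q _ => poly_cm_mod q) EM hi g
  have hNv : ∀ i g, i ≠ s → EN.Hcomp mS i g = ⊥ := fun i g hi =>
    Hcomp_eq_bot_of_isCM poly_neg poly_zero mS rfl poly_supportDim (fun q _ => poly_cm_mod q) EN hi g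
  have hzR := finrank_Hcomp_eq_zero_iff poly_neg poly_zero mR rfl EM
  have hzS := finrank_Hcomp_eq_zero_iff poly_neg poly_zero mS rfl EN
  have hz := finrank_Hcomp_eq_zero_iff (negT hT poly_neg) h0T mT hmT EP
  have key : ∀ i g, i < r + s - 1 → (EP.Hcomp mT i g = ⊥ ↔
      (g + a < 0 ∨ EN.Hcomp mS i g = ⊥) ∧ (EM.Hcomp mR i g = ⊥ ∨ g + b < 0)) := by
    intro i g hi
    have hsum : ∑ j ∈ Finset.range (i + 2), Module.finrank (GrLC.deg0 (𝒫r)) (EM.Hcomp mR j g) *
        Module.finrank (GrLC.deg0 (𝒫s)) (EN.Hcomp mS (i + 1 - j) g) = 0 := by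
      refine Finset.sum_eq_zero fun j _ => ?_
      by_cases hj : j = r
      · rw [(hzS _ g).2 (hNv _ g (by omega)), mul_zero]
      · rw [(hzR _ g).2 (hMv _ g hj), zero_mul]
    rw [← hz, kunneth_formula poly_neg poly_zero poly_neg poly_zero hT mR rfl mS rfl mT hmT EM EN hP' EP g
      (fun q hq => hMv q g (by omega)) (fun q hq => hNv q g (by omega)) i, hsum, add_zero, Nat.add_eq_zero_iff,
      mul_eq_zero, mul_eq_zero, hzR, hzS, finrank_comp_eq_zero_iff poly_zero, finrank_comp_eq_zero_iff poly_zero,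
      shift_piece_eq_bot_iff (by omega), shift_piece_eq_bot_iff (by omega)]
  refine ⟨fun h => ?_, fun h => ?_⟩ <;> refine (H4LC.idealDepth_eq_natCast_iff_H mT.toIdeal P).2 ⟨fun i hi => ?_, ?_⟩
  · refine (subsingleton_H_iff mT EP i).2 fun g => (key i g (by omega)).2 ⟨Or.inr (hNv i g (by omega)), ?_⟩
    by_cases hir : i = r
    · subst hir; rw [hEM]; omega
    · exact Or.inl (hMv i g hir)
  · rw [← not_subsingleton_iff_nontrivial, subsingleton_H_iff mT EP]
    intro hall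
    have h1 := ((key s (-a) (by omega)).1 (hall (-a))).1
    rw [hEN] at h1
    omega
  · refine (subsingleton_H_iff mT EP i).2 fun g => (key i g (by omega)).2 ⟨?_, Or.inl (hMv i g (by omega))⟩
    by_cases his : i = s
    · subst his; rw [hEN]; omega
    · exact Or.inr (hNv i g his)
  · rw [← not_subsingleton_iff_nontrivial, subsingleton_H_iff mT EP]
    intro hall
    have h1 := ((key r (-b) (by omega)).1 (hall (-b))).2
    rw [hEM] at h1
    omega

theorem segre_poly_dim_one (hr : r = 1) (h2s : 2 ≤ s) (hT : GrSeg.IsSegreRing (𝒫r) (𝒫s) 𝒯 ψ)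
    (mT : HomogeneousIdeal 𝒯) (hmT : mT.toIdeal = Ideal.span (⋃ n ∈ Set.Ioi (0 : ℤ), (𝒯 n : Set T)))
    (hP : GrSeg.IsSegreMod ψ (fun n : ℤ => (𝒫r) (n + a)) (fun n : ℤ => (𝒫s) (n + b)) 𝒬 φ) :
    (b ≤ a → (∀ (q : Ideal T) [q.IsPrime], Subsingleton (LocalizedModule q.primeCompl P) ∨
        LocCoh.IsCohenMacaulayModule (Localization.AtPrime q) (LocalizedModule q.primeCompl P))) ∧
      (a < b → LocCoh.idealDepth mT.toIdeal P = (1 : ℕ∞)) := by
  subst hr
  haveI := nontrivial_segre_poly le_rfl (by omega) hP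
  letI := (H4Gr.isInternal_shiftPieces (ℳ := addGr (MvPolynomial.weightedHomogeneousSubmodule k (fun _ : Fin 1 => (1 : ℤ)))) a).chooseDecomposition
  letI := (H4Gr.isInternal_shiftPieces (ℳ := addGr (𝒫s)) b).chooseDecomposition
  haveI := gradedSMul_shift (𝒜 := MvPolynomial.weightedHomogeneousSubmodule k (fun _ : Fin 1 => (1 : ℤ))) a
  haveI := gradedSMul_shift (𝒜 := 𝒫s) b
  obtain ⟨Er⟩ := nonempty_starInjRes (MvPolynomial.weightedHomogeneousSubmodule k (fun _ : Fin 1 => (1 : ℤ)))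
    (addGr (MvPolynomial.weightedHomogeneousSubmodule k (fun _ : Fin 1 => (1 : ℤ))))
  let mR : HomogeneousIdeal (MvPolynomial.weightedHomogeneousSubmodule k (fun _ : Fin 1 => (1 : ℤ))) :=
    ⟨H4Segre.irr _, H4Segre.isHomogeneous_irr _⟩
  let EM := shiftRes Er a
  have hEM : ∀ g, EM.Hcomp mR 1 g = ⊥ ↔ -1 < g + a := fun g =>
    (shiftRes_eq_bot_iff Er a mR 1 g).trans (poly_top_eq_bot_iff le_rfl mR rfl Er (g + a))
  have hP' := isSegreMod_shift hP
  refine ⟨fun hab => ?_, fun hab => ?_⟩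
  · refine ((segre_CM_dim_one poly_neg poly_zero poly_neg poly_zero mR rfl hT hP' EM (by omega : 1 ≤ s)
      (by rw [poly_supportDim]; rfl) poly_supportDim (fun q _ => poly_cm_mod q) (fun q _ => poly_cm_mod q)).1 h2s).2
      fun d => ?_
    rw [hEM, shift_piece_eq_bot_iff (by omega : 1 ≤ s)]
    omega
  haveI := nontrivial_T hT
  haveI := isNoetherianRing_T hT
  haveI := gradedSMul_segre hT hP'
  haveI : IsNoetherianRing (MvPolynomial (Fin 1) k ⊗[k] MvPolynomial (Fin s) k) := by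
    haveI : Algebra.FiniteType k (MvPolynomial (Fin 1) k ⊗[k] MvPolynomial (Fin s) k) :=
      Algebra.FiniteType.trans (S := MvPolynomial (Fin 1) k) inferInstance inferInstance
    exact Algebra.FiniteType.isNoetherianRing k _
  haveI : Module.Finite T P := H4Segre.moduleFinite_segre _
    (H4Gr.shiftPieces (addGr (MvPolynomial.weightedHomogeneousSubmodule k (fun _ : Fin 1 => (1 : ℤ)))) a) (𝒫s)
    (H4Gr.shiftPieces (addGr (𝒫s)) b) hT.2 hP'
  have h0T := deg0_segre hT poly_zero poly_zero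
  haveI := finiteType_of_noetherian (negT hT poly_neg) h0T
  obtain ⟨EP⟩ := nonempty_starInjRes 𝒯 𝒬
  obtain ⟨Es⟩ := nonempty_starInjRes (𝒫s) (addGr (𝒫s))
  let mS : HomogeneousIdeal (𝒫s) := ⟨H4Segre.irr (𝒫s), H4Segre.isHomogeneous_irr (𝒫s)⟩
  let EN := shiftRes Es b
  have hM0 : ∀ g, EM.Hcomp mR 0 g = ⊥ := fun g =>
    Hcomp_eq_bot_of_isCM poly_neg poly_zero mR rfl poly_supportDim (fun q _ => poly_cm_mod q) EM (by omega) g
  have hNv : ∀ i g, i ≠ s → EN.Hcomp mS i g = ⊥ := fun i g hi =>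
    Hcomp_eq_bot_of_isCM poly_neg poly_zero mS rfl poly_supportDim (fun q _ => poly_cm_mod q) EN hi g
  have hzR := finrank_Hcomp_eq_zero_iff poly_neg poly_zero mR rfl EM
  have hzS := finrank_Hcomp_eq_zero_iff poly_neg poly_zero mS rfl EN
  have hz := finrank_Hcomp_eq_zero_iff (negT hT poly_neg) h0T mT hmT EP
  have hk := fun g => kunneth_presented poly_neg poly_zero poly_neg poly_zero hT mR rfl mS rfl mT hmT EM EN hP' EP g
    (hM0 g) (hNv 0 g (by omega))
  rw [show (1 : ℕ∞) = ((1 : ℕ) : ℕ∞) from rfl, H4LC.idealDepth_eq_natCast_iff_H]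
  refine ⟨fun i hi => (subsingleton_H_iff mT EP i).2 fun g => ?_, ?_⟩
  · obtain ⟨cA, cB, -, -, -, -, h0, -, -⟩ := hk g
    rw [show i = 0 by omega]
    exact (hz 0 g).1 h0
  · rw [← not_subsingleton_iff_nontrivial, subsingleton_H_iff mT EP]
    intro hall
    obtain ⟨cA, cB, hA0, hB0, -, -, -, h1, -⟩ := hk (-b)
    rw [(hzS 1 _).2 (hNv 1 _ (by omega)), add_zero] at hB0
    rw [(hz 1 _).2 (hall _), zero_add, hA0, hB0, add_mul, eq_comm, add_eq_left, mul_eq_zero, hzR, hEM,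
      finrank_comp_eq_zero_iff poly_zero, shift_piece_eq_bot_iff (by omega : 1 ≤ s)] at h1
    omega

end SegrePoly

end Groth.Agent.H4KS
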