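import Groth.Agent.H4KS.SegreCM
import Groth.Agent.H4Depth.SkFree
import Groth.Agent.H4LC.CanonCM
import Groth.Agent.H4Gr.PolyRing
import Groth.Agent.S17771
import Groth.Agent.S18644

/-!
# Cohen–Macaulay Segre products of rings
-/

set_option autoImplicit false
set_option linter.unusedSectionVars false
set_option linter.style.haveILetI false
set_option linter.overlappingInstances false

universe u

open DirectSum
open scoped TensorProduct

namespace Groth.Agent.H4KS

theorem isCM_ring_iff (A : Type u) [CommRing A] [IsNoetherianRing A] :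
    LocCoh.IsCohenMacaulayRing A ↔ ∀ (q : Ideal A) [q.IsPrime], Subsingleton (LocalizedModule q.primeCompl A) ∨
      LocCoh.IsCohenMacaulayModule (Localization.AtPrime q) (LocalizedModule q.primeCompl A) := by
  constructor
  · intro h q _
    obtain ⟨e⟩ := H4Depth.exists_localizedModule_self_equiv q
    exact Or.inr (H4LC.isCM_congr e.symm
      ((LocCoh.IsCohenMacaulayRing.isCohenMacaulayLocalRing_localization q).supportDim_eq_depth))
  · intro h
    refine ⟨fun q hq => ?_⟩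
    obtain ⟨e⟩ := H4Depth.exists_localizedModule_self_equiv q
    have hn : ¬ Subsingleton (LocalizedModule q.primeCompl A) := fun hs =>
      not_subsingleton (Localization.AtPrime q) (@Equiv.subsingleton _ _ e.symm.toEquiv hs)
    exact { supportDim_eq_depth := H4LC.isCM_congr e ((h q).resolve_left hn) }

variable {k : Type u} [Field k] {R : Type u} [CommRing R] [Algebra k R] {𝒜 : ℤ → Submodule k R} [GradedAlgebra 𝒜]

theorem addGr_eq_bot_iff (n : ℤ) : addGr 𝒜 n = ⊥ ↔ 𝒜 n = ⊥ :=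
  ⟨fun h => (Submodule.eq_bot_iff _).2 fun x hx => (AddSubgroup.eq_bot_iff_forall _).1 h x hx,
    fun h => (AddSubgroup.eq_bot_iff_forall _).2 fun x hx => (Submodule.eq_bot_iff _).1 h x hx⟩

variable (hpos : ∀ n : ℤ, n < 0 → 𝒜 n = ⊥) (h0 : 𝒜 0 = Submodule.span k {(1 : R)}) [Nontrivial R]
  [Algebra.FiniteType k R]
  (hstd : Ideal.span (⋃ n ∈ Set.Ioi (0 : ℤ), (𝒜 n : Set R)) = Ideal.span ((𝒜 1 : Submodule k R) : Set R))

include hpos h0 hstd in
/-- A standard algebra of positive dimension has no gaps. -/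
theorem piece_ne_bot {r : ℕ} (hr : ringKrullDim R = r) (h1 : 1 ≤ r) {n : ℤ} (hn : 0 ≤ n) : 𝒜 n ≠ ⊥ := by
  haveI : IsNoetherianRing R := Algebra.FiniteType.isNoetherianRing k R
  haveI := H4Segre.isMaximal_irr 𝒜 hpos h0
  obtain ⟨x, hx, hnil⟩ : ∃ x ∈ 𝒜 1, ¬ IsNilpotent x := by
    by_contra hc
    push Not at hc
    have hle : H4Segre.irr 𝒜 ≤ nilradical R := hstd.le.trans (Ideal.span_le.2 fun x hx => hc x hx)
    have hlez : Ring.KrullDimLE 0 R := Ring.krullDimLE_zero_iff.2 fun P hP => by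
      have : H4Segre.irr 𝒜 ≤ P := hle.trans (nilradical_le_prime P)
      exact (Ideal.IsMaximal.eq_of_le inferInstance hP.ne_top this) ▸ inferInstance
    have h : ringKrullDim R ≤ (0 : ℕ) := hlez.1
    rw [hr] at h
    have : r ≤ 0 := by exact_mod_cast h
    omega
  intro hbot
  have hmem : x ^ n.toNat ∈ 𝒜 n := by
    have := SetLike.pow_mem_graded n.toNat hx
    rwa [nsmul_one, Int.toNat_of_nonneg hn] at this
  rw [hbot, Submodule.mem_bot] at hmem
  exact hnil ⟨_, hmem⟩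

theorem endDeg_neg_iff {H : Type u} [AddCommGroup H] (ℋ : ℤ → AddSubgroup H) :
    GrLC.endDeg ℋ < 0 ↔ ∀ n : ℤ, 0 ≤ n → ℋ n = ⊥ := by
  constructor
  · intro h n hn
    by_contra hne
    have h2 : (((n : ℤ) : WithTop ℤ) : WithBot (WithTop ℤ)) ≤ GrLC.endDeg ℋ := le_iSup₂_of_le n hne le_rfl
    have h3 := lt_of_le_of_lt h2 h
    rw [← WithBot.coe_zero, ← WithTop.coe_zero, WithBot.coe_lt_coe, WithTop.coe_lt_coe] at h3
    omega
  · intro h
    refine lt_of_le_of_lt ((H4Gr.endDeg_le_iff' (-1 : ℤ)).2 fun n hn => h n (by omega)) ?_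
    rw [← WithBot.coe_zero, ← WithTop.coe_zero, WithBot.coe_lt_coe, WithTop.coe_lt_coe]
    omega

include hpos h0 in
theorem isStarLocal_irr (m : HomogeneousIdeal 𝒜) (hm : m.toIdeal = H4Segre.irr 𝒜) :
    GrLC.IsStarLocal (addGr 𝒜) (idealA 𝒜 m) := by
  haveI := H4Segre.isMaximal_irr 𝒜 hpos h0
  have htop : (idealA 𝒜 m).toIdeal ≠ ⊤ := hm.symm ▸ (inferInstance : (H4Segre.irr 𝒜).IsMaximal).ne_top
  have hle : ∀ J : HomogeneousIdeal (addGr 𝒜), J ≠ ⊤ → J ≤ idealA 𝒜 m := fun J hJ => by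
    have hJ' : J.toIdeal ≠ ⊤ := fun e => hJ (HomogeneousIdeal.ext (e.trans HomogeneousIdeal.toIdeal_top.symm))
    have := H4Segre.le_irr_of_isHomogeneous 𝒜 hpos h0 (J := J.toIdeal) (fun i r hr => J.isHomogeneous i hr) hJ'
    rw [← hm] at this
    exact this
  have hne : idealA 𝒜 m ≠ ⊤ := fun e => htop (by rw [e, HomogeneousIdeal.toIdeal_top])
  refine ⟨⟨hne, fun J hJ => by_contra fun h => not_le_of_gt hJ (hle J h)⟩, fun J hJ => ?_⟩
  exact le_antisymm (hle J hJ.1) ((hle J hJ.1).eq_or_lt.elim (fun e => e.ge) fun hlt => absurd (hJ.2 _ hlt) hne)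

include hpos h0 hstd in
/-- Standard Cohen–Macaulay algebras of dimension one with negative invariant are polynomial rings. -/
theorem nonempty_polynomial_iff [LocCoh.IsCohenMacaulayRing R] (hr : ringKrullDim R = 1)
    (mR : HomogeneousIdeal 𝒜) (hmR : mR.toIdeal = H4Segre.irr 𝒜) (E : GrLC.StarInjRes 𝒜 (addGr 𝒜)) :
    (∀ n : ℤ, 0 ≤ n → E.Hcomp mR 1 n = ⊥) ↔ Nonempty (R ≃ₐ[k] Polynomial k) := by
  have hloc := isStarLocal_irr hpos h0 mR hmR
  have hF : IsField (GrLC.deg0 (addGr 𝒜)) := isField_deg0 h0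
  letI := hF.toField
  haveI : IsArtinianRing (GrLC.deg0 (addGr 𝒜)) := inferInstance
  have hpos' : ∀ n : ℤ, n < 0 → addGr 𝒜 n = ⊥ := fun n hn => (addGr_eq_bot_iff n).2 (hpos n hn)
  have hr' : ringKrullDim R = ((1 : ℕ) : WithBot ℕ∞) := by rw [hr]; rfl
  let F := resA 𝒜 (addGr 𝒜) E
  have h644 := S18644.result R (addGr 𝒜) hpos' hF (idealA 𝒜 mR) hloc hmR hstd 1 hr' F
  have h771 := S17771.result R (addGr 𝒜) hpos' hstd (idealA 𝒜 mR) hloc 1 hr' F
  have hend : (∀ n : ℤ, 0 ≤ n → E.Hcomp mR 1 n = ⊥) ↔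
      GrLC.endDeg (F.Hgr (idealA 𝒜 mR) 1) = (((-((1 : ℕ) : ℤ) : ℤ) : WithTop ℤ) : WithBot (WithTop ℤ)) := by
    constructor
    · intro h
      refine le_antisymm ((H4Gr.endDeg_le_iff' _).2 fun n hn => (H4Gr.Hgr_eq_bot_iff _).2
        ((Hcomp_resA_eq_bot_iff E mR 1 n).2 (h n (by omega)))) h771
    · intro h n hn
      exact (Hcomp_resA_eq_bot_iff E mR 1 n).1 ((H4Gr.Hgr_eq_bot_iff _).1
        ((H4Gr.endDeg_le_iff' _).1 h.le n (by omega)))
  rw [hend, h644]
  let f : k →+* GrLC.deg0 (addGr 𝒜) :=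
    (algebraMap k R).codRestrict (GrLC.deg0 (addGr 𝒜)) fun c => algebraMap_mem_deg0 c
  have hf : Function.Bijective f := bijective_deg0 h0
  constructor
  · rintro ⟨e⟩
    haveI : IsDomain R := e.toMulEquiv.isDomain _
    let x : R := H4Gr.proj (addGr 𝒜) 1 (e.symm (MvPolynomial.X 0))
    have key : ∀ p, H4Gr.proj (addGr 𝒜) 1 (e.symm p) ∈ Submodule.span k {x} := fun p => by
      induction p using MvPolynomial.induction_on with
      | C c =>
        rcases eq_or_ne c 0 with rfl | hc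
        · rw [map_zero, map_zero, map_zero]; exact zero_mem _
        · rw [H4Gr.proj_ne (H4Gr.mem_zero_of_isUnit hpos'
            (((isUnit_iff_ne_zero.2 hc).map MvPolynomial.C).map e.symm)) zero_ne_one]
          exact zero_mem _
      | add p q hp hq => rw [map_add, map_add]; exact add_mem hp hq
      | mul_X p i hp =>
        obtain rfl : i = 0 := Subsingleton.elim _ _
        have h00 : ∀ z : R, ∃ c : k, H4Gr.proj (addGr 𝒜) 0 z = algebraMap k R c := fun z => by
          have hz : H4Gr.proj (addGr 𝒜) 0 z ∈ 𝒜 0 := H4Gr.proj_mem (addGr 𝒜) 0 z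
          rw [h0, Submodule.mem_span_singleton] at hz
          obtain ⟨c, hc⟩ := hz
          exact ⟨c, by rw [← hc, Algebra.algebraMap_eq_smul_one]⟩
        obtain ⟨c, hc⟩ := h00 (e.symm p)
        obtain ⟨c', hc'⟩ := h00 (e.symm (MvPolynomial.X 0))
        rw [map_mul, H4Gr.proj_one_mul hpos', hc, hc']
        refine add_mem ?_ ?_
        · rw [← Algebra.smul_def]; exact Submodule.smul_mem _ c (Submodule.mem_span_singleton_self x)
        · rw [mul_comm, ← Algebra.smul_def]; exact Submodule.smul_mem _ c' hp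
    have hv : ∀ y ∈ addGr 𝒜 1, y ∈ Submodule.span (GrLC.deg0 (addGr 𝒜)) (Set.range fun _ : Fin 1 => x) := by
      intro y hy
      have h := key (e y)
      rw [e.symm_apply_apply, H4Gr.proj_same hy, Submodule.mem_span_singleton] at h
      obtain ⟨c, rfl⟩ := h
      rw [Algebra.smul_def]
      exact Submodule.smul_mem _ (f c) (Submodule.subset_span ⟨0, rfl⟩)
    have hpm : ∀ n : ℤ, 0 < n → ∀ z ∈ addGr 𝒜 n, z ∈ (idealA 𝒜 mR).toIdeal := fun n hn z hz =>
      hmR.symm ▸ H4Segre.mem_irr_of_pos 𝒜 hn hz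
    have hs := H4Gr.aeval_surjective hpos' (hmR.trans hstd) hpm (fun _ : Fin 1 => x) hv
    have hs' : Function.Surjective (Polynomial.aeval (R := k) x) := fun y => by
      obtain ⟨p, rfl⟩ := hs y
      induction p using MvPolynomial.induction_on with
      | C c =>
        obtain ⟨a, rfl⟩ := hf.2 c
        exact ⟨Polynomial.C a, by rw [Polynomial.aeval_C, MvPolynomial.aeval_C]; rfl⟩
      | add p q hp hq =>
        obtain ⟨a, ha⟩ := hp
        obtain ⟨b, hb⟩ := hq
        exact ⟨a + b, by rw [map_add, map_add, ha, hb]⟩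
      | mul_X p i hp =>
        obtain ⟨a, ha⟩ := hp
        exact ⟨a * Polynomial.X, by rw [map_mul, map_mul, ha, Polynomial.aeval_X, MvPolynomial.aeval_X]⟩
    refine ⟨(AlgEquiv.ofBijective _ ⟨(RingHom.injective_iff_ker_eq_bot (Polynomial.aeval (R := k) x).toRingHom).2
      (by_contra fun hker => ?_), hs'⟩).symm⟩
    haveI : (RingHom.ker (Polynomial.aeval (R := k) x).toRingHom).IsPrime := RingHom.ker_isPrime _
    haveI := IsPrime.to_maximal_ideal hker
    have hsurj : Function.Surjective (Polynomial.aeval (R := k) x).toRingHom := hs'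
    have hmax := (RingHom.quotientKerEquivOfSurjective hsurj).symm.toMulEquiv.isField
      ((Ideal.Quotient.maximal_ideal_iff_isField_quotient _).1 inferInstance)
    rw [ringKrullDim_eq_zero_of_isField hmax] at hr
    exact zero_ne_one hr
  · rintro ⟨e⟩
    exact ⟨e.toRingEquiv.trans ((Polynomial.mapEquiv (RingEquiv.ofBijective f hf)).trans
      (((MvPolynomial.renameEquiv (GrLC.deg0 (addGr 𝒜)) (Equiv.ofUnique (Fin 1) PUnit.{u + 1})).trans
        (MvPolynomial.pUnitAlgEquiv (GrLC.deg0 (addGr 𝒜)))).symm.toRingEquiv))⟩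

end Groth.Agent.H4KS

namespace Groth.Agent.H4KS

variable {k : Type u} [Field k] {R : Type u} [CommRing R] [Algebra k R] {𝒜 : ℤ → Submodule k R} [GradedAlgebra 𝒜]
  {S : Type u} [CommRing S] [Algebra k S] {ℬ : ℤ → Submodule k S} [GradedAlgebra ℬ]
  {T : Type u} [CommRing T] [Algebra k T] {𝒯 : ℤ → Submodule k T} [GradedAlgebra 𝒯]
  {ψ : T →ₐ[k] R ⊗[k] S}
variable (hposR : ∀ n : ℤ, n < 0 → 𝒜 n = ⊥) (h0R : 𝒜 0 = Submodule.span k {(1 : R)})
  (hposS : ∀ n : ℤ, n < 0 → ℬ n = ⊥) (h0S : ℬ 0 = Submodule.span k {(1 : S)})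
  [Algebra.FiniteType k R] [Algebra.FiniteType k S] [LocCoh.IsCohenMacaulayRing R] [LocCoh.IsCohenMacaulayRing S]
  (mR : HomogeneousIdeal 𝒜) (hmR : mR.toIdeal = Ideal.span (⋃ n ∈ Set.Ioi (0 : ℤ), (𝒜 n : Set R)))
  (mS : HomogeneousIdeal ℬ) (hmS : mS.toIdeal = Ideal.span (⋃ n ∈ Set.Ioi (0 : ℤ), (ℬ n : Set S)))

include hposR h0R hposS h0S hmR hmS in
theorem ring_CM_iff_two_le (hT : GrSeg.IsSegreRing 𝒜 ℬ 𝒯 ψ) (I : GrLC.StarInjRes 𝒜 𝒜) (J : GrLC.StarInjRes ℬ ℬ)
    {r s : ℕ} (hr : ringKrullDim R = r) (hs : ringKrullDim S = s) (h2r : 2 ≤ r) (h2s : 2 ≤ s) :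
    LocCoh.IsCohenMacaulayRing T ↔
      (∀ n : ℤ, 𝒜 n = ⊥ ∨ J.Hcomp mS s n = ⊥) ∧ (∀ n : ℤ, I.Hcomp mR r n = ⊥ ∨ ℬ n = ⊥) := by
  haveI : Nontrivial R := by
    by_contra hn
    haveI := not_nontrivial_iff_subsingleton.1 hn
    simp [ringKrullDim_eq_bot_of_subsingleton] at hr
  haveI : Nontrivial S := by
    by_contra hn
    haveI := not_nontrivial_iff_subsingleton.1 hn
    simp [ringKrullDim_eq_bot_of_subsingleton] at hs
  haveI := nontrivial_T hT
  haveI := isNoetherianRing_T hT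
  have h := segre_CM_iff_two_le hposR h0R hposS h0S mR hmR mS hmS hT (isSegreMod_self hT) (selfRes I) (selfRes J)
    h2r h2s ((Module.supportDim_self_eq_ringKrullDim (R := _)).trans hr) ((Module.supportDim_self_eq_ringKrullDim (R := _)).trans hs)
    ((isCM_ring_iff R).1 inferInstance) ((isCM_ring_iff S).1 inferInstance)
  simp only [addGr_eq_bot_iff] at h
  exact (isCM_ring_iff T).trans h

include hposR h0R hposS h0S hmR in
theorem ring_CM_dim_one (hT : GrSeg.IsSegreRing 𝒜 ℬ 𝒯 ψ) (E : GrLC.StarInjRes 𝒜 (addGr 𝒜))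
    (hr : ringKrullDim R = 1) {s : ℕ} (hs : ringKrullDim S = s) (h1s : 1 ≤ s) :
    (2 ≤ s → (LocCoh.IsCohenMacaulayRing T ↔ ∀ n : ℤ, E.Hcomp mR 1 n = ⊥ ∨ ℬ n = ⊥)) ∧
      (s = 1 → LocCoh.IsCohenMacaulayRing T) := by
  haveI : Nontrivial R := by
    by_contra hn
    haveI := not_nontrivial_iff_subsingleton.1 hn
    simp [ringKrullDim_eq_bot_of_subsingleton] at hr
  haveI : Nontrivial S := by
    by_contra hn
    haveI := not_nontrivial_iff_subsingleton.1 hn
    simp [ringKrullDim_eq_bot_of_subsingleton] at hs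
  haveI := nontrivial_T hT
  haveI := isNoetherianRing_T hT
  have h := segre_CM_dim_one hposR h0R hposS h0S mR hmR hT (isSegreMod_self hT) E h1s
    ((Module.supportDim_self_eq_ringKrullDim (R := _)).trans hr) ((Module.supportDim_self_eq_ringKrullDim (R := _)).trans hs)
    ((isCM_ring_iff R).1 inferInstance) ((isCM_ring_iff S).1 inferInstance)
  simp only [addGr_eq_bot_iff] at h
  exact ⟨fun h2 => (isCM_ring_iff T).trans (h.1 h2), fun h1 => (isCM_ring_iff T).2 (h.2 h1)⟩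

end Groth.Agent.H4KS
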