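import Groth.Agent.H4KS.Adapter
import Groth.Agent.H4KS.Flasque
import Groth.Agent.H4Segre.Diag
import Groth.Agent.H4LC.Hiso
import Mathlib.LinearAlgebra.TensorProduct.RightExactness
import Mathlib.RingTheory.Flat.Basic

/-!
# Segre products of graded modules as graded modules
-/

set_option autoImplicit false
set_option linter.unusedSectionVars false
set_option linter.style.haveILetI false

universe u

open DirectSum
open scoped TensorProduct

namespace Groth.Agent.H4KS

variable {k : Type u} [Field k] {R : Type u} [CommRing R] [Algebra k R] {𝒜 : ℤ → Submodule k R} [GradedAlgebra 𝒜]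
  {S : Type u} [CommRing S] [Algebra k S] {ℬ : ℤ → Submodule k S} [GradedAlgebra ℬ]
  {T : Type u} [CommRing T] [Algebra k T] {𝒯 : ℤ → Submodule k T} [GradedAlgebra 𝒯]
  (ψ : T →ₐ[k] R ⊗[k] S)

section Amb

variable (M N : Type u) [AddCommGroup M] [Module R M] [Module k M] [IsScalarTower k R M]
  [AddCommGroup N] [Module S N] [Module k N] [IsScalarTower k S N]

/-- The tensor product as a module over the Segre ring. -/
def Amb (_ψ : T →ₐ[k] R ⊗[k] S) : Type u := M ⊗[k] N

noncomputable instance : AddCommGroup (Amb M N ψ) := inferInstanceAs (AddCommGroup (M ⊗[k] N))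

noncomputable instance : Module k (Amb M N ψ) := inferInstanceAs (Module k (M ⊗[k] N))

noncomputable instance instModuleSegre : Module T (Amb M N ψ) :=
  Module.compHom (M ⊗[k] N) ((H4Segre.actHom k R M S N).toRingHom.comp ψ.toRingHom)

variable {M N}

/-- The underlying tensor of an element of `Amb`. -/
noncomputable def toTens : Amb M N ψ →ₗ[k] M ⊗[k] N where
  toFun z := z
  map_add' _ _ := rfl
  map_smul' _ _ := rfl

theorem toTens_smul (t : T) (z : Amb M N ψ) :
    toTens ψ (t • z) = GrSeg.act k R S M N (ψ t) (toTens ψ z) :=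
  H4Segre.actHom_apply (ψ t) (toTens ψ z)

theorem amb_smul (t : T) (z : Amb M N ψ) :
    t • z = (GrSeg.act k R S M N (ψ t) (z : M ⊗[k] N) : M ⊗[k] N) :=
  H4Segre.actHom_apply (ψ t) (z : M ⊗[k] N)

instance : IsScalarTower k T (Amb M N ψ) := IsScalarTower.of_algebraMap_smul fun c z => by
  show H4Segre.actHom k R M S N (ψ (algebraMap k T c)) (z : M ⊗[k] N) = _
  rw [ψ.commutes, AlgHom.commutes]
  rfl

end Amb

/-- `ψ` presents the Segre product of `𝒜` and `ℬ`, with pieces `𝒯`. -/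
class SegreHom {k R S T : Type u} [Field k] [CommRing R] [Algebra k R] [CommRing S] [Algebra k S] [CommRing T]
    [Algebra k T] (ψ : T →ₐ[k] R ⊗[k] S) (𝒜 : ℤ → Submodule k R) (ℬ : ℤ → Submodule k S)
    (𝒯 : outParam (ℤ → Submodule k T)) [GradedAlgebra 𝒜] [GradedAlgebra ℬ] [GradedAlgebra 𝒯] : Prop where
  out : GrSeg.IsSegreRing 𝒜 ℬ 𝒯 ψ

variable [hS : SegreHom ψ 𝒜 ℬ 𝒯]

section Obj

variable (X : GrLC.GMod.{u} (addGr 𝒜)) (Y : GrLC.GMod.{u} (addGr ℬ))

include hS in
theorem act_mem_piece {i n : ℤ} {t : T} (ht : t ∈ 𝒯 i) {z : X.carrier ⊗[k] Y.carrier}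
    (hz : z ∈ GrSeg.segrePiece k X.gr Y.gr n) :
    GrSeg.act k R S X.carrier Y.carrier (ψ t) z ∈ GrSeg.segrePiece k X.gr Y.gr (i + n) := by
  have h : ψ t ∈ GrSeg.segrePiece k 𝒜 ℬ i := (hS.out.2 i) ▸ ⟨t, ht, rfl⟩
  generalize ψ t = u at h ⊢
  induction h using Submodule.span_induction with
  | mem u hu =>
    obtain ⟨a, ha, b, hb, rfl⟩ := hu
    induction hz using Submodule.span_induction with
    | mem w hw =>
      obtain ⟨x, hx, y, hy, rfl⟩ := hw
      rw [GrSeg.act_tmul]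
      exact Submodule.subset_span ⟨_, SetLike.GradedSMul.smul_mem (A := 𝒜) (B := X.gr) ha hx, _,
        SetLike.GradedSMul.smul_mem (A := ℬ) (B := Y.gr) hb hy, rfl⟩
    | zero => rw [map_zero]; exact zero_mem _
    | add x y _ _ hx hy => rw [map_add]; exact add_mem hx hy
    | smul c x _ hx => rw [map_smul]; exact Submodule.smul_mem _ c hx
  | zero => rw [map_zero, LinearMap.zero_apply]; exact zero_mem _
  | add x y _ _ hx hy => rw [map_add, LinearMap.add_apply]; exact add_mem hx hy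
  | smul c x _ hx => rw [map_smul, LinearMap.smul_apply]; exact Submodule.smul_mem _ c hx

include hS in
theorem act_mem (t : T) {w : X.carrier ⊗[k] Y.carrier} (hw : w ∈ ⨆ n, GrSeg.segrePiece k X.gr Y.gr n) :
    GrSeg.act k R S X.carrier Y.carrier (ψ t) w ∈ ⨆ n, GrSeg.segrePiece k X.gr Y.gr n := by
  induction t using DirectSum.Decomposition.inductionOn 𝒯 with
  | zero => rw [map_zero, map_zero, LinearMap.zero_apply]; exact zero_mem _
  | add a b ha hb => rw [map_add, map_add, LinearMap.add_apply]; exact add_mem ha hb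
  | @homogeneous i t =>
    induction hw using Submodule.iSup_induction' with
    | mem n w hw => exact Submodule.mem_iSup_of_mem _ (act_mem_piece ψ X Y t.2 hw)
    | zero => rw [map_zero]; exact zero_mem _
    | add a b _ _ ha hb => rw [map_add]; exact add_mem ha hb

/-- The Segre product inside the tensor product. -/
noncomputable def segSub : Submodule T (Amb X.carrier Y.carrier ψ) where
  carrier := toTens ψ ⁻¹' ((⨆ n, GrSeg.segrePiece k X.gr Y.gr n : Submodule k (X.carrier ⊗[k] Y.carrier)) : Set _)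
  add_mem' := fun {a b} ha hb => by
    rw [Set.mem_preimage, SetLike.mem_coe] at ha hb ⊢
    rw [map_add]
    exact add_mem ha hb
  zero_mem' := by
    rw [Set.mem_preimage, SetLike.mem_coe, map_zero]
    exact zero_mem _
  smul_mem' t z hz := by
    rw [Set.mem_preimage, SetLike.mem_coe] at hz ⊢
    rw [toTens_smul]
    exact act_mem ψ X Y t hz

/-- The underlying tensor. -/
noncomputable def segVal : segSub ψ X Y →+ X.carrier ⊗[k] Y.carrier :=
  (toTens ψ).toAddMonoidHom.comp (segSub ψ X Y).subtype.toAddMonoidHom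

/-- An element of a Segre product. -/
noncomputable def segMk (w : X.carrier ⊗[k] Y.carrier) (hw : w ∈ ⨆ n, GrSeg.segrePiece k X.gr Y.gr n) :
    segSub ψ X Y := ⟨(w : X.carrier ⊗[k] Y.carrier), hw⟩

theorem segVal_segMk (w : X.carrier ⊗[k] Y.carrier) (hw : w ∈ ⨆ n, GrSeg.segrePiece k X.gr Y.gr n) :
    segVal ψ X Y (segMk ψ X Y w hw) = w := rfl

theorem segVal_injective : Function.Injective (segVal ψ X Y) := fun _ _ h => Subtype.ext h

theorem segVal_mem (z : segSub ψ X Y) : segVal ψ X Y z ∈ ⨆ n, GrSeg.segrePiece k X.gr Y.gr n := z.2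

theorem segVal_smul (t : T) (z : segSub ψ X Y) :
    segVal ψ X Y (t • z) = GrSeg.act k R S X.carrier Y.carrier (ψ t) (segVal ψ X Y z) :=
  toTens_smul ψ t _

/-- The pieces of a Segre product. -/
noncomputable def segGr (n : ℤ) : AddSubgroup (segSub ψ X Y) :=
  (GrSeg.segrePiece k X.gr Y.gr n).toAddSubgroup.comap (segVal ψ X Y)

theorem mem_segGr {n : ℤ} {z : segSub ψ X Y} :
    z ∈ segGr ψ X Y n ↔ segVal ψ X Y z ∈ GrSeg.segrePiece k X.gr Y.gr n := Iff.rfl

theorem rTensor_comp_of_mem (n : ℤ) {m : ℤ} {w : X.carrier ⊗[k] Y.carrier}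
    (hw : w ∈ GrSeg.segrePiece k X.gr Y.gr m) :
    (H4Segre.comp 𝒜 X.gr n).rTensor Y.carrier w = if m = n then w else 0 := by
  induction hw using Submodule.span_induction with
  | mem w hw =>
    obtain ⟨x, hx, y, hy, rfl⟩ := hw
    rw [LinearMap.rTensor_tmul, H4Segre.comp_of_mem 𝒜 X.gr hx]
    split_ifs <;> simp
  | zero => simp
  | add a b _ _ ha hb => rw [map_add, ha, hb]; split_ifs <;> simp
  | smul c a _ ha => rw [map_smul, ha]; split_ifs <;> simp

theorem rTensor_comp_mem (n : ℤ) {w : X.carrier ⊗[k] Y.carrier} (hw : w ∈ ⨆ m, GrSeg.segrePiece k X.gr Y.gr m) :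
    (H4Segre.comp 𝒜 X.gr n).rTensor Y.carrier w ∈ GrSeg.segrePiece k X.gr Y.gr n := by
  induction hw using Submodule.iSup_induction' with
  | mem m w hw =>
    rw [rTensor_comp_of_mem X Y n hw]
    split_ifs with h
    · subst h; exact hw
    · exact zero_mem _
  | zero => rw [map_zero]; exact zero_mem _
  | add a b _ _ ha hb => rw [map_add]; exact add_mem ha hb

theorem isInternal_segGr : DirectSum.IsInternal (segGr ψ X Y) := by
  let π : ℤ → segSub ψ X Y →+ segSub ψ X Y := fun n =>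
    AddMonoidHom.mk' (fun z => segMk ψ X Y ((H4Segre.comp 𝒜 X.gr n).rTensor Y.carrier (segVal ψ X Y z))
      (Submodule.mem_iSup_of_mem n (rTensor_comp_mem X Y n (segVal_mem ψ X Y z))))
      fun a b => segVal_injective ψ X Y (by
        show (H4Segre.comp 𝒜 X.gr n).rTensor Y.carrier (segVal ψ X Y (a + b)) = _
        rw [map_add, map_add]; rfl)
  refine H4Gr.isInternal_of _ π (fun g z => rTensor_comp_mem X Y g (segVal_mem ψ X Y z))
    (fun g z hz h => segVal_injective ψ X Y ?_) fun z => ?_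
  · show (H4Segre.comp 𝒜 X.gr h).rTensor Y.carrier (segVal ψ X Y z) = _
    rw [rTensor_comp_of_mem X Y h hz]
    split_ifs <;> simp
  · obtain ⟨w, hw⟩ := z
    suffices ∀ v ∈ ⨆ n, GrSeg.segrePiece k X.gr Y.gr n, ∃ u : segSub ψ X Y, segVal ψ X Y u = v ∧ u ∈ ⨆ n, segGr ψ X Y n by
      obtain ⟨u, hu, hu'⟩ := this _ hw
      rwa [show (⟨w, hw⟩ : segSub ψ X Y) = u from segVal_injective ψ X Y hu.symm]
    intro v hv
    induction hv using Submodule.iSup_induction' with
    | mem n v hv => exact ⟨segMk ψ X Y v (Submodule.mem_iSup_of_mem n hv), rfl, AddSubgroup.mem_iSup_of_mem n hv⟩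
    | zero => exact ⟨0, map_zero _, zero_mem _⟩
    | add a b _ _ ha hb =>
      obtain ⟨u, hu, hu'⟩ := ha
      obtain ⟨u', hu'', hu'''⟩ := hb
      exact ⟨u + u', by rw [map_add, hu, hu''], add_mem hu' hu'''⟩

theorem gradedSMul_segGr : SetLike.GradedSMul (addGr 𝒯) (segGr ψ X Y) :=
  ⟨fun {i n t z} ht hz => by
    rw [mem_segGr, segVal_smul]
    exact act_mem_piece ψ X Y ht hz⟩

/-- The Segre product of two graded modules. -/
@[implicit_reducible]
noncomputable def Seg : GrLC.GMod.{u} (addGr 𝒯) :=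
  { carrier := segSub ψ X Y
    gr := segGr ψ X Y
    dec := (isInternal_segGr ψ X Y).chooseDecomposition
    gsmul := gradedSMul_segGr ψ X Y }

end Obj

section Maps

variable {X X' X'' : GrLC.GMod.{u} (addGr 𝒜)} {Y Y' Y'' : GrLC.GMod.{u} (addGr ℬ)}

/-- The tensor product of two maps of modules over the algebras. -/
noncomputable def tmap (f : X.carrier →ₗ[R] X'.carrier) (g : Y.carrier →ₗ[S] Y'.carrier) :
    X.carrier ⊗[k] Y.carrier →ₗ[k] X'.carrier ⊗[k] Y'.carrier :=
  TensorProduct.map (f.restrictScalars k) (g.restrictScalars k)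

theorem tmap_act (f : X.carrier →ₗ[R] X'.carrier) (g : Y.carrier →ₗ[S] Y'.carrier) (u : R ⊗[k] S)
    (z : X.carrier ⊗[k] Y.carrier) :
    tmap f g (GrSeg.act k R S X.carrier Y.carrier u z) = GrSeg.act k R S X'.carrier Y'.carrier u (tmap f g z) := by
  induction u using TensorProduct.induction_on with
  | zero => simp
  | add a b ha hb => simp only [map_add, LinearMap.add_apply, ha, hb]
  | tmul a b =>
    induction z using TensorProduct.induction_on with
    | zero => simp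
    | add x y hx hy => simp only [map_add, hx, hy]
    | tmul x y => simp [tmap, GrSeg.act_tmul]

theorem tmap_mem_piece {f : X.carrier →ₗ[R] X'.carrier} (hf : GrLC.IsGrHom X.gr X'.gr f)
    {g : Y.carrier →ₗ[S] Y'.carrier} (hg : GrLC.IsGrHom Y.gr Y'.gr g) {n : ℤ} {z : X.carrier ⊗[k] Y.carrier}
    (hz : z ∈ GrSeg.segrePiece k X.gr Y.gr n) : tmap f g z ∈ GrSeg.segrePiece k X'.gr Y'.gr n := by
  induction hz using Submodule.span_induction with
  | mem w hw =>
    obtain ⟨x, hx, y, hy, rfl⟩ := hw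
    exact Submodule.subset_span ⟨f x, hf n x hx, g y, hg n y hy, TensorProduct.map_tmul _ _ _ _⟩
  | zero => rw [map_zero]; exact zero_mem _
  | add a b _ _ ha hb => rw [map_add]; exact add_mem ha hb
  | smul c a _ ha => rw [map_smul]; exact Submodule.smul_mem _ c ha

theorem tmap_mem {f : X.carrier →ₗ[R] X'.carrier} (hf : GrLC.IsGrHom X.gr X'.gr f)
    {g : Y.carrier →ₗ[S] Y'.carrier} (hg : GrLC.IsGrHom Y.gr Y'.gr g) {z : X.carrier ⊗[k] Y.carrier}
    (hz : z ∈ ⨆ n, GrSeg.segrePiece k X.gr Y.gr n) : tmap f g z ∈ ⨆ n, GrSeg.segrePiece k X'.gr Y'.gr n := by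
  induction hz using Submodule.iSup_induction' with
  | mem n w hw => exact Submodule.mem_iSup_of_mem n (tmap_mem_piece hf hg hw)
  | zero => rw [map_zero]; exact zero_mem _
  | add a b _ _ ha hb => rw [map_add]; exact add_mem ha hb

/-- The map of Segre products. -/
noncomputable def segMap (f : X.carrier →ₗ[R] X'.carrier) (hf : GrLC.IsGrHom X.gr X'.gr f)
    (g : Y.carrier →ₗ[S] Y'.carrier) (hg : GrLC.IsGrHom Y.gr Y'.gr g) :
    (Seg ψ X Y).carrier →ₗ[T] (Seg ψ X' Y').carrier where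
  toFun z := segMk ψ X' Y' (tmap f g (segVal ψ X Y z)) (tmap_mem hf hg (segVal_mem ψ X Y z))
  map_add' a b := segVal_injective ψ X' Y' (by
    show tmap f g (segVal ψ X Y (a + b)) = tmap f g (segVal ψ X Y a) + tmap f g (segVal ψ X Y b)
    rw [map_add, map_add])
  map_smul' t a := segVal_injective ψ X' Y' (by
    show tmap f g (segVal ψ X Y (t • a)) = segVal ψ X' Y' (t • _)
    rw [segVal_smul, segVal_smul, tmap_act]
    rfl)

theorem segVal_segMap (f : X.carrier →ₗ[R] X'.carrier) (hf : GrLC.IsGrHom X.gr X'.gr f)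
    (g : Y.carrier →ₗ[S] Y'.carrier) (hg : GrLC.IsGrHom Y.gr Y'.gr g) (z : (Seg ψ X Y).carrier) :
    segVal ψ X' Y' (segMap ψ f hf g hg z) = tmap f g (segVal ψ X Y z) := rfl

theorem isGrHom_segMap (f : X.carrier →ₗ[R] X'.carrier) (hf : GrLC.IsGrHom X.gr X'.gr f)
    (g : Y.carrier →ₗ[S] Y'.carrier) (hg : GrLC.IsGrHom Y.gr Y'.gr g) :
    GrLC.IsGrHom (Seg ψ X Y).gr (Seg ψ X' Y').gr (segMap ψ f hf g hg) :=
  fun _ _ hz => tmap_mem_piece hf hg hz

theorem diag_tmap {f : X.carrier →ₗ[R] X'.carrier} (hf : GrLC.IsGrHom X.gr X'.gr f)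
    {g : Y.carrier →ₗ[S] Y'.carrier} (hg : GrLC.IsGrHom Y.gr Y'.gr g) (z : X.carrier ⊗[k] Y.carrier) :
    H4Segre.diag 𝒜 X'.gr ℬ Y'.gr (tmap f g z) = tmap f g (H4Segre.diag 𝒜 X.gr ℬ Y.gr z) := by
  induction z using TensorProduct.induction_on with
  | zero => simp
  | add a b ha hb => simp only [map_add, ha, hb]
  | tmul x y =>
    induction x using DirectSum.Decomposition.inductionOn X.gr with
    | zero => simp
    | add a b ha hb => simp only [TensorProduct.add_tmul, map_add, ha, hb]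
    | @homogeneous i x =>
      induction y using DirectSum.Decomposition.inductionOn Y.gr with
      | zero => simp
      | add a b ha hb => simp only [TensorProduct.tmul_add, map_add, ha, hb]
      | @homogeneous j y =>
        rw [H4Segre.diag_tmul 𝒜 X.gr ℬ Y.gr x.2, H4Segre.comp_of_mem ℬ Y.gr y.2]
        simp only [tmap, TensorProduct.map_tmul, LinearMap.coe_restrictScalars]
        rw [H4Segre.diag_tmul 𝒜 X'.gr ℬ Y'.gr (hf i x x.2), H4Segre.comp_of_mem ℬ Y'.gr (hg j y y.2)]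
        split_ifs <;> simp

theorem segMap_injective {f : X.carrier →ₗ[R] X'.carrier} (hf : GrLC.IsGrHom X.gr X'.gr f)
    {g : Y.carrier →ₗ[S] Y'.carrier} (hg : GrLC.IsGrHom Y.gr Y'.gr g) (hfi : Function.Injective f)
    (hgi : Function.Injective g) : Function.Injective (segMap ψ f hf g hg) := fun a b hab =>
  segVal_injective ψ X Y (TensorProduct.map_injective_of_flat_flat (f.restrictScalars k) (g.restrictScalars k) hfi hgi
    (congrArg (segVal ψ X' Y') hab :))

theorem segMap_surjective {f : X.carrier →ₗ[R] X'.carrier} (hf : GrLC.IsGrHom X.gr X'.gr f)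
    {g : Y.carrier →ₗ[S] Y'.carrier} (hg : GrLC.IsGrHom Y.gr Y'.gr g) (hfs : Function.Surjective f)
    (hgs : Function.Surjective g) : Function.Surjective (segMap ψ f hf g hg) := fun z => by
  obtain ⟨w, hw⟩ := TensorProduct.map_surjective (g := f.restrictScalars k) (g' := g.restrictScalars k) hfs hgs
    (segVal ψ X' Y' z)
  refine ⟨segMk ψ X Y (H4Segre.diag 𝒜 X.gr ℬ Y.gr w) (H4Segre.diag_mem_iSup 𝒜 X.gr ℬ Y.gr w), segVal_injective ψ X' Y' ?_⟩
  show tmap f g (H4Segre.diag 𝒜 X.gr ℬ Y.gr w) = _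
  rw [← diag_tmap hf hg, show tmap f g w = segVal ψ X' Y' z from hw]
  exact H4Segre.diag_of_mem_iSup 𝒜 X'.gr ℬ Y'.gr (segVal_mem ψ X' Y' z)

/-- Exactness in the first factor. -/
theorem grSES_left {A B C : GrLC.GMod.{u} (addGr 𝒜)} {φ : A.carrier →ₗ[R] B.carrier}
    {χ : B.carrier →ₗ[R] C.carrier} (h : GrSES (addGr 𝒜) A B C φ χ) (Y : GrLC.GMod.{u} (addGr ℬ)) :
    GrSES (addGr 𝒯) (Seg ψ A Y) (Seg ψ B Y) (Seg ψ C Y)
      (segMap ψ φ h.gf LinearMap.id H4Gr.isGrHom_id) (segMap ψ χ h.gg LinearMap.id H4Gr.isGrHom_id) := by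
  refine { gf := isGrHom_segMap ψ _ _ _ _, gg := isGrHom_segMap ψ _ _ _ _,
           inj := segMap_injective ψ _ _ h.inj Function.injective_id,
           surj := segMap_surjective ψ _ _ h.surj Function.surjective_id, exact := fun z => ?_ }
  have hex : Function.Exact ((φ.restrictScalars k).rTensor Y.carrier) ((χ.restrictScalars k).rTensor Y.carrier) :=
    rTensor_exact Y.carrier h.exact h.surj
  constructor
  · intro hz
    obtain ⟨w, hw⟩ := (hex (segVal ψ B Y z)).1 (congrArg (segVal ψ C Y) hz :)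
    refine ⟨segMk ψ A Y (H4Segre.diag 𝒜 A.gr ℬ Y.gr w) (H4Segre.diag_mem_iSup 𝒜 A.gr ℬ Y.gr w), segVal_injective ψ B Y ?_⟩
    show tmap φ LinearMap.id (H4Segre.diag 𝒜 A.gr ℬ Y.gr w) = _
    rw [← diag_tmap h.gf H4Gr.isGrHom_id, show tmap φ (LinearMap.id : Y.carrier →ₗ[S] _) w = segVal ψ B Y z from hw]
    exact H4Segre.diag_of_mem_iSup 𝒜 B.gr ℬ Y.gr (segVal_mem ψ B Y z)
  · rintro ⟨w, rfl⟩
    exact segVal_injective ψ C Y ((hex _).2 ⟨_, rfl⟩)

/-- Exactness in the second factor. -/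
theorem grSES_right {A B C : GrLC.GMod.{u} (addGr ℬ)} {φ : A.carrier →ₗ[S] B.carrier}
    {χ : B.carrier →ₗ[S] C.carrier} (h : GrSES (addGr ℬ) A B C φ χ) (X : GrLC.GMod.{u} (addGr 𝒜)) :
    GrSES (addGr 𝒯) (Seg ψ X A) (Seg ψ X B) (Seg ψ X C)
      (segMap ψ LinearMap.id H4Gr.isGrHom_id φ h.gf) (segMap ψ LinearMap.id H4Gr.isGrHom_id χ h.gg) := by
  refine { gf := isGrHom_segMap ψ _ _ _ _, gg := isGrHom_segMap ψ _ _ _ _,
           inj := segMap_injective ψ _ _ Function.injective_id h.inj,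
           surj := segMap_surjective ψ _ _ Function.surjective_id h.surj, exact := fun z => ?_ }
  have hex : Function.Exact ((φ.restrictScalars k).lTensor X.carrier) ((χ.restrictScalars k).lTensor X.carrier) :=
    lTensor_exact X.carrier h.exact h.surj
  constructor
  · intro hz
    obtain ⟨w, hw⟩ := (hex (segVal ψ X B z)).1 (congrArg (segVal ψ X C) hz :)
    refine ⟨segMk ψ X A (H4Segre.diag 𝒜 X.gr ℬ A.gr w) (H4Segre.diag_mem_iSup 𝒜 X.gr ℬ A.gr w), segVal_injective ψ X B ?_⟩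
    show tmap LinearMap.id φ (H4Segre.diag 𝒜 X.gr ℬ A.gr w) = _
    rw [← diag_tmap H4Gr.isGrHom_id h.gf, show tmap (LinearMap.id : X.carrier →ₗ[R] _) φ w = segVal ψ X B z from hw]
    exact H4Segre.diag_of_mem_iSup 𝒜 X.gr ℬ B.gr (segVal_mem ψ X B z)
  · rintro ⟨w, rfl⟩
    exact segVal_injective ψ X C ((hex _).2 ⟨_, rfl⟩)

end Maps

section Acyclic

variable (aR : Ideal R) (haR : ∀ n : ℤ, 0 < n → ∀ x ∈ 𝒜 n, x ∈ aR) (aS : Ideal S)
  (haS : ∀ n : ℤ, 0 < n → ∀ x ∈ ℬ n, x ∈ aS) (aT : Ideal T)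
  (haT : aT = Ideal.span (⋃ n ∈ Set.Ioi (0 : ℤ), (𝒯 n : Set T)))

include haR haT hS in
theorem map_pow_le_left (N : ℕ) :
    (aT ^ N).map ψ.toRingHom ≤ (aR ^ N).map (Algebra.TensorProduct.includeLeftRingHom : R →+* R ⊗[k] S) := by
  rw [Ideal.map_pow, Ideal.map_pow]
  refine Ideal.pow_right_mono ?_ N
  rw [haT, Ideal.map_span, Ideal.span_le]
  rintro _ ⟨t, ht, rfl⟩
  obtain ⟨n, hn, htn⟩ := Set.mem_iUnion₂.1 ht
  have h : ψ t ∈ GrSeg.segrePiece k 𝒜 ℬ n := (hS.out.2 n) ▸ ⟨t, htn, rfl⟩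
  show ψ t ∈ _
  generalize ψ t = u at h ⊢
  induction h using Submodule.span_induction with
  | mem u hu =>
    obtain ⟨a, ha, b, hb, rfl⟩ := hu
    rw [show a ⊗ₜ[k] b = (a ⊗ₜ[k] (1 : S)) * ((1 : R) ⊗ₜ[k] b) by
      rw [Algebra.TensorProduct.tmul_mul_tmul, mul_one, one_mul]]
    exact Ideal.mul_mem_right _ _ (Ideal.mem_map_of_mem Algebra.TensorProduct.includeLeftRingHom (haR n hn a ha))
  | zero => exact zero_mem _
  | add x y _ _ hx hy => exact add_mem hx hy
  | smul c x _ hx => rw [Algebra.smul_def]; exact Ideal.mul_mem_left _ _ hx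

include haS haT hS in
theorem map_pow_le_right (N : ℕ) :
    (aT ^ N).map ψ.toRingHom ≤
      (aS ^ N).map (Algebra.TensorProduct.includeRight : S →ₐ[k] R ⊗[k] S).toRingHom := by
  rw [Ideal.map_pow, Ideal.map_pow]
  refine Ideal.pow_right_mono ?_ N
  rw [haT, Ideal.map_span, Ideal.span_le]
  rintro _ ⟨t, ht, rfl⟩
  obtain ⟨n, hn, htn⟩ := Set.mem_iUnion₂.1 ht
  have h : ψ t ∈ GrSeg.segrePiece k 𝒜 ℬ n := (hS.out.2 n) ▸ ⟨t, htn, rfl⟩
  show ψ t ∈ _
  generalize ψ t = u at h ⊢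
  induction h using Submodule.span_induction with
  | mem u hu =>
    obtain ⟨a, ha, b, hb, rfl⟩ := hu
    rw [show a ⊗ₜ[k] b = (a ⊗ₜ[k] (1 : S)) * ((1 : R) ⊗ₜ[k] b) by
      rw [Algebra.TensorProduct.tmul_mul_tmul, mul_one, one_mul]]
    exact Ideal.mul_mem_left _ _ (Ideal.mem_map_of_mem (Algebra.TensorProduct.includeRight : S →ₐ[k] R ⊗[k] S).toRingHom (haS n hn b hb))
  | zero => exact zero_mem _
  | add x y _ _ hx hy => exact add_mem hx hy
  | smul c x _ hx => rw [Algebra.smul_def]; exact Ideal.mul_mem_left _ _ hx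

variable {X : GrLC.GMod.{u} (addGr 𝒜)} {Y : GrLC.GMod.{u} (addGr ℬ)}

include haR haS haT hS in
/-- Tensors with a torsion factor are torsion. -/
theorem exists_pow_act_eq_zero {x : X.carrier} {y : Y.carrier}
    (h : x ∈ GrLC.gam aR X.carrier ∨ y ∈ GrLC.gam aS Y.carrier) :
    ∃ N, ∀ t ∈ aT ^ N, GrSeg.act k R S X.carrier Y.carrier (ψ t) (x ⊗ₜ[k] y) = 0 := by
  rcases h with ⟨N, hN⟩ | ⟨N, hN⟩
  all_goals
    refine ⟨N, fun t ht => ?_⟩
    let K : Ideal (R ⊗[k] S) :=
      { carrier := {u | ∀ v : R ⊗[k] S, GrSeg.act k R S X.carrier Y.carrier (v * u) (x ⊗ₜ[k] y) = 0}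
        add_mem' := fun ha hb v => by rw [mul_add, map_add, LinearMap.add_apply, ha v, hb v, add_zero]
        zero_mem' := fun v => by rw [mul_zero, map_zero, LinearMap.zero_apply]
        smul_mem' := fun c u hu v => by rw [smul_eq_mul, ← mul_assoc]; exact hu _ }
    suffices hK : ψ t ∈ K by have := hK 1; rwa [one_mul] at this
  · refine (Ideal.map_le_iff_le_comap.2 fun a ha v => ?_ : (aR ^ N).map _ ≤ K)
      (map_pow_le_left (𝒜 := 𝒜) (ℬ := ℬ) ψ aR haR aT haT N (Ideal.mem_map_of_mem ψ.toRingHom ht))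
    rw [← H4Segre.actHom_apply, map_mul, Module.End.mul_apply, H4Segre.actHom_apply, H4Segre.actHom_apply]
    show GrSeg.act k R S _ _ v (GrSeg.act k R S _ _ (a ⊗ₜ[k] (1 : S)) (x ⊗ₜ[k] y)) = 0
    rw [GrSeg.act_tmul, hN a ha, TensorProduct.zero_tmul, map_zero]
  · refine (Ideal.map_le_iff_le_comap.2 fun b hb v => ?_ : (aS ^ N).map _ ≤ K)
      (map_pow_le_right (𝒜 := 𝒜) (ℬ := ℬ) ψ aS haS aT haT N (Ideal.mem_map_of_mem ψ.toRingHom ht))
    rw [← H4Segre.actHom_apply, map_mul, Module.End.mul_apply, H4Segre.actHom_apply, H4Segre.actHom_apply]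
    show GrSeg.act k R S _ _ v (GrSeg.act k R S _ _ ((1 : R) ⊗ₜ[k] b) (x ⊗ₜ[k] y)) = 0
    rw [GrSeg.act_tmul, hN b hb, TensorProduct.tmul_zero, map_zero]

variable (X Y) in
include haR haS haT hS in
theorem gam_seg_eq_top (h : GrLC.gam aR X.carrier = ⊤ ∨ GrLC.gam aS Y.carrier = ⊤) :
    GrLC.gam aT (Seg ψ X Y).carrier = ⊤ := by
  refine eq_top_iff.2 fun z _ => ?_
  suffices ∀ w : X.carrier ⊗[k] Y.carrier, ∃ N, ∀ t ∈ aT ^ N, GrSeg.act k R S X.carrier Y.carrier (ψ t) w = 0 by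
    obtain ⟨N, hN⟩ := this (segVal ψ X Y z)
    exact ⟨N, fun t ht => segVal_injective ψ X Y ((segVal_smul ψ X Y t z).trans ((hN t ht).trans (map_zero _).symm))⟩
  intro w
  induction w using TensorProduct.induction_on with
  | zero => exact ⟨0, fun t _ => map_zero _⟩
  | tmul x y =>
    exact exists_pow_act_eq_zero ψ aR haR aS haS aT haT
      (h.imp (fun h => by rw [h]; exact Submodule.mem_top) (fun h => by rw [h]; exact Submodule.mem_top))
  | add a b ha hb =>
    obtain ⟨N, hN⟩ := ha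
    obtain ⟨N', hN'⟩ := hb
    refine ⟨N + N', fun t ht => ?_⟩
    rw [map_add, hN t (Ideal.pow_le_pow_right (Nat.le_add_right N N') ht),
      hN' t (Ideal.pow_le_pow_right (Nat.le_add_left N' N) ht), add_zero]

variable [IsNoetherianRing T]

/-- Local cohomology vanishes when an element of the ideal acts bijectively. -/
theorem subsingleton_H_of_bijective {I : Ideal T} {t : T} (ht : t ∈ I) (M : Type u) [AddCommGroup M] [Module T M]
    (hbij : Function.Bijective fun x : M => t • x) (q : ℕ) : Subsingleton (LocCoh.H I q M) := by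
  let μ : M ≃ₗ[T] M := LinearEquiv.ofBijective (t • LinearMap.id) hbij
  have hbijH : Function.Injective (fun z : LocCoh.H I q M => t • z) := by
    have := ((localCohomology I q).mapIso μ.toModuleIso).toLinearEquiv.injective
    intro a b hab
    refine this ?_
    have h1 : ∀ z, ((localCohomology I q).mapIso μ.toModuleIso).toLinearEquiv z = t • z := fun z =>
      H4LC.Hmap_smul_id I M t q z
    rw [h1, h1]
    exact hab
  refine subsingleton_of_forall_eq 0 fun z => ?_
  obtain ⟨n, hn⟩ := H4LC.isPowerTorsion_H I q M z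
  have h := hn (t ^ n) (Ideal.pow_mem_pow ht n)
  induction n generalizing z with
  | zero => simpa using h
  | succ m ih =>
    rw [pow_succ', mul_smul] at h
    exact ih z (fun r hr => hbijH (by
      show t • r • z = t • (0 : LocCoh.H I q M)
      rw [smul_zero, ← mul_smul]
      exact hn _ (by rw [pow_succ']; exact Ideal.mul_mem_mul ht hr))) (hbijH (h.trans (smul_zero t).symm))

variable (X Y) in
include hS in
theorem bijective_smul_seg {t : T} {a : R} {b : S} (ht : ψ t = a ⊗ₜ[k] b) {c : ℤ} (ha : a ∈ 𝒜 c) (hb : b ∈ ℬ c)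
    (hXa : Function.Bijective fun x : X.carrier => a • x) (hYb : Function.Bijective fun y : Y.carrier => b • y) :
    Function.Bijective fun z : (Seg ψ X Y).carrier => t • z := by
  let A : X.carrier ≃ₗ[k] X.carrier := LinearEquiv.ofBijective (DistribSMul.toLinearMap k X.carrier a) hXa
  let B : Y.carrier ≃ₗ[k] Y.carrier := LinearEquiv.ofBijective (DistribSMul.toLinearMap k Y.carrier b) hYb
  have hact : ∀ z, GrSeg.act k R S X.carrier Y.carrier (a ⊗ₜ[k] b) z = TensorProduct.congr A B z := fun z => by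
    induction z using TensorProduct.induction_on with
    | zero => simp
    | add x y hx hy => simp only [map_add, hx, hy]
    | tmul x y => simp [GrSeg.act_tmul, A, B]
  have hval : ∀ z, segVal ψ X Y (t • z) = TensorProduct.congr A B (segVal ψ X Y z) := fun z => by
    rw [segVal_smul, ht, hact]
  refine ⟨fun z w hzw => segVal_injective ψ X Y ((TensorProduct.congr A B).injective
    (by rw [← hval, ← hval]; exact congrArg (segVal ψ X Y) hzw)), fun z => ?_⟩
  let w := (TensorProduct.congr A B).symm (segVal ψ X Y z)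
  have hw : GrSeg.act k R S X.carrier Y.carrier (a ⊗ₜ[k] b) (H4Segre.diag 𝒜 X.gr ℬ Y.gr w) = segVal ψ X Y z := by
    rw [← H4Segre.diag_act' 𝒜 X.gr ℬ Y.gr ha hb w, hact, LinearEquiv.apply_symm_apply]
    exact H4Segre.diag_of_mem_iSup 𝒜 X.gr ℬ Y.gr (segVal_mem ψ X Y z)
  exact ⟨segMk ψ X Y (H4Segre.diag 𝒜 X.gr ℬ Y.gr w) (H4Segre.diag_mem_iSup 𝒜 X.gr ℬ Y.gr w), segVal_injective ψ X Y ((segVal_smul ψ X Y t _).trans (ht.symm ▸ hw))⟩

/-- Common-degree parameters for the two factors. -/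
structure Params (aR : Ideal R) (aS : Ideal S) where
  r : ℕ
  s : ℕ
  f : Fin r → R
  g : Fin s → S
  deg : ℤ
  pos : 0 < deg
  hf : ∀ i, f i ∈ 𝒜 deg
  hg : ∀ j, g j ∈ ℬ deg
  radR : aR ≤ (Ideal.span (Set.range f)).radical
  radS : aS ≤ (Ideal.span (Set.range g)).radical

omit [IsNoetherianRing T] in
include hS haT in
theorem Params.exists_mem (P : Params (𝒜 := 𝒜) (ℬ := ℬ) aR aS) (i : Fin P.r) (j : Fin P.s) :
    ∃ t, t ∈ aT ∧ t ∈ 𝒯 P.deg ∧ ψ t = P.f i ⊗ₜ[k] P.g j := by
  obtain ⟨t, ht, hψt⟩ := (hS.out.2 P.deg).ge (Submodule.subset_span ⟨P.f i, P.hf i, P.g j, P.hg j, rfl⟩)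
  exact ⟨t, haT ▸ Ideal.subset_span (Set.mem_iUnion₂.2 ⟨P.deg, P.pos, ht⟩), ht, hψt⟩

variable (X Y) in
include haR haS haT hS in
/-- Segre products of *injective modules are acyclic. -/
theorem acyclic_seg [IsNoetherianRing R] [IsNoetherianRing S] (P : Params (𝒜 := 𝒜) (ℬ := ℬ) aR aS)
    (hX : GrLC.IsStarInj (addGr 𝒜) X.gr) (hY : GrLC.IsStarInj (addGr ℬ) Y.gr) (i : ℕ) :
    Subsingleton (LocCoh.H aT (i + 1) (Seg ψ X Y).carrier) := by
  have htors : ∀ (A : GrLC.GMod.{u} (addGr 𝒜)) (B : GrLC.GMod.{u} (addGr ℬ)),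
      GrLC.gam aR A.carrier = ⊤ ∨ GrLC.gam aS B.carrier = ⊤ →
        ∀ i, Subsingleton (LocCoh.H aT (i + 1) (Seg ψ A B).carrier) := fun A B h i =>
    H4LC.subsingleton_H_of_isPowerTorsion aT (i + 1) _
      (H4Gr.gam_iff_isPowerTorsion.2 (gam_seg_eq_top ψ aR haR aS haS aT haT A B h)) i.succ_pos
  let Φ : GrLC.GMod.{u} (addGr 𝒜) → Prop := fun A => ∀ i, Subsingleton (LocCoh.H aT (i + 1) (Seg ψ A Y).carrier)
  refine (starInj_induction (R := R) (I := X.carrier) aR P.f (fun _ => P.deg) (fun l => P.hf l) P.radR Φ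
    (fun A B C φ χ h hA hC i => ?_) (fun A hA => htors A Y (.inl hA)) (fun A l hl => ?_) hX) i
  · have h' := grSES_left ψ h Y
    exact H4LC.subsingleton_H_mid aT h'.inj h'.surj h'.exact (i + 1) (hA i) (hC i)
  · let Ψ : GrLC.GMod.{u} (addGr ℬ) → Prop := fun B => ∀ i, Subsingleton (LocCoh.H aT (i + 1) (Seg ψ A B).carrier)
    refine starInj_induction (R := S) (I := Y.carrier) aS P.g (fun _ => P.deg) (fun l => P.hg l) P.radS Ψ
      (fun B B' B'' φ χ h hB hB'' i => ?_) (fun B hB => htors A B (.inr hB)) (fun B j hj i => ?_) hY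
    · have h' := grSES_right ψ h A
      exact H4LC.subsingleton_H_mid aT h'.inj h'.surj h'.exact (i + 1) (hB i) (hB'' i)
    · obtain ⟨t, ht, -, hψt⟩ := P.exists_mem ψ aR aS aT haT l j
      exact subsingleton_H_of_bijective ht _ (bijective_smul_seg ψ A B hψt (P.hf l) (P.hg j) hl hj) (i + 1)

end Acyclic

end Groth.Agent.H4KS
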