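import Groth.Agent.H4KS.Crit
import Groth.Agent.H4KS.Self

/-!
# Cohen–Macaulay Segre products
-/

set_option autoImplicit false
set_option linter.unusedSectionVars false
set_option linter.style.haveILetI false

universe u

open DirectSum
open scoped TensorProduct

namespace Groth.Agent.H4KS

variable {k : Type u} [Field k] {R : Type u} [CommRing R] [Algebra k R] {𝒜 : ℤ → Submodule k R} [GradedAlgebra 𝒜]
  {S : Type u} [CommRing S] [Algebra k S] {ℬ : ℤ → Submodule k S} [GradedAlgebra ℬ]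
  {T : Type u} [CommRing T] [Algebra k T] {𝒯 : ℤ → Submodule k T} [GradedAlgebra 𝒯]
  {ψ : T →ₐ[k] R ⊗[k] S}
variable {M : Type u} [AddCommGroup M] [Module R M] [Module k M] [IsScalarTower k R M] {ℳ : ℤ → AddSubgroup M}
  [Decomposition ℳ] [SetLike.GradedSMul 𝒜 ℳ]
  {N : Type u} [AddCommGroup N] [Module S N] [Module k N] [IsScalarTower k S N] {𝒩 : ℤ → AddSubgroup N}
  [Decomposition 𝒩] [SetLike.GradedSMul ℬ 𝒩]
  {P : Type u} [AddCommGroup P] [Module T P] [Module k P] [IsScalarTower k T P] {𝒬 : ℤ → AddSubgroup P}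
  [Decomposition 𝒬] {φ : P →ₗ[k] M ⊗[k] N}

theorem gradedSMul_segre (hT : GrSeg.IsSegreRing 𝒜 ℬ 𝒯 ψ) (hP : GrSeg.IsSegreMod ψ ℳ 𝒩 𝒬 φ) :
    SetLike.GradedSMul 𝒯 𝒬 := by
  refine ⟨fun {i n t p} ht hp => ?_⟩
  have hz : φ p ∈ GrSeg.segrePiece k ℳ 𝒩 n := (hP.image_piece n).subset ⟨p, hp, rfl⟩
  have hu : ψ t ∈ GrSeg.segrePiece k 𝒜 ℬ i := (hT.2 i) ▸ ⟨t, ht, rfl⟩
  have h : φ (t • p) ∈ GrSeg.segrePiece k ℳ 𝒩 (i + n) := by
    rw [hP.map_smul]
    generalize ψ t = u at hu ⊢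
    generalize φ p = z at hz ⊢
    induction hu using Submodule.span_induction with
    | mem u hu =>
      obtain ⟨a, ha, b, hb, rfl⟩ := hu
      induction hz using Submodule.span_induction with
      | mem w hw =>
        obtain ⟨x, hx, y, hy, rfl⟩ := hw
        rw [GrSeg.act_tmul]
        exact Submodule.subset_span ⟨_, SetLike.GradedSMul.smul_mem (A := 𝒜) (B := ℳ) ha hx, _,
          SetLike.GradedSMul.smul_mem (A := ℬ) (B := 𝒩) hb hy, rfl⟩
      | zero => rw [map_zero]; exact zero_mem _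
      | add x y _ _ hx hy => rw [map_add]; exact add_mem hx hy
      | smul c x _ hx => rw [map_smul]; exact Submodule.smul_mem _ c hx
    | zero => rw [map_zero, LinearMap.zero_apply]; exact zero_mem _
    | add x y _ _ hx hy => rw [map_add, LinearMap.add_apply]; exact add_mem hx hy
    | smul c x _ hx => rw [map_smul, LinearMap.smul_apply]; exact Submodule.smul_mem _ c hx
  obtain ⟨q, hq, hqt⟩ := (hP.image_piece (i + n)).superset h
  exact hP.injective hqt ▸ hq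

theorem negT (hT : GrSeg.IsSegreRing 𝒜 ℬ 𝒯 ψ) (hposR : ∀ n : ℤ, n < 0 → 𝒜 n = ⊥) (n : ℤ) (hn : n < 0) : 𝒯 n = ⊥ := by
  refine Submodule.map_injective_of_injective (f := ψ.toLinearMap) hT.1 ?_
  rw [hT.2 n, Submodule.map_bot, GrSeg.segrePiece, Submodule.span_eq_bot]
  rintro _ ⟨x, hx, y, -, rfl⟩
  rw [hposR n hn, Submodule.mem_bot] at hx
  rw [hx, TensorProduct.zero_tmul]

theorem exists_ne_zero_pieces (hP : GrSeg.IsSegreMod ψ ℳ 𝒩 𝒬 φ) [Nontrivial P] :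
    ∃ i, ∃ m ∈ ℳ i, ∃ n ∈ 𝒩 i, m ≠ 0 ∧ n ≠ 0 := by
  by_contra hc
  obtain ⟨x, hx⟩ := exists_ne (0 : P)
  refine hx ?_
  induction x using H4Gr.induction 𝒬 with
  | zero => rfl
  | hom i p hp =>
    refine hP.injective ?_
    have h0 : GrSeg.segrePiece k ℳ 𝒩 i = ⊥ := by
      rw [GrSeg.segrePiece, Submodule.span_eq_bot]
      rintro _ ⟨m, hm, n, hn, rfl⟩
      by_cases h1 : m = 0
      · rw [h1, TensorProduct.zero_tmul]
      by_cases h2 : n = 0
      · rw [h2, TensorProduct.tmul_zero]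
      exact absurd ⟨i, m, hm, n, hn, h1, h2⟩ hc
    rw [map_zero]
    have h := (hP.image_piece i).subset ⟨p, hp, rfl⟩
    rw [SetLike.mem_coe, h0, Submodule.mem_bot] at h
    exact h
  | add a b ha hb =>
    rcases eq_or_ne a 0 with rfl | ha'
    · rw [zero_add] at hx ⊢; exact hb hx
    · exact absurd (ha ha') ha'

variable (hposR : ∀ n : ℤ, n < 0 → 𝒜 n = ⊥) (h0R : 𝒜 0 = Submodule.span k {(1 : R)})
  (hposS : ∀ n : ℤ, n < 0 → ℬ n = ⊥) (h0S : ℬ 0 = Submodule.span k {(1 : S)})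
  [Algebra.FiniteType k R] [Algebra.FiniteType k S] [Module.Finite R M] [Module.Finite S N]
  (mR : HomogeneousIdeal 𝒜) (hmR : mR.toIdeal = Ideal.span (⋃ n ∈ Set.Ioi (0 : ℤ), (𝒜 n : Set R)))
  (mS : HomogeneousIdeal ℬ) (hmS : mS.toIdeal = Ideal.span (⋃ n ∈ Set.Ioi (0 : ℤ), (ℬ n : Set S)))

include hposR h0R hposS h0S hmR hmS in
/-- Vanishing below the dimension in terms of the factors, both of dimension at least two. -/
theorem segre_CM_iff_two_le [Nontrivial P] (hT : GrSeg.IsSegreRing 𝒜 ℬ 𝒯 ψ) (hP : GrSeg.IsSegreMod ψ ℳ 𝒩 𝒬 φ)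
    (EM : GrLC.StarInjRes 𝒜 ℳ) (EN : GrLC.StarInjRes ℬ 𝒩) {r s : ℕ} (h2r : 2 ≤ r) (h2s : 2 ≤ s)
    (hdM : Module.supportDim R M = r) (hdN : Module.supportDim S N = s)
    (hMcm : ∀ (q : Ideal R) [q.IsPrime], Subsingleton (LocalizedModule q.primeCompl M) ∨
      LocCoh.IsCohenMacaulayModule (Localization.AtPrime q) (LocalizedModule q.primeCompl M))
    (hNcm : ∀ (q : Ideal S) [q.IsPrime], Subsingleton (LocalizedModule q.primeCompl N) ∨
      LocCoh.IsCohenMacaulayModule (Localization.AtPrime q) (LocalizedModule q.primeCompl N)) :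
    (∀ (q : Ideal T) [q.IsPrime], Subsingleton (LocalizedModule q.primeCompl P) ∨
      LocCoh.IsCohenMacaulayModule (Localization.AtPrime q) (LocalizedModule q.primeCompl P)) ↔
      (∀ d : ℤ, ℳ d = ⊥ ∨ EN.Hcomp mS s d = ⊥) ∧ (∀ d : ℤ, EM.Hcomp mR r d = ⊥ ∨ 𝒩 d = ⊥) := by
  obtain ⟨i₀, m, hm, n, hn, hm0, hn0⟩ := exists_ne_zero_pieces hP
  haveI : Nontrivial R := nontrivial_of_ne 1 0 fun h => hm0 (by rw [← one_smul R m, h, zero_smul])
  haveI : Nontrivial S := nontrivial_of_ne 1 0 fun h => hn0 (by rw [← one_smul S n, h, zero_smul])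
  haveI := nontrivial_T hT
  haveI := isNoetherianRing_T hT
  haveI : IsNoetherianRing (R ⊗[k] S) := by
    haveI : Algebra.FiniteType k (R ⊗[k] S) :=
      Algebra.FiniteType.trans (A := R ⊗[k] S) (S := R) inferInstance inferInstance
    exact Algebra.FiniteType.isNoetherianRing k _
  haveI := gradedSMul_segre hT hP
  haveI : Module.Finite T P := H4Segre.moduleFinite_segre 𝒜 ℳ ℬ 𝒩 hT.2 hP
  have h0T := deg0_segre hT h0R h0S
  haveI := finiteType_of_noetherian (negT hT hposR) h0T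
  have hdP : Module.supportDim T P = ((r + s - 1 : ℕ) : WithBot ℕ∞) :=
    H4Segre.supportDim_segre 𝒜 ℳ ℬ 𝒩 hposR h0R hposS h0S hT.1 hT.2 hP r s hdM hdN (by omega) (by omega) hm hn
      (H4Segre.ringKrullDim_annElt_of_isCM 𝒜 ℳ hposR h0R hdM hMcm hm hm0)
      (H4Segre.ringKrullDim_annElt_of_isCM ℬ 𝒩 hposS h0S hdN hNcm hn hn0)
  obtain ⟨EP⟩ := nonempty_starInjRes 𝒯 𝒬
  let mT : HomogeneousIdeal 𝒯 := ⟨H4Segre.irr 𝒯, H4Segre.isHomogeneous_irr 𝒯⟩
  rw [isCM_iff_Hcomp (negT hT hposR) h0T mT rfl hdP EP]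
  have hMv : ∀ i g, i ≠ r → EM.Hcomp mR i g = ⊥ := fun i g hi => Hcomp_eq_bot_of_isCM hposR h0R mR hmR hdM hMcm EM hi g
  have hNv : ∀ i g, i ≠ s → EN.Hcomp mS i g = ⊥ := fun i g hi => Hcomp_eq_bot_of_isCM hposS h0S mS hmS hdN hNcm EN hi g
  have hM0 : ∀ i g, i ≠ r → Module.finrank (GrLC.deg0 𝒜) (EM.Hcomp mR i g) = 0 := fun i g hi =>
    (finrank_Hcomp_eq_zero_iff hposR h0R mR hmR EM i g).2 (hMv i g hi)
  have hN0 : ∀ i g, i ≠ s → Module.finrank (GrLC.deg0 ℬ) (EN.Hcomp mS i g) = 0 := fun i g hi =>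
    (finrank_Hcomp_eq_zero_iff hposS h0S mS hmS EN i g).2 (hNv i g hi)
  have hform : ∀ i g, i < r + s - 1 → Module.finrank (GrLC.deg0 𝒯) (EP.Hcomp mT i g) =
      Module.finrank (GrLC.deg0 𝒜) (GrLC.comp 𝒜 ℳ g) * Module.finrank (GrLC.deg0 ℬ) (EN.Hcomp mS i g) +
        Module.finrank (GrLC.deg0 𝒜) (EM.Hcomp mR i g) * Module.finrank (GrLC.deg0 ℬ) (GrLC.comp ℬ 𝒩 g) := by
    intro i g hi
    rw [kunneth_formula hposR h0R hposS h0S hT mR hmR mS hmS mT rfl EM EN hP EP g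
      (fun q hq => hMv q g (by omega)) (fun q hq => hNv q g (by omega)) i, add_eq_left]
    refine Finset.sum_eq_zero fun j _ => ?_
    by_cases hj : j = r
    · rw [hN0 _ g (by omega), mul_zero]
    · rw [hM0 j g hj, zero_mul]
  constructor
  · intro h
    refine ⟨fun d => ?_, fun d => ?_⟩
    · have h1 := hform s d (by omega)
      rw [(finrank_Hcomp_eq_zero_iff (negT hT hposR) h0T mT rfl EP s d).2 (h s (by omega) d), eq_comm,
        Nat.add_eq_zero_iff, mul_eq_zero, finrank_comp_eq_zero_iff h0R, finrank_Hcomp_eq_zero_iff hposS h0S mS hmS] at h1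
      exact h1.1
    · have h1 := hform r d (by omega)
      rw [(finrank_Hcomp_eq_zero_iff (negT hT hposR) h0T mT rfl EP r d).2 (h r (by omega) d), eq_comm,
        Nat.add_eq_zero_iff, mul_eq_zero, mul_eq_zero (a := Module.finrank _ (EM.Hcomp mR r d)),
        finrank_comp_eq_zero_iff (ℳ := 𝒩) h0S, finrank_Hcomp_eq_zero_iff hposR h0R mR hmR] at h1
      exact h1.2
  · rintro ⟨ha, hb⟩ i hi g
    refine (finrank_Hcomp_eq_zero_iff (negT hT hposR) h0T mT rfl EP i g).1 ?_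
    rw [hform i g hi, Nat.add_eq_zero_iff, mul_eq_zero, mul_eq_zero]
    refine ⟨?_, ?_⟩
    · by_cases hs : i = s
      · subst hs
        exact (ha g).imp (finrank_comp_eq_zero_iff h0R g).2 (finrank_Hcomp_eq_zero_iff hposS h0S mS hmS EN _ g).2
      · exact Or.inr (hN0 i g hs)
    · by_cases hr : i = r
      · subst hr
        exact (hb g).imp (finrank_Hcomp_eq_zero_iff hposR h0R mR hmR EM _ g).2 (finrank_comp_eq_zero_iff h0S g).2
      · exact Or.inl (hM0 i g hr)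

include hposR h0R hposS h0S hmR in
/-- The case of a one-dimensional factor. -/
theorem segre_CM_dim_one [Nontrivial P] (hT : GrSeg.IsSegreRing 𝒜 ℬ 𝒯 ψ) (hP : GrSeg.IsSegreMod ψ ℳ 𝒩 𝒬 φ)
    (EM : GrLC.StarInjRes 𝒜 ℳ) {s : ℕ} (h1s : 1 ≤ s)
    (hdM : Module.supportDim R M = 1) (hdN : Module.supportDim S N = s)
    (hMcm : ∀ (q : Ideal R) [q.IsPrime], Subsingleton (LocalizedModule q.primeCompl M) ∨
      LocCoh.IsCohenMacaulayModule (Localization.AtPrime q) (LocalizedModule q.primeCompl M))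
    (hNcm : ∀ (q : Ideal S) [q.IsPrime], Subsingleton (LocalizedModule q.primeCompl N) ∨
      LocCoh.IsCohenMacaulayModule (Localization.AtPrime q) (LocalizedModule q.primeCompl N)) :
    (2 ≤ s → ((∀ (q : Ideal T) [q.IsPrime], Subsingleton (LocalizedModule q.primeCompl P) ∨
      LocCoh.IsCohenMacaulayModule (Localization.AtPrime q) (LocalizedModule q.primeCompl P)) ↔
      ∀ d : ℤ, EM.Hcomp mR 1 d = ⊥ ∨ 𝒩 d = ⊥)) ∧
    (s = 1 → ∀ (q : Ideal T) [q.IsPrime], Subsingleton (LocalizedModule q.primeCompl P) ∨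
      LocCoh.IsCohenMacaulayModule (Localization.AtPrime q) (LocalizedModule q.primeCompl P)) := by
  obtain ⟨i₀, m, hm, n, hn, hm0, hn0⟩ := exists_ne_zero_pieces hP
  haveI : Nontrivial R := nontrivial_of_ne 1 0 fun h => hm0 (by rw [← one_smul R m, h, zero_smul])
  haveI : Nontrivial S := nontrivial_of_ne 1 0 fun h => hn0 (by rw [← one_smul S n, h, zero_smul])
  haveI := nontrivial_T hT
  haveI := isNoetherianRing_T hT
  haveI : IsNoetherianRing (R ⊗[k] S) := by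
    haveI : Algebra.FiniteType k (R ⊗[k] S) :=
      Algebra.FiniteType.trans (A := R ⊗[k] S) (S := R) inferInstance inferInstance
    exact Algebra.FiniteType.isNoetherianRing k _
  haveI : IsNoetherianRing S := Algebra.FiniteType.isNoetherianRing k S
  haveI := gradedSMul_segre hT hP
  haveI : Module.Finite T P := H4Segre.moduleFinite_segre 𝒜 ℳ ℬ 𝒩 hT.2 hP
  have h0T := deg0_segre hT h0R h0S
  haveI := finiteType_of_noetherian (negT hT hposR) h0T
  have hdM' : Module.supportDim R M = ((1 : ℕ) : WithBot ℕ∞) := by rw [hdM]; rfl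
  have hdP : Module.supportDim T P = ((s : ℕ) : WithBot ℕ∞) := by
    rw [H4Segre.supportDim_segre 𝒜 ℳ ℬ 𝒩 hposR h0R hposS h0S hT.1 hT.2 hP 1 s hdM' hdN le_rfl h1s hm hn
      (H4Segre.ringKrullDim_annElt_of_isCM 𝒜 ℳ hposR h0R hdM' hMcm hm hm0)
      (H4Segre.ringKrullDim_annElt_of_isCM ℬ 𝒩 hposS h0S hdN hNcm hn hn0), Nat.add_sub_cancel_left]
  obtain ⟨EP⟩ := nonempty_starInjRes 𝒯 𝒬
  obtain ⟨EN⟩ := nonempty_starInjRes ℬ 𝒩
  let mT : HomogeneousIdeal 𝒯 := ⟨H4Segre.irr 𝒯, H4Segre.isHomogeneous_irr 𝒯⟩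
  let mS : HomogeneousIdeal ℬ := ⟨H4Segre.irr ℬ, H4Segre.isHomogeneous_irr ℬ⟩
  rw [isCM_iff_Hcomp (negT hT hposR) h0T mT rfl hdP EP]
  have hMv : ∀ i g, i ≠ 1 → EM.Hcomp mR i g = ⊥ := fun i g hi => Hcomp_eq_bot_of_isCM hposR h0R mR hmR hdM' hMcm EM hi g
  have hNv : ∀ i g, i ≠ s → EN.Hcomp mS i g = ⊥ := fun i g hi => Hcomp_eq_bot_of_isCM hposS h0S mS rfl hdN hNcm EN hi g
  have hk := fun g => kunneth_presented hposR h0R hposS h0S hT mR hmR mS rfl mT rfl EM EN hP EP g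
    (hMv 0 g (by omega)) (hNv 0 g (by omega))
  have hz := finrank_Hcomp_eq_zero_iff (negT hT hposR) h0T mT rfl EP
  have hzN := finrank_Hcomp_eq_zero_iff hposS h0S mS rfl EN
  have hrest : ∀ g, ∀ i < s, i ≠ 1 → EP.Hcomp mT i g = ⊥ := by
    intro g i hi hi1
    obtain ⟨cA, cB, -, -, hA, hB, h0, -, h2⟩ := hk g
    refine (hz i g).1 ?_
    rcases i with _ | _ | q
    · exact h0
    · exact absurd rfl hi1
    · rw [h2 q]
      refine Finset.sum_eq_zero fun p hp => ?_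
      rcases p with _ | p
      · rw [Nat.sub_zero, hB, (hzN _ g).2 (hNv _ g (by omega)), mul_zero]
      · rw [hA, (finrank_Hcomp_eq_zero_iff hposR h0R mR hmR EM _ g).2 (hMv _ g (by omega)), zero_mul]
  refine ⟨fun h2s => ?_, fun hs1 i hi g => hrest g i hi (by omega)⟩
  have key : ∀ g, EP.Hcomp mT 1 g = ⊥ ↔ (EM.Hcomp mR 1 g = ⊥ ∨ 𝒩 g = ⊥) := by
    intro g
    obtain ⟨cA, cB, hA0, hB0, -, -, -, h1, -⟩ := hk g
    rw [(hzN 1 g).2 (hNv 1 g (by omega)), add_zero] at hB0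
    rw [hA0, hB0, add_mul] at h1
    have h3 : Module.finrank (GrLC.deg0 𝒯) (EP.Hcomp mT 1 g) =
        Module.finrank (GrLC.deg0 𝒜) (EM.Hcomp mR 1 g) * Module.finrank (GrLC.deg0 ℬ) (GrLC.comp ℬ 𝒩 g) := by
      omega
    rw [← hz, h3, mul_eq_zero, finrank_Hcomp_eq_zero_iff hposR h0R mR hmR, finrank_comp_eq_zero_iff h0S]
  refine ⟨fun h g => (key g).1 (h 1 (by omega) g), fun h i hi g => ?_⟩
  by_cases h1 : i = 1
  · subst h1; exact (key g).2 (h g)
  · exact hrest g i hi h1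

end Groth.Agent.H4KS
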