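import Groth.Agent.H4KS.SegDual
import Groth.Agent.H4GD.Canon
import Groth.Agent.H4KS.SegreCM

/-!
# The canonical module of a Segre product
-/

set_option autoImplicit false
set_option linter.unusedSectionVars false
set_option linter.style.haveILetI false

universe u

open DirectSum
open scoped TensorProduct

namespace Groth.Agent.H4KS

variable {k : Type u} [Field k]

section Piece

variable {R : Type u} [CommRing R] [Algebra k R] [IsNoetherianRing R] {𝒜 : ℤ → Submodule k R} [GradedAlgebra 𝒜]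
  {M : Type u} [AddCommGroup M] [Module R M] {ℳ : ℤ → AddSubgroup M} [Decomposition ℳ]
  [SetLike.GradedSMul (addGr 𝒜) ℳ] (a : HomogeneousIdeal (addGr 𝒜)) (E : GrLC.StarInjRes (addGr 𝒜) ℳ)
  [Nontrivial R] (h0R : 𝒜 0 = Submodule.span k {(1 : R)}) (n : ℕ) (g : ℤ)

include h0R in
theorem finrank_pieceK_hMod :
    Module.finrank k (pieceK (k := k) g (hMod a E n)) = Module.finrank (GrLC.deg0 (addGr 𝒜)) (E.Hcomp a n g) ∧
      (Module.Finite (GrLC.deg0 (addGr 𝒜)) (E.Hcomp a n g) → FiniteDimensional k (pieceK (k := k) g (hMod a E n))) :=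
  finrank_transfer _ (bijective_deg0 h0R)
    ({ toFun := fun x => ⟨x.1, x.2⟩, invFun := fun x => ⟨x.1, x.2⟩, map_add' := fun _ _ => rfl } :
      pieceK (k := k) g (hMod a E n) ≃+ E.Hcomp a n g) fun _ _ => Subtype.ext rfl

include h0R in
theorem finite_pieceK_hMod [Module.Finite R M] (hpos : ∀ i : ℤ, i < 0 → 𝒜 i = ⊥)
    (ha : a.toIdeal = Ideal.span (⋃ i ∈ Set.Ioi (0 : ℤ), (𝒜 i : Set R))) :
    FiniteDimensional k (pieceK (k := k) g (hMod a E n)) :=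
  (finrank_pieceK_hMod a E h0R n g).2 (finite_Hcomp a E g hpos ha n)

end Piece

variable {R : Type u} [CommRing R] [Algebra k R] {𝒜 : ℤ → Submodule k R} [GradedAlgebra 𝒜]
  {S : Type u} [CommRing S] [Algebra k S] {ℬ : ℤ → Submodule k S} [GradedAlgebra ℬ]
  {T : Type u} [CommRing T] [Algebra k T] {𝒯 : ℤ → Submodule k T} [GradedAlgebra 𝒯]
  {ψ : T →ₐ[k] R ⊗[k] S}

/-- The resolution of an algebra over the pieces as additive subgroups. -/
noncomputable abbrev addRes (I : GrLC.StarInjRes 𝒜 𝒜) : GrLC.StarInjRes (addGr 𝒜) (addGr 𝒜) :=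
  resA 𝒜 (addGr 𝒜) (selfRes I)

section Transfer

variable {C : Type u} [AddCommGroup C] [Module R C] {𝒞 : ℤ → AddSubgroup C} [Decomposition 𝒞]
  [SetLike.GradedSMul 𝒜 𝒞] {E : Type u} [AddCommGroup E] [Module R E] {𝓔 : ℤ → AddSubgroup E}
  [Decomposition 𝓔] [SetLike.GradedSMul 𝒜 𝓔] (m : HomogeneousIdeal 𝒜) (n : ℕ) (I : GrLC.StarInjRes 𝒜 𝒜)

theorem isStarInjHull_addGr {e : (R ⧸ m.toIdeal) →ₗ[R] E} (he : GrLC.IsStarInjHull 𝒜 (GrLC.quotGr 𝒜 m) 𝓔 e) :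
    GrLC.IsStarInjHull (addGr 𝒜) (GrLC.quotGr (addGr 𝒜) (idealA 𝒜 m)) 𝓔 e :=
  ⟨⟨he.injective, fun i x hx => he.grHom i x hx, he.essential⟩, (starInj_iff 𝒜 𝓔).2 he.starInj⟩

theorem isStarCanonical_addGr_iff :
    GrLC.IsStarCanonical (addGr 𝒜) 𝒞 𝓔 (idealA 𝒜 m) n (addRes I) ↔ GrLC.IsStarCanonical 𝒜 𝒞 𝓔 m n I :=
  ⟨fun ⟨h, φ, hφ⟩ => ⟨h, φ, fun d x hx => hφ d x hx⟩, fun ⟨h, φ, hφ⟩ => ⟨h, φ, fun d x hx => hφ d x hx⟩⟩

end Transfer

variable [Algebra.FiniteType k R] [Algebra.FiniteType k S] [Nontrivial R] [Nontrivial S]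
  (hposR : ∀ n : ℤ, n < 0 → 𝒜 n = ⊥) (h0R : 𝒜 0 = Submodule.span k {(1 : R)})
  (hposS : ∀ n : ℤ, n < 0 → ℬ n = ⊥) (h0S : ℬ 0 = Submodule.span k {(1 : S)})
  (hT : GrSeg.IsSegreRing 𝒜 ℬ 𝒯 ψ)
  (mR : HomogeneousIdeal 𝒜) (hmR : mR.toIdeal = Ideal.span (⋃ n ∈ Set.Ioi (0 : ℤ), (𝒜 n : Set R)))
  (mS : HomogeneousIdeal ℬ) (hmS : mS.toIdeal = Ideal.span (⋃ n ∈ Set.Ioi (0 : ℤ), (ℬ n : Set S)))
  (mT : HomogeneousIdeal 𝒯) (hmT : mT.toIdeal = Ideal.span (⋃ n ∈ Set.Ioi (0 : ℤ), (𝒯 n : Set T)))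
  (I : GrLC.StarInjRes 𝒜 𝒜) (J : GrLC.StarInjRes ℬ ℬ) (IT : GrLC.StarInjRes 𝒯 𝒯)
  {p q : ℕ} (hr : ringKrullDim R = (p + 2 : ℕ)) (hs : ringKrullDim S = (q + 2 : ℕ))

include hposR h0R hposS h0S hT hmR hmS hmT hr hs in
/-- The top local cohomology of a Segre product is the Segre product of those of the factors. -/
theorem exists_cup_equiv [SegreHom ψ 𝒜 ℬ 𝒯] [IsNoetherianRing R] [IsNoetherianRing S] [IsNoetherianRing T] :
    ∃ Φ : (Seg ψ (hMod (idealA 𝒜 mR) (addRes I) (p + 2)) (hMod (idealA ℬ mS) (addRes J) (q + 2))).carrier ≃ₗ[T]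
        (hMod (idealA 𝒯 mT) (addRes IT) (p + q + 3)).carrier,
      GrLC.IsGrHom (Seg ψ (hMod (idealA 𝒜 mR) (addRes I) (p + 2)) (hMod (idealA ℬ mS) (addRes J) (q + 2))).gr
        (hMod (idealA 𝒯 mT) (addRes IT) (p + q + 3)).gr Φ.toLinearMap := by
  haveI := nontrivial_T hT
  haveI := gradedSMul_segre hT (isSegreMod_self hT)
  obtain ⟨r, dR, hdR, hr'⟩ := exists_degree_params hposR h0R
  obtain ⟨s, dS, hdS, hs'⟩ := exists_degree_params hposS h0S
  obtain ⟨f, hf, hfrad⟩ := hr' dS hdS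
  obtain ⟨f', hf', hfrad'⟩ := hs' dR hdR
  rw [mul_comm dS dR] at hf'
  let PR : Params (𝒜 := 𝒜) (ℬ := ℬ) (idealA 𝒜 mR).toIdeal (idealA ℬ mS).toIdeal :=
    { r := r, s := s, f := f, g := f', deg := ((dR * dS : ℕ) : ℤ),
      pos := by exact_mod_cast Nat.mul_pos hdR hdS
      hf := hf, hg := hf',
      radR := (le_of_eq hmR).trans hfrad, radS := (le_of_eq hmS).trans hfrad' }
  obtain ⟨j, hj, hjb⟩ := exists_segre_iso (ψ := ψ) (𝒯 := 𝒯) (𝒜 := 𝒜) (ℬ := ℬ) (isSegreMod_self hT)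
  obtain ⟨Φ, hΦ, hinj⟩ := exists_cup ψ (idealA 𝒜 mR) (addRes I) (idealA ℬ mS) (addRes J) p q (idealA 𝒯 mT)
    (addRes IT) j hj hjb hmR hmS hmT PR
  refine ⟨LinearEquiv.ofBijective Φ ⟨hinj, fun y => ?_⟩, hΦ⟩
  letI := (H4Gr.isInternal_Hgr (idealA 𝒯 mT) (addRes IT) (p + q + 3)).chooseDecomposition
  induction y using H4Gr.induction (hMod (idealA 𝒯 mT) (addRes IT) (p + q + 3)).gr with
  | zero => exact ⟨0, map_zero Φ⟩
  | add a b ha hb =>
    obtain ⟨x, hx⟩ := ha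
    obtain ⟨x', hx'⟩ := hb
    exact ⟨x + x', (map_add Φ x x').trans (congrArg₂ (· + ·) hx hx')⟩
  | hom g y hy =>
    let XA := hMod (idealA 𝒜 mR) (addRes I) (p + 2)
    let XB := hMod (idealA ℬ mS) (addRes J) (q + 2)
    let XT := hMod (idealA 𝒯 mT) (addRes IT) (p + q + 3)
    haveI : Module.Finite T (GrLC.GMod.of (addGr 𝒯) T (addGr 𝒯)).carrier := inferInstanceAs (Module.Finite T T)
    haveI : FiniteDimensional k (pieceK (k := k) g XA) :=
      finite_pieceK_hMod (idealA 𝒜 mR) (addRes I) h0R _ g hposR hmR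
    haveI : FiniteDimensional k (pieceK (k := k) g XB) :=
      finite_pieceK_hMod (idealA ℬ mS) (addRes J) h0S _ g hposS hmS
    haveI : FiniteDimensional k (pieceK (k := k) g XT) :=
      finite_pieceK_hMod (idealA 𝒯 mT) (addRes IT) (deg0_segre hT h0R h0S) _ g (negT hT hposR) hmT
    let χ : pieceK (k := k) g XA ⊗[k] pieceK g XB →ₗ[k] pieceK (k := k) g XT :=
      { toFun := fun v => ⟨Φ (toSeg ψ XA XB g v), hΦ g _ (toSeg_mem ψ XA XB g v)⟩
        map_add' := fun v w => Subtype.ext (by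
          show Φ (toSeg ψ XA XB g (v + w)) = Φ (toSeg ψ XA XB g v) + Φ (toSeg ψ XA XB g w)
          rw [map_add (toSeg ψ XA XB g), map_add Φ])
        map_smul' := fun r v => Subtype.ext (by
          show Φ (toSeg ψ XA XB g (r • v)) = algebraMap k T r • Φ (toSeg ψ XA XB g v)
          rw [map_smul (toSeg ψ XA XB g) r v, ← map_smul Φ (algebraMap k T r)]
          rfl) }
    have hχ : Function.Injective χ := fun v w h =>
      toSeg_injective ψ XA XB g (hinj (congrArg Subtype.val h))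
    obtain ⟨cA, cB, hA, hB, hsum⟩ := kunneth_high hposR h0R hposS h0S hT mR hmR mS hmS mT hmT (selfRes I) (selfRes J)
      (isSegreMod_self hT) (selfRes IT) g
    have hA' : ∀ n, p + 1 < n → cA n = 0 := fun n hn => by
      obtain ⟨n, rfl⟩ : ∃ l, n = l + 1 := ⟨n - 1, by omega⟩
      rw [hA]; exact finrank_Hcomp_self_eq_zero mR hmR hr (by omega) I g
    have hB' : ∀ n, q + 1 < n → cB n = 0 := fun n hn => by
      obtain ⟨n, rfl⟩ : ∃ l, n = l + 1 := ⟨n - 1, by omega⟩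
      rw [hB]; exact finrank_Hcomp_self_eq_zero mS hmS hs (by omega) J g
    have hdim : Module.finrank k (pieceK (k := k) g XA ⊗[k] pieceK (k := k) g XB) =
        Module.finrank k (pieceK (k := k) g XT) := by
      rw [Module.finrank_tensorProduct, (finrank_pieceK_hMod (idealA 𝒜 mR) (addRes I) h0R (p + 2) g).1,
        (finrank_pieceK_hMod (idealA ℬ mS) (addRes J) h0S (q + 2) g).1,
        (finrank_pieceK_hMod (idealA 𝒯 mT) (addRes IT) (deg0_segre hT h0R h0S) (p + q + 3) g).1,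
        show p + q + 3 = (p + q + 1) + 2 by omega]
      simp only [addRes, ← finrank_Hcomp_resA]
      rw [hsum, Finset.sum_eq_single (p + 1)]
      · rw [hA, show p + q + 1 + 1 - (p + 1) = q + 1 by omega, hB]
      · intro l hl hne
        rw [Finset.mem_range] at hl
        rcases lt_or_gt_of_ne hne with h | h
        · rw [hB' _ (by omega), mul_zero]
        · rw [hA' _ h, zero_mul]
      · intro h
        exact absurd (Finset.mem_range.2 (by omega)) h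
    obtain ⟨v, hv⟩ := (LinearMap.injective_iff_surjective_of_finrank_eq_finrank hdim).1 hχ ⟨y, hy⟩
    exact ⟨_, congrArg Subtype.val hv⟩

variable {ER : Type u} [AddCommGroup ER] [Module R ER] {𝓔R : ℤ → AddSubgroup ER} [Decomposition 𝓔R]
  [SetLike.GradedSMul 𝒜 𝓔R] {eR : (R ⧸ mR.toIdeal) →ₗ[R] ER}
  (heR : GrLC.IsStarInjHull 𝒜 (GrLC.quotGr 𝒜 mR) 𝓔R eR)
  {CR : Type u} [AddCommGroup CR] [Module R CR] [Module k CR] [IsScalarTower k R CR] {𝒞R : ℤ → AddSubgroup CR}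
  [Decomposition 𝒞R] [SetLike.GradedSMul 𝒜 𝒞R] (hCR : GrLC.IsStarCanonical 𝒜 𝒞R 𝓔R mR (p + 2) I)
  {ES : Type u} [AddCommGroup ES] [Module S ES] {𝓔S : ℤ → AddSubgroup ES} [Decomposition 𝓔S]
  [SetLike.GradedSMul ℬ 𝓔S] {eS : (S ⧸ mS.toIdeal) →ₗ[S] ES}
  (heS : GrLC.IsStarInjHull ℬ (GrLC.quotGr ℬ mS) 𝓔S eS)
  {CS : Type u} [AddCommGroup CS] [Module S CS] [Module k CS] [IsScalarTower k S CS] {𝒞S : ℤ → AddSubgroup CS}
  [Decomposition 𝒞S] [SetLike.GradedSMul ℬ 𝒞S] (hCS : GrLC.IsStarCanonical ℬ 𝒞S 𝓔S mS (q + 2) J)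
  {ET : Type u} [AddCommGroup ET] [Module T ET] {𝓔T : ℤ → AddSubgroup ET} [Decomposition 𝓔T]
  [SetLike.GradedSMul 𝒯 𝓔T] {eT' : (T ⧸ mT.toIdeal) →ₗ[T] ET}
  (heT : GrLC.IsStarInjHull 𝒯 (GrLC.quotGr 𝒯 mT) 𝓔T eT')
  {P : Type u} [AddCommGroup P] [Module T P] [Module k P] [IsScalarTower k T P] {𝒬 : ℤ → AddSubgroup P}
  [Decomposition 𝒬] [SetLike.GradedSMul 𝒯 𝒬] {φ : P →ₗ[k] CR ⊗[k] CS}
  (hP : GrSeg.IsSegreMod ψ 𝒞R 𝒞S 𝒬 φ)

include hposR h0R hposS h0S hT hmR hmS hmT hr hs heR hCR heS hCS heT hP in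
/-- The Segre product of canonical modules is a canonical module. -/
theorem isStarCanonical_segre : GrLC.IsStarCanonical 𝒯 𝒬 𝓔T mT (p + q + 3) IT := by
  haveI : SegreHom ψ 𝒜 ℬ 𝒯 := ⟨hT⟩
  haveI : IsNoetherianRing R := Algebra.FiniteType.isNoetherianRing k R
  haveI : IsNoetherianRing S := Algebra.FiniteType.isNoetherianRing k S
  haveI := isNoetherianRing_T hT
  haveI := nontrivial_T hT
  obtain ⟨Φ, hΦ⟩ := exists_cup_equiv hposR h0R hposS h0S hT mR hmR mS hmS mT hmT I J IT hr hs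
  let XA := hMod (idealA 𝒜 mR) (addRes I) (p + 2)
  let XB := hMod (idealA ℬ mS) (addRes J) (q + 2)
  letI : Module k ((addRes I).H (idealA 𝒜 mR) (p + 2)) := inferInstanceAs (Module k XA.carrier)
  letI : SMul k ((addRes I).H (idealA 𝒜 mR) (p + 2)) := ‹Module k ((addRes I).H (idealA 𝒜 mR) (p + 2))›.toSMul
  haveI : IsScalarTower k R ((addRes I).H (idealA 𝒜 mR) (p + 2)) := IsScalarTower.of_algebraMap_smul fun _ _ => rfl
  letI := (H4Gr.isInternal_Hgr (idealA 𝒜 mR) (addRes I) (p + 2)).chooseDecomposition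
  haveI := H4Gr.gradedSMul_Hgr (idealA 𝒜 mR) (addRes I) (p + 2)
  letI : Module k ((addRes J).H (idealA ℬ mS) (q + 2)) := inferInstanceAs (Module k XB.carrier)
  letI : SMul k ((addRes J).H (idealA ℬ mS) (q + 2)) := ‹Module k ((addRes J).H (idealA ℬ mS) (q + 2))›.toSMul
  haveI : IsScalarTower k S ((addRes J).H (idealA ℬ mS) (q + 2)) := IsScalarTower.of_algebraMap_smul fun _ _ => rfl
  letI := (H4Gr.isInternal_Hgr (idealA ℬ mS) (addRes J) (q + 2)).chooseDecomposition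
  haveI := H4Gr.gradedSMul_Hgr (idealA ℬ mS) (addRes J) (q + 2)
  letI : Module k ER := Module.compHom ER (algebraMap k R)
  haveI : IsScalarTower k R ER := IsScalarTower.of_algebraMap_smul fun _ _ => rfl
  letI : Module k ES := Module.compHom ES (algebraMap k S)
  haveI : IsScalarTower k S ES := IsScalarTower.of_algebraMap_smul fun _ _ => rfl
  obtain ⟨γ, hγ⟩ := H4GD.gdual_of_canonical (𝒜 := addGr 𝒜) H4GD.addGr_hk (H4GD.addGr_hsurj h0R)
    (H4GD.addGr_hpos hposR) (idealA 𝒜 mR) hmR (p + 2) (addRes I) (isStarInjHull_addGr mR heR)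
    ((isStarCanonical_addGr_iff mR (p + 2) I).2 hCR)
  obtain ⟨γ', hγ'⟩ := H4GD.gdual_of_canonical (𝒜 := addGr ℬ) H4GD.addGr_hk (H4GD.addGr_hsurj h0S)
    (H4GD.addGr_hpos hposS) (idealA ℬ mS) hmS (q + 2) (addRes J) (isStarInjHull_addGr mS heS)
    ((isStarCanonical_addGr_iff mS (q + 2) J).2 hCS)
  haveI : ∀ g, FiniteDimensional k (pieceK (k := k) g XA) := fun g =>
    finite_pieceK_hMod (idealA 𝒜 mR) (addRes I) h0R _ g hposR hmR
  haveI : ∀ g, FiniteDimensional k (pieceK (k := k) g XB) := fun g =>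
    finite_pieceK_hMod (idealA ℬ mS) (addRes J) h0S _ g hposS hmS
  let XT := hMod (idealA 𝒯 mT) (addRes IT) (p + q + 3)
  obtain ⟨β, hβ⟩ := exists_gdual_segre ψ XA XB hP XT (γ := γ) hγ (γ' := γ') hγ' Φ hΦ
  letI : Module k ((addRes IT).H (idealA 𝒯 mT) (p + q + 3)) := inferInstanceAs (Module k XT.carrier)
  letI : SMul k ((addRes IT).H (idealA 𝒯 mT) (p + q + 3)) :=
    ‹Module k ((addRes IT).H (idealA 𝒯 mT) (p + q + 3))›.toSMul
  haveI : IsScalarTower k T ((addRes IT).H (idealA 𝒯 mT) (p + q + 3)) :=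
    IsScalarTower.of_algebraMap_smul fun _ _ => rfl
  letI : Decomposition ((addRes IT).Hgr (idealA 𝒯 mT) (p + q + 3)) := XT.dec
  haveI := H4Gr.gradedSMul_Hgr (idealA 𝒯 mT) (addRes IT) (p + q + 3)
  letI : Module k ET := Module.compHom ET (algebraMap k T)
  haveI : IsScalarTower k T ET := IsScalarTower.of_algebraMap_smul fun _ _ => rfl
  haveI : IsNoetherianRing (R ⊗[k] S) := by
    haveI : Algebra.FiniteType k (R ⊗[k] S) :=
      Algebra.FiniteType.trans (A := R ⊗[k] S) (S := R) inferInstance inferInstance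
    exact Algebra.FiniteType.isNoetherianRing k _
  haveI : Module.Finite R CR := hCR.1
  haveI : Module.Finite S CS := hCS.1
  haveI : Module.Finite T P := H4Segre.moduleFinite_segre 𝒜 𝒞R ℬ 𝒞S hT.2 hP
  exact (isStarCanonical_addGr_iff mT (p + q + 3) IT).1 (H4GD.canonical_of_gdual (𝒜 := addGr 𝒯) H4GD.addGr_hk
    (H4GD.addGr_hsurj (deg0_segre hT h0R h0S)) (H4GD.addGr_hpos (negT hT hposR)) (idealA 𝒯 mT) hmT (p + q + 3)
    (addRes IT) (isStarInjHull_addGr mT heT) (γ := β) hβ)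

end Groth.Agent.H4KS
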