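import Groth.Agent.H4KS.SegDual

/-!
# Existence of presented Segre products
-/

set_option autoImplicit false
set_option linter.unusedSectionVars false
set_option linter.style.haveILetI false

universe u

open DirectSum
open scoped TensorProduct

namespace Groth.Agent.H4KS

variable {k : Type u} [Field k] {R : Type u} [CommRing R] [Algebra k R] {𝒜 : ℤ → Submodule k R} [GradedAlgebra 𝒜]
  {S : Type u} [CommRing S] [Algebra k S] {ℬ : ℤ → Submodule k S} [GradedAlgebra ℬ]
  {T : Type u} [CommRing T] [Algebra k T] {𝒯 : ℤ → Submodule k T} [GradedAlgebra 𝒯]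
  (ψ : T →ₐ[k] R ⊗[k] S) [hS : SegreHom ψ 𝒜 ℬ 𝒯]
  {M : Type u} [AddCommGroup M] [Module R M] [Module k M] [IsScalarTower k R M] (ℳ : ℤ → AddSubgroup M)
  [Decomposition ℳ] [SetLike.GradedSMul (addGr 𝒜) ℳ]
  {N : Type u} [AddCommGroup N] [Module S N] [Module k N] [IsScalarTower k S N] (𝒩 : ℤ → AddSubgroup N)
  [Decomposition 𝒩] [SetLike.GradedSMul (addGr ℬ) 𝒩]

include hS in
/-- Segre products of modules exist. -/
theorem exists_segreMod : ∃ (P : GrLC.GMod.{u} (addGr 𝒯)) (φ : P.carrier →ₗ[k] M ⊗[k] N),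
    GrSeg.IsSegreMod ψ ℳ 𝒩 P.gr φ := by
  let X := GrLC.GMod.of (addGr 𝒜) M ℳ
  let Y := GrLC.GMod.of (addGr ℬ) N 𝒩
  let cM : X.carrier ≃ₗ[k] M :=
    { toFun := fun m => m, invFun := fun m => m, map_add' := fun _ _ => rfl,
      map_smul' := fun r m => IsScalarTower.algebraMap_smul R r (show M from m) }
  let cN : Y.carrier ≃ₗ[k] N :=
    { toFun := fun m => m, invFun := fun m => m, map_add' := fun _ _ => rfl,
      map_smul' := fun r m => IsScalarTower.algebraMap_smul S r (show N from m) }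
  let θ := TensorProduct.congr cM cN
  have hθact : ∀ u z, θ (GrSeg.act k R S X.carrier Y.carrier u z) = GrSeg.act k R S M N u (θ z) := fun u z => by
    induction u using TensorProduct.induction_on with
    | zero => simp only [map_zero, LinearMap.zero_apply]
    | add p q hp hq => simp only [map_add, LinearMap.add_apply, hp, hq]
    | tmul p q =>
      induction z using TensorProduct.induction_on with
      | zero => simp only [map_zero]
      | add x y hx hy => simp only [map_add, hx, hy]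
      | tmul x y => simp only [θ, GrSeg.act_tmul, TensorProduct.congr_tmul]; rfl
  refine ⟨Seg ψ X Y, θ.toLinearMap ∘ₗ segValK ψ X Y, ⟨θ.injective.comp (segVal_injective ψ X Y), fun n => ?_,
    fun t p => ?_⟩⟩
  · have hθpiece : (GrSeg.segrePiece k X.gr Y.gr n).map θ.toLinearMap = GrSeg.segrePiece k ℳ 𝒩 n := by
      rw [GrSeg.segrePiece, GrSeg.segrePiece, Submodule.map_span]
      congr 1
      ext w
      constructor
      · rintro ⟨_, ⟨x, hx, y, hy, rfl⟩, rfl⟩
        exact ⟨x, hx, y, hy, TensorProduct.congr_tmul _ _ _ _⟩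
      · rintro ⟨x, hx, y, hy, rfl⟩
        exact ⟨(x : X.carrier) ⊗ₜ[k] (y : Y.carrier), ⟨x, hx, y, hy, rfl⟩, TensorProduct.congr_tmul cM cN x y⟩
    rw [← hθpiece]
    ext w
    constructor
    · rintro ⟨z, hz, rfl⟩
      exact ⟨segVal ψ X Y z, hz, rfl⟩
    · rintro ⟨v, hv, rfl⟩
      exact ⟨segMk ψ X Y v (Submodule.mem_iSup_of_mem n hv), hv, rfl⟩
  · show θ (segVal ψ X Y (t • p)) = _
    rw [segVal_smul, hθact]
    rfl

end Groth.Agent.H4KS
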