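import Groth.Agent.H4KS.SegGor
import Groth.Agent.H4KS.SegExists
import Groth.Agent.H4GD.CanonExists
import Groth.Agent.H4GD.ShiftEnd
import Groth.Agent.H4Ver.TwoLe
import Groth.Agent.H4KS.RingCM

/-!
# Gorenstein Segre products have Gorenstein factors
-/

set_option autoImplicit false
set_option linter.unusedSectionVars false
set_option linter.style.haveILetI false

universe u

open DirectSum
open scoped TensorProduct

namespace Groth.Agent.H4KS

variable {k : Type u} [Field k]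

theorem bijective_of_map_tensor {A B C D : Type u} [AddCommGroup A] [Module k A] [AddCommGroup B] [Module k B]
    [AddCommGroup C] [Module k C] [AddCommGroup D] [Module k D] {μ : A →ₗ[k] C} {ν : B →ₗ[k] D}
    (h : Function.Bijective (TensorProduct.map μ ν)) {b : B} (hb : b ≠ 0) (hν : ν b ≠ 0) : Function.Bijective μ := by
  obtain ⟨l, hl⟩ := Module.Projective.exists_dual_ne_zero k hb
  refine ⟨(injective_iff_map_eq_zero μ).2 fun x hx => ?_, fun y => ?_⟩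
  · have h0 : x ⊗ₜ[k] b = 0 := h.1 (by rw [TensorProduct.map_tmul, hx, TensorProduct.zero_tmul, map_zero])
    have h1 : l b • x = 0 := by
      simpa using congrArg (TensorProduct.lift ((LinearMap.lsmul k A).flip.compl₂ l)) h0
    exact (smul_eq_zero.1 h1).resolve_left hl
  · obtain ⟨l', hl'⟩ := Module.Projective.exists_dual_ne_zero k hν
    obtain ⟨v, hv⟩ := h.2 (y ⊗ₜ[k] ν b)
    have h1 : ∀ v, TensorProduct.lift ((LinearMap.lsmul k C).flip.compl₂ l') (TensorProduct.map μ ν v) ∈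
        LinearMap.range μ := fun v => by
      induction v using TensorProduct.induction_on with
      | zero => rw [map_zero, map_zero]; exact zero_mem _
      | add a c ha hc => rw [map_add, map_add]; exact add_mem ha hc
      | tmul a c => exact ⟨l' (ν c) • a, by simp⟩
    obtain ⟨x, hx⟩ : l' (ν b) • y ∈ LinearMap.range μ := by
      have := h1 v
      rw [hv] at this
      simpa using this
    exact ⟨(l' (ν b))⁻¹ • x, by rw [map_smul, hx, inv_smul_smul₀ hl']⟩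

theorem eq_zero_or_of_tmul {A B : Type u} [AddCommGroup A] [Module k A] [AddCommGroup B] [Module k B] {a : A} {b : B}
    (h : a ⊗ₜ[k] b = 0) : a = 0 ∨ b = 0 := by
  refine or_iff_not_imp_right.2 fun hb => ?_
  obtain ⟨l, hl⟩ := Module.Projective.exists_dual_ne_zero k hb
  have h1 : l b • a = 0 := by
    simpa using congrArg (TensorProduct.lift ((LinearMap.lsmul k A).flip.compl₂ l)) h
  exact (smul_eq_zero.1 h1).resolve_left hl

variable {R : Type u} [CommRing R] [Algebra k R] {𝒜 : ℤ → Submodule k R} [GradedAlgebra 𝒜]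
  {S : Type u} [CommRing S] [Algebra k S] {ℬ : ℤ → Submodule k S} [GradedAlgebra ℬ]
  {T : Type u} [CommRing T] [Algebra k T] {𝒯 : ℤ → Submodule k T} [GradedAlgebra 𝒯]
  {ψ : T →ₐ[k] R ⊗[k] S}

theorem finrank_segMod_piece {M : Type u} [AddCommGroup M] [Module R M] [Module k M] [IsScalarTower k R M]
    {ℳ : ℤ → AddSubgroup M} [Decomposition ℳ] [SetLike.GradedSMul (addGr 𝒜) ℳ]
    {N : Type u} [AddCommGroup N] [Module S N] [Module k N] [IsScalarTower k S N] {𝒩 : ℤ → AddSubgroup N}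
    [Decomposition 𝒩] [SetLike.GradedSMul (addGr ℬ) 𝒩]
    {P : Type u} [AddCommGroup P] [Module T P] [Module k P] [IsScalarTower k T P] {𝒬 : ℤ → AddSubgroup P}
    [Decomposition 𝒬] [SetLike.GradedSMul (addGr 𝒯) 𝒬] {φ : P →ₗ[k] M ⊗[k] N}
    (hP : GrSeg.IsSegreMod ψ ℳ 𝒩 𝒬 φ) (j : ℤ) :
    Module.finrank k (H4GD.kP (H4GD.addGr_hk (𝒜 := 𝒯)) 𝒬 j) =
      Module.finrank k (H4GD.kP (H4GD.addGr_hk (𝒜 := 𝒜)) ℳ j) *
        Module.finrank k (H4GD.kP (H4GD.addGr_hk (𝒜 := ℬ)) 𝒩 j) := by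
  let ι := TensorProduct.map (H4GD.kP (H4GD.addGr_hk (𝒜 := 𝒜)) ℳ j).subtype
    (H4GD.kP (H4GD.addGr_hk (𝒜 := ℬ)) 𝒩 j).subtype
  have hι : Function.Injective ι :=
    TensorProduct.map_injective_of_flat_flat _ _ Subtype.val_injective Subtype.val_injective
  have hr : LinearMap.range ι = GrSeg.segrePiece k ℳ 𝒩 j := by
    apply le_antisymm
    · rintro _ ⟨v, rfl⟩
      induction v using TensorProduct.induction_on with
      | zero => rw [map_zero]; exact zero_mem _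
      | add x y hx hy => rw [map_add]; exact add_mem hx hy
      | tmul x y => exact Submodule.subset_span ⟨x.1, x.2, y.1, y.2, rfl⟩
    · refine Submodule.span_le.2 ?_
      rintro _ ⟨x, hx, y, hy, rfl⟩
      exact ⟨(⟨x, hx⟩ : H4GD.kP (H4GD.addGr_hk (𝒜 := 𝒜)) ℳ j) ⊗ₜ[k]
        (⟨y, hy⟩ : H4GD.kP (H4GD.addGr_hk (𝒜 := ℬ)) 𝒩 j), rfl⟩
  let f : H4GD.kP (H4GD.addGr_hk (𝒜 := 𝒯)) 𝒬 j →ₗ[k] M ⊗[k] N :=
    φ ∘ₗ (H4GD.kP (H4GD.addGr_hk (𝒜 := 𝒯)) 𝒬 j).subtype
  have hr' : LinearMap.range f = GrSeg.segrePiece k ℳ 𝒩 j := by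
    refine SetLike.coe_injective ?_
    rw [← hP.image_piece j]
    ext v
    constructor
    · rintro ⟨x, rfl⟩; exact ⟨x.1, x.2, rfl⟩
    · rintro ⟨x, hx, rfl⟩; exact ⟨⟨x, hx⟩, rfl⟩
  rw [← LinearMap.finrank_range_of_inj (f := f) (hP.injective.comp Subtype.val_injective), hr', ← hr,
    LinearMap.finrank_range_of_inj hι, Module.finrank_tensorProduct]

section Factor

variable [Algebra.FiniteType k R] [IsNoetherianRing R] [Nontrivial R] [LocCoh.IsCohenMacaulayRing R]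
  (hpos : ∀ n : ℤ, n < 0 → 𝒜 n = ⊥) (h0 : 𝒜 0 = Submodule.span k {(1 : R)})
  (m : HomogeneousIdeal 𝒜) (hm : m.toIdeal = Ideal.span (⋃ n ∈ Set.Ioi (0 : ℤ), (𝒜 n : Set R)))
  (hstd : Ideal.span (⋃ n ∈ Set.Ioi (0 : ℤ), (𝒜 n : Set R)) = Ideal.span ((𝒜 1 : Submodule k R) : Set R))
  {n : ℕ} (hn : ringKrullDim R = n) (h2 : 2 ≤ n) (I : GrLC.StarInjRes 𝒜 𝒜)
  (E : GrLC.GMod.{u} 𝒜) {e : (R ⧸ m.toIdeal) →ₗ[R] E.carrier}
  (he : GrLC.IsStarInjHull 𝒜 (GrLC.quotGr 𝒜 m) E.gr e) (C : GrLC.GMod.{u} (addGr 𝒜))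
  (hC : GrLC.IsStarCanonical 𝒜 C.gr E.gr m n I)

include hpos h0 hm hstd hn h2 he hC in
theorem two_le_canonical_piece {i : ℤ} {z : C.carrier} (hz : z ∈ C.gr i) (hz0 : z ≠ 0) {j : ℤ} (hij : i < j) :
    2 ≤ Module.finrank k (H4GD.kP (H4GD.addGr_hk (𝒜 := 𝒜)) C.gr j) := by
  have hloc := isStarLocal_addGr hpos h0 m hm
  haveI : (idealA 𝒜 m).toIdeal.IsMaximal := H4Gr.isMaximal_of_isStarLocal (H4GD.addGr_hpos hpos) hloc
  let p := (idealA 𝒜 m).toIdeal
  let A := Localization.AtPrime p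
  haveI := LocCoh.IsCohenMacaulayRing.isCohenMacaulayLocalRing_localization (R := R) p
  have hd : ringKrullDim A = n := by
    rw [IsLocalization.AtPrime.ringKrullDim_eq_height p A, H4GD.height_eq (H4GD.addGr_hpos hpos) hloc hn]; rfl
  have he' := isStarInjHull_addGr m he
  have hC' : GrLC.IsStarCanonical (addGr 𝒜) C.gr E.gr (idealA 𝒜 m) n (addRes I) :=
    (isStarCanonical_addGr_iff m n I).2 hC
  obtain ⟨v, hv⟩ := H4GD.exists_hull_localized_star he'
  obtain ⟨eK⟩ := H4GD.nonempty_localized_canonical he' (addRes I) hC' hv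
  haveI : Module.Finite R C.carrier := hC.1
  haveI : Module.Finite A (LocalizedModule p.primeCompl C.carrier) :=
    Module.Finite.of_isLocalizedModule p.primeCompl (LocalizedModule.mkLinearMap _ C.carrier)
  obtain ⟨hs, hcm⟩ := H4LC.depth_canon hv hd eK
  have hdep : (2 : ℕ∞) ≤ LocCoh.depth A (LocalizedModule p.primeCompl C.carrier) := by
    have h : ((n : ℕ∞) : WithBot ℕ∞) = _ := hs.symm.trans hcm
    rw [← WithBot.coe_inj.1 h]
    exact_mod_cast h2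
  obtain ⟨t, rfl⟩ : ∃ t : ℕ, j = i + t := ⟨(j - i).toNat, by omega⟩
  rw [(H4GD.finrank_kP H4GD.addGr_hk (H4GD.addGr_hsurj h0) C.gr _).1]
  exact H4Ver.two_le_finrank (H4GD.isField_deg0 H4GD.addGr_hk (H4GD.addGr_hsurj h0))
    (hm.trans hstd) hloc hdep hz hz0 (t := t) (by omega)

end Factor

section Span

variable {C : GrLC.GMod.{u} (addGr 𝒜)} {d : ℤ} {z : C.carrier}

theorem bijective_toSpan_of_pieces (hpos : ∀ n : ℤ, n < 0 → 𝒜 n = ⊥) (hz : z ∈ C.gr d)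
    (hlow : ∀ j < d, C.gr j = ⊥) {μ : ∀ t : ℕ, 𝒜 (t : ℤ) →ₗ[k] H4GD.kP (H4GD.addGr_hk (𝒜 := 𝒜)) C.gr ((t : ℤ) + d)}
    (hμb : ∀ t, Function.Bijective (μ t)) (hμ : ∀ t x, ((μ t x : C.carrier)) = (x : R) • z := by intros; rfl) :
    Function.Bijective (LinearMap.toSpanSingleton R C.carrier z) := by
  let f := LinearMap.toSpanSingleton R C.carrier z
  have hfd : ∀ (i : ℤ) (x : R), x ∈ addGr 𝒜 i → f x ∈ C.gr (i + d) := fun _ _ hx => H4Gr.smul_mem (addGr 𝒜) hx hz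
  refine ⟨(injective_iff_map_eq_zero f).2 fun r hr => H4Gr.ext_proj (addGr 𝒜) fun i => ?_, fun y => ?_⟩
  · rw [map_zero]
    rcases lt_or_ge i 0 with hi | hi
    · exact (AddSubgroup.eq_bot_iff_forall _).1 (H4GD.addGr_hpos hpos i hi) _ (H4Gr.proj_mem _ i r)
    obtain ⟨t, rfl⟩ : ∃ t : ℕ, i = t := ⟨i.toNat, (Int.toNat_of_nonneg hi).symm⟩
    have h := H4Gr.map_proj (ℳ := addGr 𝒜) (𝒩 := C.gr) (f := f) hfd (t : ℤ) r
    rw [hr, map_zero] at h
    exact congrArg Subtype.val ((injective_iff_map_eq_zero (μ t)).1 (hμb t).1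
      ⟨_, H4Gr.proj_mem (addGr 𝒜) (t : ℤ) r⟩ (Subtype.ext ((hμ t _).trans h)))
  · induction y using H4Gr.induction C.gr with
    | zero => exact ⟨0, map_zero f⟩
    | add a b ha hb =>
      obtain ⟨x, rfl⟩ := ha; obtain ⟨x', rfl⟩ := hb
      exact ⟨x + x', map_add f x x'⟩
    | hom j y hy =>
      rcases lt_or_ge j d with hj | hj
      · exact ⟨0, by rw [(AddSubgroup.eq_bot_iff_forall _).1 (hlow j hj) y hy, map_zero]⟩
      obtain ⟨t, rfl⟩ : ∃ t : ℕ, j = t + d := ⟨(j - d).toNat, by omega⟩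
      obtain ⟨x, hx⟩ := (hμb t).2 ⟨y, hy⟩
      exact ⟨x.1, (hμ t x).symm.trans (congrArg Subtype.val hx :)⟩

end Span

variable [Algebra.FiniteType k R] [Algebra.FiniteType k S] [Nontrivial R] [Nontrivial S]
  [LocCoh.IsCohenMacaulayRing R] [LocCoh.IsCohenMacaulayRing S] [LocCoh.IsGorensteinRing T]
  (hposR : ∀ n : ℤ, n < 0 → 𝒜 n = ⊥) (h0R : 𝒜 0 = Submodule.span k {(1 : R)})
  (hposS : ∀ n : ℤ, n < 0 → ℬ n = ⊥) (h0S : ℬ 0 = Submodule.span k {(1 : S)})
  (hT : GrSeg.IsSegreRing 𝒜 ℬ 𝒯 ψ)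
  (mR : HomogeneousIdeal 𝒜) (hmR : mR.toIdeal = Ideal.span (⋃ n ∈ Set.Ioi (0 : ℤ), (𝒜 n : Set R)))
  (hstdR : Ideal.span (⋃ n ∈ Set.Ioi (0 : ℤ), (𝒜 n : Set R)) = Ideal.span ((𝒜 1 : Submodule k R) : Set R))
  (mS : HomogeneousIdeal ℬ) (hmS : mS.toIdeal = Ideal.span (⋃ n ∈ Set.Ioi (0 : ℤ), (ℬ n : Set S)))
  (hstdS : Ideal.span (⋃ n ∈ Set.Ioi (0 : ℤ), (ℬ n : Set S)) = Ideal.span ((ℬ 1 : Submodule k S) : Set S))
  (I : GrLC.StarInjRes 𝒜 𝒜) (J : GrLC.StarInjRes ℬ ℬ)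
  {p q : ℕ} (hr : ringKrullDim R = (p + 2 : ℕ)) (hs : ringKrullDim S = (q + 2 : ℕ))

include hposR h0R hposS h0S hT hmR hstdR hmS hstdS hr hs in
/-- A Gorenstein Segre product has Gorenstein factors with the same invariant. -/
theorem gorenstein_factors_of_segre :
    LocCoh.IsGorensteinRing R ∧ LocCoh.IsGorensteinRing S ∧
      GrLC.endDeg (I.Hgr mR (p + 2)) = GrLC.endDeg (J.Hgr mS (q + 2)) := by
  haveI : SegreHom ψ 𝒜 ℬ 𝒯 := ⟨hT⟩
  haveI : IsNoetherianRing R := Algebra.FiniteType.isNoetherianRing k R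
  haveI : IsNoetherianRing S := Algebra.FiniteType.isNoetherianRing k S
  haveI := isNoetherianRing_T hT
  haveI := nontrivial_T hT
  haveI := H4Ver.isCohenMacaulayRing_of_gorenstein T
  have hposT := negT hT hposR
  have h0T := deg0_segre hT h0R h0S
  let mT : HomogeneousIdeal 𝒯 := ⟨H4Segre.irr 𝒯, H4Segre.isHomogeneous_irr 𝒯⟩
  obtain ⟨IT₀⟩ := nonempty_starInjRes 𝒯 (addGr 𝒯)
  let IT : GrLC.StarInjRes 𝒯 𝒯 := {
    X := IT₀.X, d := IT₀.d, ε := IT₀.ε, d_grHom := IT₀.d_grHom,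
    ε_grHom := IT₀.ε_grHom, ε_injective := IT₀.ε_injective, exact_zero := IT₀.exact_zero,
    exact_succ := IT₀.exact_succ, starInj := IT₀.starInj }
  obtain ⟨ER, eR, heR⟩ := exists_hull_alg hposR h0R mR hmR
  obtain ⟨ES, eS, heS⟩ := exists_hull_alg hposS h0S mS hmS
  obtain ⟨ET, eT', heT⟩ := exists_hull_alg hposT h0T mT rfl
  obtain ⟨CR, hCR₀⟩ := H4GD.exists_canonical (𝒜 := addGr 𝒜) H4GD.addGr_hk (H4GD.addGr_hsurj h0R)
    (H4GD.addGr_hpos hposR) (m := idealA 𝒜 mR) hmR (isStarLocal_addGr hposR h0R mR hmR) (p + 2) (addRes I)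
    (isStarInjHull_addGr mR heR)
  obtain ⟨CS, hCS₀⟩ := H4GD.exists_canonical (𝒜 := addGr ℬ) H4GD.addGr_hk (H4GD.addGr_hsurj h0S)
    (H4GD.addGr_hpos hposS) (m := idealA ℬ mS) hmS (isStarLocal_addGr hposS h0S mS hmS) (q + 2) (addRes J)
    (isStarInjHull_addGr mS heS)
  have hCR := (isStarCanonical_addGr_iff mR (p + 2) I).1 hCR₀
  have hCS := (isStarCanonical_addGr_iff mS (q + 2) J).1 hCS₀
  obtain ⟨P, φ, hP⟩ := exists_segreMod (𝒜 := 𝒜) (ℬ := ℬ) (𝒯 := 𝒯) ψ CR.gr CS.gr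
  have hC := (isStarCanonical_addGr_iff mT (p + q + 3) IT).2 (isStarCanonical_segre hposR h0R hposS h0S hT mR hmR
    mS hmS mT rfl I J IT hr hs heR hCR heS hCS heT hP)
  have hdim : ringKrullDim T = ((p + q + 3 : ℕ) : WithBot ℕ∞) := by
    rw [S18647.result k R 𝒜 hposR h0R S ℬ hposS h0S T 𝒯 ψ hT.1 hT.2 (p + 2) (q + 2) hr hs (by omega) (by omega),
      show p + 2 + (q + 2) - 1 = p + q + 3 by omega]
  obtain ⟨d, f, hf, hfd⟩ := (H4GD.isGorensteinRing_iff_exists_shift (𝒜 := addGr 𝒯) H4GD.addGr_hk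
    (H4GD.addGr_hsurj h0T) (H4GD.addGr_hpos hposT) (m := idealA 𝒯 mT) rfl (isStarLocal_addGr hposT h0T mT rfl)
    hdim (addRes IT) (isStarInjHull_addGr mT heT) hC).1 inferInstance
  let fe := LinearEquiv.ofBijective f hf
  have hfd' := H4GD.isGrHomDeg_symm (φ := fe) hfd
  have hfT : ∀ (l : ℤ) (x : P.carrier), x ∈ P.gr l → ∃ τ ∈ 𝒯 (l - d), f τ = x := fun l x hx =>
    ⟨fe.symm x, by have h := hfd' l x hx; rw [← sub_eq_add_neg] at h; exact h, fe.apply_symm_apply x⟩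
  have hz0 : f 1 ∈ P.gr d := by simpa using hfd 0 1 (SetLike.one_mem_graded (addGr 𝒯))
  let hkR : ∀ c : k, algebraMap k R c ∈ addGr 𝒜 0 := H4GD.addGr_hk
  let hkS : ∀ c : k, algebraMap k S c ∈ addGr ℬ 0 := H4GD.addGr_hk
  let hkT : ∀ c : k, algebraMap k T c ∈ addGr 𝒯 0 := H4GD.addGr_hk
  -- the lowest piece is a line
  have hPd : Module.finrank k (H4GD.kP hkT P.gr d) = 1 := by
    refine finrank_eq_one (⟨f 1, hz0⟩ : H4GD.kP hkT P.gr d) (fun h => ?_) fun x => ?_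
    · exact one_ne_zero (α := T) (hf.1 ((congrArg Subtype.val h :).trans (map_zero f).symm))
    · obtain ⟨τ, hτ, hτx⟩ := hfT d x.1 x.2
      rw [sub_self, h0T, Submodule.mem_span_singleton] at hτ
      obtain ⟨c, rfl⟩ := hτ
      exact ⟨c, Subtype.ext (by
        show c • f 1 = _
        rw [← algebraMap_smul T c (f 1), ← map_smul, smul_eq_mul, mul_one, Algebra.algebraMap_eq_smul_one, hτx])⟩
  have h11 := (finrank_segMod_piece (𝒜 := 𝒜) (ℬ := ℬ) (𝒯 := 𝒯) hP d).symm.trans hPd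
  rw [mul_eq_one] at h11
  haveI : FiniteDimensional k (H4GD.kP hkR CR.gr d) := Module.finite_of_finrank_eq_succ h11.1
  have hlowR : ∀ j < d, CR.gr j = ⊥ := fun j hj => (AddSubgroup.eq_bot_iff_forall _).2 fun z hz => by
    by_contra hne
    have := two_le_canonical_piece hposR h0R mR hmR hstdR hr (by omega) I ER heR CR hCR hz hne hj
    omega
  have hlowS : ∀ j < d, CS.gr j = ⊥ := fun j hj => (AddSubgroup.eq_bot_iff_forall _).2 fun z hz => by
    by_contra hne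
    have := two_le_canonical_piece hposS h0S mS hmS hstdS hs (by omega) J ES heS CS hCS hz hne hj
    omega
  obtain ⟨z₁, hz₁, hz₁s⟩ := finrank_eq_one_iff'.1 h11.1
  obtain ⟨w, hw, hws⟩ := finrank_eq_one_iff'.1 h11.2
  have hspan : ∀ v ∈ GrSeg.segrePiece k CR.gr CS.gr d, ∃ c : k, v = (c • z₁.1) ⊗ₜ[k] w.1 := fun v hv => by
    induction hv using Submodule.span_induction with
    | mem v hv =>
      obtain ⟨x, hx, y, hy, rfl⟩ := hv
      obtain ⟨c, hc⟩ := hz₁s ⟨x, hx⟩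
      obtain ⟨c', hc'⟩ := hws ⟨y, hy⟩
      refine ⟨c' * c, ?_⟩
      rw [show x = c • z₁.1 from (congrArg Subtype.val hc :).symm, show y = c' • w.1 from (congrArg Subtype.val hc' :).symm,
        mul_smul, TensorProduct.tmul_smul, TensorProduct.smul_tmul' c' (c • z₁.1)]
    | zero => exact ⟨0, by rw [zero_smul, TensorProduct.zero_tmul]⟩
    | add x y _ _ hx hy =>
      obtain ⟨c, rfl⟩ := hx; obtain ⟨c', rfl⟩ := hy
      exact ⟨c + c', by rw [add_smul, TensorProduct.add_tmul]⟩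
    | smul r x _ hx =>
      obtain ⟨c, rfl⟩ := hx
      exact ⟨r * c, by rw [mul_smul, TensorProduct.smul_tmul']⟩
  obtain ⟨c, hc⟩ := hspan _ ((hP.image_piece d).subset ⟨f 1, hz0, rfl⟩)
  let z : CR.carrier := c • z₁.1
  have hzm : z ∈ CR.gr d := (c • z₁).2
  have hφ1 : φ (f 1) = z ⊗ₜ[k] w.1 := hc
  -- multiplication on pieces
  let μ : ∀ t : ℕ, 𝒜 (t : ℤ) →ₗ[k] H4GD.kP hkR CR.gr ((t : ℤ) + d) := fun t =>
    { toFun := fun x => ⟨x.1 • z, H4Gr.smul_mem (addGr 𝒜) x.2 hzm⟩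
      map_add' := fun x y => Subtype.ext (add_smul x.1 y.1 z)
      map_smul' := fun r x => Subtype.ext (smul_assoc r x.1 z) }
  let ν : ∀ t : ℕ, ℬ (t : ℤ) →ₗ[k] H4GD.kP hkS CS.gr ((t : ℤ) + d) := fun t =>
    { toFun := fun x => ⟨x.1 • w.1, H4Gr.smul_mem (addGr ℬ) x.2 w.2⟩
      map_add' := fun x y => Subtype.ext (add_smul x.1 y.1 w.1)
      map_smul' := fun r x => Subtype.ext (smul_assoc r x.1 w.1) }
  have hbij : ∀ t : ℕ, Function.Bijective (TensorProduct.map (μ t) (ν t)) := fun t => by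
    let iA := TensorProduct.map (𝒜 (t : ℤ)).subtype (ℬ (t : ℤ)).subtype
    let iC := TensorProduct.map (H4GD.kP hkR CR.gr ((t : ℤ) + d)).subtype (H4GD.kP hkS CS.gr ((t : ℤ) + d)).subtype
    have hiA : Function.Injective iA :=
      TensorProduct.map_injective_of_flat_flat _ _ Subtype.val_injective Subtype.val_injective
    have hiC : Function.Injective iC :=
      TensorProduct.map_injective_of_flat_flat _ _ Subtype.val_injective Subtype.val_injective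
    have key : ∀ (v : 𝒜 (t : ℤ) ⊗[k] ℬ (t : ℤ)) (τ : T), ψ τ = iA v →
        iC (TensorProduct.map (μ t) (ν t) v) = φ (f τ) := fun v τ hτ => by
      rw [show f τ = τ • f 1 by rw [← map_smul, smul_eq_mul, mul_one], hP.map_smul, hφ1, hτ]
      clear hτ
      induction v using TensorProduct.induction_on with
      | zero => simp only [map_zero, LinearMap.zero_apply]
      | add x y hx hy => simp only [map_add, LinearMap.add_apply, hx, hy]
      | tmul x y =>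
        show _ = GrSeg.act k R S CR.carrier CS.carrier (x.1 ⊗ₜ[k] y.1) (z ⊗ₜ[k] w.1)
        rw [GrSeg.act_tmul]
        rfl
    have hiAmem : ∀ v, iA v ∈ GrSeg.segrePiece k 𝒜 ℬ (t : ℤ) := fun v => by
      induction v using TensorProduct.induction_on with
      | zero => rw [map_zero]; exact zero_mem _
      | add x y hx hy => rw [map_add]; exact add_mem hx hy
      | tmul x y => exact Submodule.subset_span ⟨x.1, x.2, y.1, y.2, rfl⟩
    refine ⟨(injective_iff_map_eq_zero _).2 fun v hv => ?_, fun u => ?_⟩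
    · obtain ⟨τ, -, hτ⟩ : iA v ∈ (𝒯 (t : ℤ)).map ψ.toLinearMap := by rw [hT.2]; exact hiAmem v
      have h := key v τ hτ
      rw [hv, map_zero] at h
      refine hiA ?_
      have hτ0 : f τ = 0 := hP.injective (h.symm.trans (map_zero φ).symm)
      rw [map_zero, ← hτ, hf.1 (hτ0.trans (map_zero f).symm), map_zero]
    · have hu : iC u ∈ GrSeg.segrePiece k CR.gr CS.gr ((t : ℤ) + d) := by
        induction u using TensorProduct.induction_on with
        | zero => rw [map_zero]; exact zero_mem _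
        | add x y hx hy => rw [map_add]; exact add_mem hx hy
        | tmul x y => exact Submodule.subset_span ⟨x.1, x.2, y.1, y.2, rfl⟩
      obtain ⟨x, hx, hxu⟩ := (hP.image_piece ((t : ℤ) + d)).superset hu
      obtain ⟨τ, hτ, hτx⟩ := hfT _ x hx
      rw [add_sub_cancel_right] at hτ
      obtain ⟨v, hv⟩ : ∃ v, iA v = ψ τ := by
        have h : ψ τ ∈ GrSeg.segrePiece k 𝒜 ℬ (t : ℤ) := (hT.2 (t : ℤ)) ▸ ⟨τ, hτ, rfl⟩
        generalize ψ τ = v at h ⊢
        induction h using Submodule.span_induction with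
        | mem v hv =>
          obtain ⟨a, ha, b, hb, rfl⟩ := hv
          exact ⟨(⟨a, ha⟩ : 𝒜 (t : ℤ)) ⊗ₜ[k] (⟨b, hb⟩ : ℬ (t : ℤ)), rfl⟩
        | zero => exact ⟨0, map_zero _⟩
        | add x y _ _ hx hy =>
          obtain ⟨v, rfl⟩ := hx; obtain ⟨v', rfl⟩ := hy
          exact ⟨v + v', map_add _ _ _⟩
        | smul r x _ hx =>
          obtain ⟨v, rfl⟩ := hx
          exact ⟨r • v, map_smul _ _ _⟩
      exact ⟨v, hiC (by rw [key v τ hv.symm, hτx, hxu])⟩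
  have hneR : ∀ t : ℕ, ∃ x : 𝒜 (t : ℤ), x ≠ 0 := fun t => by
    obtain ⟨x, hx, hx0⟩ := Submodule.exists_mem_ne_zero_of_ne_bot
      (piece_ne_bot hposR h0R hstdR hr (by omega) (show (0 : ℤ) ≤ t by omega))
    exact ⟨⟨x, hx⟩, fun h => hx0 (congrArg Subtype.val h)⟩
  have hneS : ∀ t : ℕ, ∃ x : ℬ (t : ℤ), x ≠ 0 := fun t => by
    obtain ⟨x, hx, hx0⟩ := Submodule.exists_mem_ne_zero_of_ne_bot
      (piece_ne_bot hposS h0S hstdS hs (by omega) (show (0 : ℤ) ≤ t by omega))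
    exact ⟨⟨x, hx⟩, fun h => hx0 (congrArg Subtype.val h)⟩
  have hνne : ∀ (t : ℕ) (y : ℬ (t : ℤ)), y ≠ 0 → ν t y ≠ 0 := fun t y hy h => by
    obtain ⟨x, hx⟩ := hneR t
    have h0 : x ⊗ₜ[k] y = 0 := (hbij t).1 (by rw [TensorProduct.map_tmul, h, TensorProduct.tmul_zero, map_zero])
    rcases eq_zero_or_of_tmul h0 with h1 | h1
    · exact hx h1
    · exact hy h1
  have hμne : ∀ (t : ℕ) (x : 𝒜 (t : ℤ)), x ≠ 0 → μ t x ≠ 0 := fun t x hx h => by
    obtain ⟨y, hy⟩ := hneS t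
    have h0 : x ⊗ₜ[k] y = 0 := (hbij t).1 (by rw [TensorProduct.map_tmul, h, TensorProduct.zero_tmul, map_zero])
    rcases eq_zero_or_of_tmul h0 with h1 | h1
    · exact hx h1
    · exact hy h1
  have hμ : ∀ t, Function.Bijective (μ t) := fun t => by
    obtain ⟨y, hy⟩ := hneS t
    exact bijective_of_map_tensor (hbij t) hy (hνne t y hy)
  have hν : ∀ t, Function.Bijective (ν t) := fun t => by
    obtain ⟨x, hx⟩ := hneR t
    refine bijective_of_map_tensor (μ := ν t) (ν := μ t) ?_ hx (hμne t x hx)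
    have : ∀ v, TensorProduct.map (ν t) (μ t) v =
        TensorProduct.comm k _ _ (TensorProduct.map (μ t) (ν t) (TensorProduct.comm k _ _ v)) := fun v => by
      rw [TensorProduct.map_comm, ← TensorProduct.comm_symm, LinearEquiv.symm_apply_apply]
    rw [show ⇑(TensorProduct.map (ν t) (μ t)) = _ from funext this]
    exact (TensorProduct.comm k _ _).bijective.comp ((hbij t).comp (TensorProduct.comm k _ _).bijective)
  have hshiftR := bijective_toSpan_of_pieces (𝒜 := 𝒜) hposR hzm hlowR fun t => hμ t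
  have hshiftS := bijective_toSpan_of_pieces (𝒜 := ℬ) hposS w.2 hlowS fun t => hν t
  haveI := hCR.1
  have hfdR : GrLC.IsGrHomDeg (addGr 𝒜) CR.gr (LinearMap.toSpanSingleton R CR.carrier z) d :=
    fun _ _ hx => H4Gr.smul_mem (addGr 𝒜) hx hzm
  have hfdS : GrLC.IsGrHomDeg (addGr ℬ) CS.gr (LinearMap.toSpanSingleton S CS.carrier w.1) d :=
    fun _ _ hx => H4Gr.smul_mem (addGr ℬ) hx w.2
  refine ⟨(H4GD.isGorensteinRing_iff_exists_shift (𝒜 := addGr 𝒜) H4GD.addGr_hk (H4GD.addGr_hsurj h0R)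
      (H4GD.addGr_hpos hposR) (m := idealA 𝒜 mR) hmR (isStarLocal_addGr hposR h0R mR hmR) hr (addRes I)
      (isStarInjHull_addGr mR heR) hCR₀).2 ⟨d, _, hshiftR, hfdR⟩,
    (H4GD.isGorensteinRing_iff_exists_shift (𝒜 := addGr ℬ) H4GD.addGr_hk (H4GD.addGr_hsurj h0S)
      (H4GD.addGr_hpos hposS) (m := idealA ℬ mS) hmS (isStarLocal_addGr hposS h0S mS hmS) hs (addRes J)
      (isStarInjHull_addGr mS heS) hCS₀).2 ⟨d, _, hshiftS, hfdS⟩, ?_⟩
  exact (H4GD.endDeg_eq_of_shift (𝒜 := addGr 𝒜) H4GD.addGr_hk (H4GD.addGr_hsurj h0R) (H4GD.addGr_hpos hposR)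
      (m := idealA 𝒜 mR) hmR (addRes I) (isStarInjHull_addGr mR heR) hCR₀ hshiftR hfdR).trans
    (H4GD.endDeg_eq_of_shift (𝒜 := addGr ℬ) H4GD.addGr_hk (H4GD.addGr_hsurj h0S) (H4GD.addGr_hpos hposS)
      (m := idealA ℬ mS) hmS (addRes J) (isStarInjHull_addGr mS heS) hCS₀ hshiftS hfdS).symm

end Groth.Agent.H4KS
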