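import Groth.Agent.H4KS.Cup
import Groth.Agent.H4GD.Pair
import Groth.Agent.H4GD.Alg
import Mathlib.LinearAlgebra.Contraction
import Mathlib.LinearAlgebra.Dual.Lemmas

/-!
# The Segre product of graded duals
-/

set_option autoImplicit false
set_option linter.unusedSectionVars false
set_option linter.style.haveILetI false

universe u

open DirectSum
open scoped TensorProduct

namespace Groth.Agent.H4KS

variable {k : Type u} [Field k] {R : Type u} [CommRing R] [Algebra k R] {𝒜 : ℤ → Submodule k R} [GradedAlgebra 𝒜]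
  {S : Type u} [CommRing S] [Algebra k S] {ℬ : ℤ → Submodule k S} [GradedAlgebra ℬ]
  {T : Type u} [CommRing T] [Algebra k T] {𝒯 : ℤ → Submodule k T} [GradedAlgebra 𝒯]
  (ψ : T →ₐ[k] R ⊗[k] S) [hS : SegreHom ψ 𝒜 ℬ 𝒯]
variable (X : GrLC.GMod.{u} (addGr 𝒜)) (Y : GrLC.GMod.{u} (addGr ℬ))

theorem act_algebraMap (r : k) (v : X.carrier ⊗[k] Y.carrier) :
    GrSeg.act k R S X.carrier Y.carrier (ψ (algebraMap k T r)) v = r • v := by
  rw [ψ.commutes, Algebra.algebraMap_eq_smul_one, map_smul, LinearMap.smul_apply, Algebra.TensorProduct.one_def]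
  congr 1
  induction v using TensorProduct.induction_on with
  | zero => simp only [map_zero]
  | add x y hx hy => simp only [map_add, hx, hy]
  | tmul x y => rw [GrSeg.act_tmul, one_smul, one_smul]

/-- The underlying tensor, linearly over the ground field. -/
noncomputable def segValK : (Seg ψ X Y).carrier →ₗ[k] X.carrier ⊗[k] Y.carrier where
  toFun := segVal ψ X Y
  map_add' := map_add (segVal ψ X Y)
  map_smul' r z := by
    show segVal ψ X Y (algebraMap k T r • z) = r • segVal ψ X Y z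
    rw [segVal_smul, act_algebraMap]

/-- One degree of a Segre product. -/
noncomputable def toSeg (g : ℤ) : pieceK g X ⊗[k] pieceK g Y →ₗ[k] (Seg ψ X Y).carrier where
  toFun v := segMk ψ X Y (incP X Y g v) (Submodule.mem_iSup_of_mem g (incP_mem g v))
  map_add' v w := segVal_injective ψ X Y (by
    rw [segVal_segMk, map_add (incP X Y g)]
    refine Eq.trans ?_ (map_add (segVal ψ X Y) _ _).symm
    rfl)
  map_smul' r v := segVal_injective ψ X Y (by
    rw [segVal_segMk, map_smul (incP X Y g)]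
    refine Eq.trans ?_ ((segValK ψ X Y).map_smul r _).symm
    rfl)

theorem toSeg_mem (g : ℤ) (v : pieceK g X ⊗[k] pieceK g Y) : toSeg ψ X Y g v ∈ (Seg ψ X Y).gr g := incP_mem g v

theorem exists_toSeg (g : ℤ) {z : (Seg ψ X Y).carrier} (hz : z ∈ (Seg ψ X Y).gr g) : ∃ v, toSeg ψ X Y g v = z := by
  obtain ⟨v, hv⟩ := exists_incP g (hz : segVal ψ X Y z ∈ _)
  exact ⟨v, segVal_injective ψ X Y hv⟩

theorem toSeg_injective (g : ℤ) : Function.Injective (toSeg ψ X Y g) := fun v w h =>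
  incP_injective (k := k) g (congrArg (segVal ψ X Y) h)

variable {C : Type u} [AddCommGroup C] [Module R C] [Module k C] [IsScalarTower k R C] {𝒞 : ℤ → AddSubgroup C}
  [Decomposition 𝒞] [SetLike.GradedSMul 𝒜 𝒞]
  {D : Type u} [AddCommGroup D] [Module S D] [Module k D] [IsScalarTower k S D] {𝒟 : ℤ → AddSubgroup D}
  [Decomposition 𝒟] [SetLike.GradedSMul ℬ 𝒟]

/-- The restriction of a graded duality to one degree. -/
theorem exists_rho {γ : C →ₗ[k] X.carrier →ₗ[k] k} (hγ : GrSeg.IsGDual R X.gr 𝒞 γ) (n : ℤ)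
    (Cn : Submodule k C) (hCn : ∀ c, c ∈ Cn ↔ c ∈ 𝒞 n) :
    ∃ ρ : Cn ≃ₗ[k] Module.Dual k (pieceK (-n) X), ∀ c x, ρ c x = γ c.1 x.1 := by
  let ρ : Cn →ₗ[k] Module.Dual k (pieceK (-n) X) :=
    LinearMap.lcomp k k (pieceK (-n) X).subtype ∘ₗ γ ∘ₗ Cn.subtype
  refine ⟨LinearEquiv.ofBijective ρ ⟨(injective_iff_map_eq_zero ρ).2 fun c hc => Subtype.ext
    (hγ.eq_zero n c.1 ((hCn _).1 c.2) fun x hx => LinearMap.congr_fun hc ⟨x, hx⟩), fun l => ?_⟩, fun c x => rfl⟩
  obtain ⟨g, hg⟩ := LinearMap.exists_extend l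
  obtain ⟨d, hd, hdg⟩ := hγ.exists_eq n g
  exact ⟨⟨d, (hCn _).2 hd⟩, LinearMap.ext fun x => (hdg x.1 x.2).trans (LinearMap.congr_fun hg x)⟩

variable {P : Type u} [AddCommGroup P] [Module T P] [Module k P] [IsScalarTower k T P] {𝒬 : ℤ → AddSubgroup P}
  [Decomposition 𝒬] {φ : P →ₗ[k] C ⊗[k] D} (hP : GrSeg.IsSegreMod ψ 𝒞 𝒟 𝒬 φ)
  (Z : GrLC.GMod.{u} (addGr 𝒯))

include hP in
/-- The Segre product of graded duals is the graded dual of the Segre product. -/
theorem exists_gdual_segre [∀ g, FiniteDimensional k (pieceK g X)] [∀ g, FiniteDimensional k (pieceK g Y)]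
    {γ : C →ₗ[k] X.carrier →ₗ[k] k} (hγ : GrSeg.IsGDual R X.gr 𝒞 γ)
    {γ' : D →ₗ[k] Y.carrier →ₗ[k] k} (hγ' : GrSeg.IsGDual S Y.gr 𝒟 γ')
    (Φ : (Seg ψ X Y).carrier ≃ₗ[T] Z.carrier) (hΦ : GrLC.IsGrHom (Seg ψ X Y).gr Z.gr Φ.toLinearMap) :
    ∃ β : P →ₗ[k] Z.carrier →ₗ[k] k, GrSeg.IsGDual T Z.gr 𝒬 β := by
  let μ : C ⊗[k] D →ₗ[k] X.carrier ⊗[k] Y.carrier →ₗ[k] k :=
    TensorProduct.dualDistrib k X.carrier Y.carrier ∘ₗ TensorProduct.map γ γ'
  have hμ : ∀ c d x y, μ (c ⊗ₜ[k] d) (x ⊗ₜ[k] y) = γ c x * γ' d y := fun c d x y => by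
    simp only [μ, LinearMap.comp_apply, TensorProduct.map_tmul, TensorProduct.dualDistrib_apply]
  have hact : ∀ u v w, μ (GrSeg.act k R S C D u v) w = μ v (GrSeg.act k R S X.carrier Y.carrier u w) := fun u v w => by
    induction u using TensorProduct.induction_on with
    | zero => simp only [map_zero, LinearMap.zero_apply]
    | add a b ha hb => simp only [map_add, LinearMap.add_apply, ha, hb]
    | tmul a b =>
      induction v using TensorProduct.induction_on with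
      | zero => simp only [map_zero, LinearMap.zero_apply]
      | add c d hc hd => simp only [map_add, LinearMap.add_apply, hc, hd]
      | tmul c d =>
        induction w using TensorProduct.induction_on with
        | zero => simp only [map_zero]
        | add x y hx hy => simp only [map_add, hx, hy]
        | tmul x y => rw [GrSeg.act_tmul, GrSeg.act_tmul, hμ, hμ, hγ.map_smul, hγ'.map_smul]
  let β : P →ₗ[k] Z.carrier →ₗ[k] k :=
    LinearMap.lcomp k k (segValK ψ X Y ∘ₗ Φ.symm.toLinearMap.restrictScalars k) ∘ₗ μ ∘ₗ φ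
  have hβ : ∀ p z, β p z = μ (φ p) (segVal ψ X Y (Φ.symm z)) := fun p z => rfl
  have hΦ' := H4Gr.isGrHom_symm hΦ
  have hk : ∀ r : k, algebraMap k R r ∈ addGr 𝒜 0 := fun r => SetLike.algebraMap_mem_graded 𝒜 r
  have hk' : ∀ r : k, algebraMap k S r ∈ addGr ℬ 0 := fun r => SetLike.algebraMap_mem_graded ℬ r
  let ιC := fun n : ℤ => TensorProduct.map (H4GD.kP hk 𝒞 n).subtype (H4GD.kP hk' 𝒟 n).subtype
  have hιC : ∀ n v, ιC n v ∈ GrSeg.segrePiece k 𝒞 𝒟 n := fun n v => by
    induction v using TensorProduct.induction_on with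
    | zero => rw [map_zero]; exact zero_mem _
    | add x y hx hy => rw [map_add]; exact add_mem hx hy
    | tmul x y => exact Submodule.subset_span ⟨x.1, x.2, y.1, y.2, rfl⟩
  have hιC' : ∀ n w, w ∈ GrSeg.segrePiece k 𝒞 𝒟 n → ∃ v, ιC n v = w := fun n w hw => by
    induction hw using Submodule.span_induction with
    | mem w hw =>
      obtain ⟨x, hx, y, hy, rfl⟩ := hw
      exact ⟨(⟨x, hx⟩ : H4GD.kP hk 𝒞 n) ⊗ₜ[k] (⟨y, hy⟩ : H4GD.kP hk' 𝒟 n), rfl⟩
    | zero => exact ⟨0, map_zero _⟩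
    | add x y _ _ hx hy =>
      obtain ⟨v, rfl⟩ := hx
      obtain ⟨v', rfl⟩ := hy
      exact ⟨v + v', map_add _ _ _⟩
    | smul r x _ hx =>
      obtain ⟨v, rfl⟩ := hx
      exact ⟨r • v, map_smul _ _ _⟩
  have key : ∀ n : ℤ, ∃ Θ : (H4GD.kP hk 𝒞 n) ⊗[k] (H4GD.kP hk' 𝒟 n) ≃ₗ[k]
      Module.Dual k (pieceK (-n) X ⊗[k] pieceK (-n) Y),
      ∀ v w, Θ v w = μ (ιC n v) (incP X Y (-n) w) := fun n => by
    obtain ⟨ρ, hρ⟩ := exists_rho X hγ n (H4GD.kP hk 𝒞 n) fun c => Iff.rfl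
    obtain ⟨ρ', hρ'⟩ := exists_rho Y hγ' n (H4GD.kP hk' 𝒟 n) fun c => Iff.rfl
    refine ⟨TensorProduct.congr ρ ρ' ≪≫ₗ TensorProduct.dualDistribEquiv k _ _, fun v w => ?_⟩
    induction v using TensorProduct.induction_on with
    | zero => simp only [map_zero, LinearMap.zero_apply]
    | add a b ha hb => simp only [map_add, LinearMap.add_apply, ha, hb]
    | tmul c d =>
      induction w using TensorProduct.induction_on with
      | zero => simp only [map_zero]
      | add a b ha hb => simp only [map_add, ha, hb]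
      | tmul x y =>
        show TensorProduct.dualDistrib k _ _ (ρ c ⊗ₜ[k] ρ' d) (x ⊗ₜ[k] y) = _
        rw [TensorProduct.dualDistrib_apply, hρ, hρ']
        exact (hμ c.1 d.1 x.1 y.1).symm
  refine ⟨β, ⟨fun t p z => ?_, fun n p hp m hm z hz => ?_, fun n p hp h => ?_, fun n G => ?_⟩⟩
  · rw [hβ, hβ, hP.map_smul, hact, map_smul Φ.symm t z, segVal_smul]
  · rw [hβ]
    have h1 : φ p ∈ GrSeg.segrePiece k 𝒞 𝒟 n := (hP.image_piece n).subset ⟨p, hp, rfl⟩
    have h2 : segVal ψ X Y (Φ.symm z) ∈ GrSeg.segrePiece k X.gr Y.gr m := hΦ' m z hz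
    generalize φ p = v at h1 ⊢
    generalize segVal ψ X Y (Φ.symm z) = w at h2 ⊢
    induction h1 using Submodule.span_induction with
    | mem v hv =>
      obtain ⟨c, hc, d, hd, rfl⟩ := hv
      induction h2 using Submodule.span_induction with
      | mem w hw =>
        obtain ⟨x, hx, y, hy, rfl⟩ := hw
        rw [hμ, hγ.vanish n c hc m hm x hx, zero_mul]
      | zero => exact map_zero _
      | add a b _ _ ha hb => rw [map_add, ha, hb, add_zero]
      | smul r a _ ha => rw [map_smul, ha, smul_zero]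
    | zero => rw [map_zero, LinearMap.zero_apply]
    | add a b _ _ ha hb => rw [map_add, LinearMap.add_apply, ha, hb, add_zero]
    | smul r a _ ha => rw [map_smul, LinearMap.smul_apply, ha, smul_zero]
  · obtain ⟨Θ, hΘ⟩ := key n
    obtain ⟨v, hv⟩ := hιC' n _ ((hP.image_piece n).subset ⟨p, hp, rfl⟩)
    have hv0 : v = 0 := Θ.map_eq_zero_iff.1 (LinearMap.ext fun w => by
      have h1 := h (Φ (toSeg ψ X Y (-n) w)) (hΦ _ _ (toSeg_mem ψ X Y (-n) w))
      rw [hβ, Φ.symm_apply_apply, ← hv] at h1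
      rw [hΘ, LinearMap.zero_apply]
      exact h1)
    refine hP.injective ?_
    rw [← hv, hv0, map_zero, map_zero]
  · obtain ⟨Θ, hΘ⟩ := key n
    let v := Θ.symm (G ∘ₗ Φ.toLinearMap.restrictScalars k ∘ₗ toSeg ψ X Y (-n))
    obtain ⟨p, hp, hpv⟩ := (hP.image_piece n).superset (hιC n v)
    refine ⟨p, hp, fun z hz => ?_⟩
    obtain ⟨w, hw⟩ := exists_toSeg ψ X Y (-n) (hΦ' (-n) z hz)
    have h1 : Θ v w = G (Φ (toSeg ψ X Y (-n) w)) := by rw [LinearEquiv.apply_symm_apply]; rfl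
    rw [hw, show Φ (Φ.symm.toLinearMap z) = z from Φ.apply_symm_apply z, hΘ, ← hpv] at h1
    refine Eq.trans ?_ h1
    rw [hβ]
    exact congrArg (μ (φ p)) (congrArg (segVal ψ X Y) hw).symm

end Groth.Agent.H4KS
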