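import Groth.Agent.H4KS.SegCanon
import Groth.Agent.H4Ver.Type
import Groth.Agent.S18647

/-!
# Segre products of Gorenstein rings
-/

set_option autoImplicit false
set_option linter.unusedSectionVars false
set_option linter.style.haveILetI false

universe u

open DirectSum
open scoped TensorProduct

namespace Groth.Agent.H4KS

variable {k : Type u} [Field k] {R : Type u} [CommRing R] [Algebra k R] {𝒜 : ℤ → Submodule k R} [GradedAlgebra 𝒜]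

theorem isStarLocal_addGr (hpos : ∀ n : ℤ, n < 0 → 𝒜 n = ⊥) (h0 : 𝒜 0 = Submodule.span k {(1 : R)}) [Nontrivial R]
    (m : HomogeneousIdeal 𝒜) (hm : m.toIdeal = Ideal.span (⋃ n ∈ Set.Ioi (0 : ℤ), (𝒜 n : Set R))) :
    GrLC.IsStarLocal (addGr 𝒜) (idealA 𝒜 m) :=
  H4Ver.isStarLocal_of_span (H4GD.addGr_hpos hpos) (H4GD.isField_deg0 H4GD.addGr_hk (H4GD.addGr_hsurj h0)) hm

/-- The pieces of the shifted algebra. -/
abbrev shA (𝒜 : ℤ → Submodule k R) [GradedAlgebra 𝒜] (a : ℤ) : ℤ → AddSubgroup R :=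
  H4Gr.shiftPieces (addGr 𝒜) a

theorem gradedSMul_shA (a : ℤ) : SetLike.GradedSMul 𝒜 (shA 𝒜 a) :=
  ⟨fun {i j c x} hc hx => by
    show c • x ∈ addGr 𝒜 ((i +ᵥ j) + a)
    rw [vadd_eq_add, add_assoc]
    exact SetLike.GradedMul.mul_mem hc (show x ∈ 𝒜 (j + a) from hx)⟩

theorem exists_shift_canonical [Algebra.FiniteType k R] [IsNoetherianRing R] [Nontrivial R]
    [LocCoh.IsGorensteinRing R] (hpos : ∀ n : ℤ, n < 0 → 𝒜 n = ⊥) (h0 : 𝒜 0 = Submodule.span k {(1 : R)})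
    (m : HomogeneousIdeal 𝒜) (hm : m.toIdeal = Ideal.span (⋃ n ∈ Set.Ioi (0 : ℤ), (𝒜 n : Set R)))
    {n : ℕ} (hn : ringKrullDim R = n) (I : GrLC.StarInjRes 𝒜 𝒜) :
    ∃ a : ℤ, GrLC.endDeg (I.Hgr m n) = ((a : WithTop ℤ) : WithBot (WithTop ℤ)) ∧
      ∀ {E : Type u} [AddCommGroup E] [Module R E] {𝓔 : ℤ → AddSubgroup E} [Decomposition 𝓔]
        [SetLike.GradedSMul 𝒜 𝓔] {e : (R ⧸ m.toIdeal) →ₗ[R] E},
        GrLC.IsStarInjHull 𝒜 (GrLC.quotGr 𝒜 m) 𝓔 e →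
          letI := (H4Gr.isInternal_shiftPieces (ℳ := addGr 𝒜) a).chooseDecomposition
          haveI := gradedSMul_shA (𝒜 := 𝒜) a
          GrLC.IsStarCanonical 𝒜 (shA 𝒜 a) 𝓔 m n I := by
  haveI := H4Ver.isCohenMacaulayRing_of_gorenstein R
  have hloc := isStarLocal_addGr hpos h0 m hm
  let X := hMod (idealA 𝒜 m) (addRes I) n
  letI : Module k ((addRes I).H (idealA 𝒜 m) n) := inferInstanceAs (Module k X.carrier)
  letI : SMul k ((addRes I).H (idealA 𝒜 m) n) := ‹Module k ((addRes I).H (idealA 𝒜 m) n)›.toSMul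
  haveI : IsScalarTower k R ((addRes I).H (idealA 𝒜 m) n) := IsScalarTower.of_algebraMap_smul fun _ _ => rfl
  letI := (H4Gr.isInternal_Hgr (idealA 𝒜 m) (addRes I) n).chooseDecomposition
  haveI := H4Gr.gradedSMul_Hgr (idealA 𝒜 m) (addRes I) n
  obtain ⟨a, γ, ha, hγ⟩ := H4Ver.exists_gdual_gor (𝒜 := addGr 𝒜) H4GD.addGr_hk (H4GD.addGr_hsurj h0)
    (H4GD.addGr_hpos hpos) (m := idealA 𝒜 m) hm hloc hn (addRes I)
  refine ⟨a, ha, ?_⟩
  intro E _ _ 𝓔 _ _ e he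
  letI := (H4Gr.isInternal_shiftPieces (ℳ := addGr 𝒜) a).chooseDecomposition
  haveI := gradedSMul_shA (𝒜 := 𝒜) a
  haveI := H4Gr.gradedSMul_shiftPieces (𝒜 := addGr 𝒜) (ℳ := addGr 𝒜) a
  letI : Module k E := Module.compHom E (algebraMap k R)
  haveI : IsScalarTower k R E := IsScalarTower.of_algebraMap_smul fun _ _ => rfl
  exact (isStarCanonical_addGr_iff m n I).1 (H4GD.canonical_of_gdual (𝒜 := addGr 𝒜) H4GD.addGr_hk
    (H4GD.addGr_hsurj h0) (H4GD.addGr_hpos hpos) (idealA 𝒜 m) hm n (addRes I) (isStarInjHull_addGr m he)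
    (γ := γ) hγ)

theorem exists_hull_alg [IsNoetherianRing R] [Nontrivial R] (hpos : ∀ n : ℤ, n < 0 → 𝒜 n = ⊥)
    (h0 : 𝒜 0 = Submodule.span k {(1 : R)}) (m : HomogeneousIdeal 𝒜)
    (hm : m.toIdeal = Ideal.span (⋃ n ∈ Set.Ioi (0 : ℤ), (𝒜 n : Set R))) :
    ∃ (E : GrLC.GMod.{u} 𝒜) (e : (R ⧸ m.toIdeal) →ₗ[R] E.carrier),
      GrLC.IsStarInjHull 𝒜 (GrLC.quotGr 𝒜 m) E.gr e := by
  obtain ⟨E, e, he⟩ := H4Ver.exists_hull (𝒜 := addGr 𝒜) (isStarLocal_addGr hpos h0 m hm)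
  refine ⟨fromA 𝒜 E, e, ⟨⟨he.injective, fun i x hx => he.grHom i x hx, he.essential⟩, ?_⟩⟩
  exact (starInj_iff 𝒜 E.gr).1 he.starInj

variable {S : Type u} [CommRing S] [Algebra k S] {ℬ : ℤ → Submodule k S} [GradedAlgebra ℬ]
  {T : Type u} [CommRing T] [Algebra k T] {𝒯 : ℤ → Submodule k T} [GradedAlgebra 𝒯]
  {ψ : T →ₐ[k] R ⊗[k] S}

theorem isSegreMod_shift_self (hT : GrSeg.IsSegreRing 𝒜 ℬ 𝒯 ψ) (a : ℤ) :
    letI := (H4Gr.isInternal_shiftPieces (ℳ := addGr 𝒯) a).chooseDecomposition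
    GrSeg.IsSegreMod ψ (shA 𝒜 a) (shA ℬ a) (shA 𝒯 a) ψ.toLinearMap :=
  letI := (H4Gr.isInternal_shiftPieces (ℳ := addGr 𝒯) a).chooseDecomposition
  { injective := hT.1
    image_piece := fun n => (isSegreMod_self hT).image_piece (n + a)
    map_smul := fun t x => (isSegreMod_self hT).map_smul t x }

/-- The Segre product of two Gorenstein rings with equal invariants has the shifted ring as canonical module. -/
theorem isGorensteinRing_segre [Algebra.FiniteType k R] [Algebra.FiniteType k S] [Nontrivial R] [Nontrivial S]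
    [LocCoh.IsGorensteinRing R] [LocCoh.IsGorensteinRing S] [LocCoh.IsCohenMacaulayRing T]
    (hposR : ∀ n : ℤ, n < 0 → 𝒜 n = ⊥) (h0R : 𝒜 0 = Submodule.span k {(1 : R)})
    (hposS : ∀ n : ℤ, n < 0 → ℬ n = ⊥) (h0S : ℬ 0 = Submodule.span k {(1 : S)})
    (hT : GrSeg.IsSegreRing 𝒜 ℬ 𝒯 ψ)
    (mR : HomogeneousIdeal 𝒜) (hmR : mR.toIdeal = Ideal.span (⋃ n ∈ Set.Ioi (0 : ℤ), (𝒜 n : Set R)))
    (mS : HomogeneousIdeal ℬ) (hmS : mS.toIdeal = Ideal.span (⋃ n ∈ Set.Ioi (0 : ℤ), (ℬ n : Set S)))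
    (I : GrLC.StarInjRes 𝒜 𝒜) (J : GrLC.StarInjRes ℬ ℬ) {p q : ℕ} (hr : ringKrullDim R = (p + 2 : ℕ))
    (hs : ringKrullDim S = (q + 2 : ℕ))
    (haeq : GrLC.endDeg (I.Hgr mR (p + 2)) = GrLC.endDeg (J.Hgr mS (q + 2))) : LocCoh.IsGorensteinRing T := by
  haveI : IsNoetherianRing R := Algebra.FiniteType.isNoetherianRing k R
  haveI : IsNoetherianRing S := Algebra.FiniteType.isNoetherianRing k S
  haveI := isNoetherianRing_T hT
  haveI := nontrivial_T hT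
  have hposT := negT hT hposR
  have h0T := deg0_segre hT h0R h0S
  let mT : HomogeneousIdeal 𝒯 := ⟨H4Segre.irr 𝒯, H4Segre.isHomogeneous_irr 𝒯⟩
  obtain ⟨a, ha, hCR⟩ := exists_shift_canonical hposR h0R mR hmR hr I
  obtain ⟨a', ha', hCS⟩ := exists_shift_canonical hposS h0S mS hmS hs J
  rw [ha, ha'] at haeq
  obtain rfl : a = a' := by exact_mod_cast WithTop.coe_eq_coe.1 (WithBot.coe_eq_coe.1 haeq)
  obtain ⟨IT₀⟩ := nonempty_starInjRes 𝒯 (addGr 𝒯)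
  let IT : GrLC.StarInjRes 𝒯 𝒯 := {
    X := IT₀.X, d := IT₀.d, ε := IT₀.ε, d_grHom := IT₀.d_grHom,
    ε_grHom := IT₀.ε_grHom, ε_injective := IT₀.ε_injective, exact_zero := IT₀.exact_zero,
    exact_succ := IT₀.exact_succ, starInj := IT₀.starInj }
  obtain ⟨ER, eR, heR⟩ := exists_hull_alg hposR h0R mR hmR
  obtain ⟨ES, eS, heS⟩ := exists_hull_alg hposS h0S mS hmS
  obtain ⟨ET, eT', heT⟩ := exists_hull_alg hposT h0T mT rfl
  letI := (H4Gr.isInternal_shiftPieces (ℳ := addGr 𝒜) a).chooseDecomposition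
  haveI := gradedSMul_shA (𝒜 := 𝒜) a
  letI := (H4Gr.isInternal_shiftPieces (ℳ := addGr ℬ) a).chooseDecomposition
  haveI := gradedSMul_shA (𝒜 := ℬ) a
  letI := (H4Gr.isInternal_shiftPieces (ℳ := addGr 𝒯) a).chooseDecomposition
  haveI := gradedSMul_shA (𝒜 := 𝒯) a
  haveI := H4Gr.gradedSMul_shiftPieces (𝒜 := addGr 𝒯) (ℳ := addGr 𝒯) a
  have hC := isStarCanonical_segre hposR h0R hposS h0S hT mR hmR mS hmS mT rfl I J IT hr hs heR (hCR heR) heS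
    (hCS heS) heT (isSegreMod_shift_self hT a)
  have hdim : ringKrullDim T = ((p + q + 3 : ℕ) : WithBot ℕ∞) := by
    rw [S18647.result k R 𝒜 hposR h0R S ℬ hposS h0S T 𝒯 ψ hT.1 hT.2 (p + 2) (q + 2) hr hs (by omega) (by omega),
      show p + 2 + (q + 2) - 1 = p + q + 3 by omega]
  refine (H4GD.isGorensteinRing_iff_exists_shift (𝒜 := addGr 𝒯) H4GD.addGr_hk (H4GD.addGr_hsurj h0T)
    (H4GD.addGr_hpos hposT) (m := idealA 𝒯 mT) rfl (isStarLocal_addGr hposT h0T mT rfl) hdim (addRes IT)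
    (isStarInjHull_addGr mT heT) ((isStarCanonical_addGr_iff mT _ IT).2 hC)).2
    ⟨-a, LinearMap.id, Function.bijective_id, fun j x hx => ?_⟩
  show x ∈ 𝒯 (j + -a + a)
  rwa [neg_add_cancel_right]

end Groth.Agent.H4KS
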