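import Groth.Agent.H4KS.App
import Groth.Agent.H4KS.RingCM
import Groth.Agent.H4GD.Alg
import Groth.Agent.H4Ver.Std
import Groth.Agent.H4Ver.Extend
import Groth.Agent.H02CA.GorFlat

/-!
# Segre products of one dimensional algebras
-/

set_option autoImplicit false
set_option linter.unusedSectionVars false
set_option linter.style.haveILetI false

universe u

open DirectSum
open scoped TensorProduct

namespace Groth.Agent.H4KS.One

variable {k : Type u} [Field k] {R : Type u} [CommRing R] [Algebra k R] {𝒜 : ℤ → Submodule k R} [GradedAlgebra 𝒜]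

section Std

variable [Algebra.FiniteType k R] [Nontrivial R] [LocCoh.IsCohenMacaulayRing R]
  (hpos : ∀ n : ℤ, n < 0 → 𝒜 n = ⊥) (h0 : 𝒜 0 = Submodule.span k {(1 : R)})
  (hstd : Ideal.span (⋃ n ∈ Set.Ioi (0 : ℤ), (𝒜 n : Set R)) = Ideal.span ((𝒜 1 : Submodule k R) : Set R))
  (hd : ringKrullDim R = 1)

include h0 in
omit [LocCoh.IsCohenMacaulayRing R] in
theorem finite_piece (n : ℤ) : FiniteDimensional k (𝒜 n) := by
  haveI : IsNoetherianRing R := Algebra.FiniteType.isNoetherianRing k R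
  haveI := H4GD.finite_kP (k := k) (𝒜 := addGr 𝒜) H4GD.addGr_hk (H4GD.addGr_hsurj h0) (ℳ := addGr 𝒜) n
  exact Module.Finite.equiv (R := k)
    ({ toFun := fun x => ⟨x.1, x.2⟩, invFun := fun x => ⟨x.1, x.2⟩, map_add' := fun _ _ => rfl,
       map_smul' := fun _ _ => rfl } : H4GD.kP (H4GD.addGr_hk (𝒜 := 𝒜)) (addGr 𝒜) n ≃ₗ[k] 𝒜 n)

include hpos h0 hd in
omit [LocCoh.IsCohenMacaulayRing R] in
theorem irr_not_le {P : Ideal R} (hP : P ∈ minimalPrimes R) : ¬ H4Segre.irr 𝒜 ≤ P := fun hle => by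
  haveI : IsNoetherianRing R := Algebra.FiniteType.isNoetherianRing k R
  haveI := H4Segre.isMaximal_irr 𝒜 hpos h0
  haveI := hP.1.1
  have hzero : Ring.KrullDimLE 0 R := Ring.krullDimLE_zero_iff.2 fun Q hQ => by
    obtain ⟨Q₀, hQ₀, hQ₀Q⟩ := Ideal.exists_minimalPrimes_le (I := (⊥ : Ideal R)) (J := Q) bot_le
    have hP' : P = H4Segre.irr 𝒜 := ((Ideal.IsMaximal.eq_of_le inferInstance hP.1.1.ne_top hle)).symm
    haveI := hQ₀.1.1
    have h1 : Q₀ ≤ P := hP' ▸ H4Segre.le_irr_of_isHomogeneous 𝒜 hpos h0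
      (H4Segre.isHomogeneous_of_minimalPrimes 𝒜 (Ideal.IsHomogeneous.bot 𝒜) hQ₀) hQ₀.1.1.ne_top
    have h2 : P ≤ Q := (hP.2 ⟨hQ₀.1.1, bot_le⟩ h1).trans hQ₀Q
    rw [hP'] at h2
    exact (Ideal.IsMaximal.eq_of_le inferInstance hQ.ne_top h2) ▸ inferInstance
  have h : ringKrullDim R ≤ (0 : ℕ) := hzero.1
  rw [hd] at h
  exact absurd h (by norm_cast)

include hpos h0 hd in
/-- Homogeneous nonzerodivisors exist, and their radical is the irrelevant ideal. -/
theorem exists_nzd :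
    ∃ d : ℕ, 0 < d ∧ ∃ x ∈ 𝒜 (d : ℤ), IsSMulRegular R x ∧ H4Segre.irr 𝒜 ≤ (Ideal.span {x}).radical := by
  classical
  haveI : IsNoetherianRing R := Algebra.FiniteType.isNoetherianRing k R
  haveI := H4Segre.isMaximal_irr 𝒜 hpos h0
  obtain ⟨d, hdp, x, hx, hxP⟩ := H4Segre.exists_avoid 𝒜 hpos (minimalPrimes.finite_of_isNoetherianRing R).toFinset
    (fun P hP => by
      rw [Set.Finite.mem_toFinset] at hP
      exact ⟨hP.1.1, H4Segre.isHomogeneous_of_minimalPrimes 𝒜 (Ideal.IsHomogeneous.bot 𝒜) hP, irr_not_le hpos h0 hd hP⟩)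
    (fun P hP Q hQ hPQ => by
      rw [Set.Finite.mem_toFinset] at hP hQ
      exact le_antisymm hPQ (hQ.2 hP.1 hPQ))
  simp only [Set.Finite.mem_toFinset] at hxP
  have hxirr : x ∈ H4Segre.irr 𝒜 := H4Segre.mem_irr_of_pos 𝒜 (by exact_mod_cast hdp) hx
  have hne : Ideal.span {x} ≠ ⊤ := fun h =>
    (inferInstance : (H4Segre.irr 𝒜).IsMaximal).ne_top (top_le_iff.1 (h.ge.trans ((Ideal.span_singleton_le_iff_mem _).2 hxirr)))
  have hnm : ∀ P : Ideal R, P.IsPrime → Ideal.span {x} ≤ P → P ∉ minimalPrimes R := fun P _ hle hP =>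
    hxP P hP (hle (Ideal.mem_span_singleton_self x))
  have hh : ((1 : ℕ) : ℕ∞) ≤ (Ideal.span {x}).height := by
    rw [Ideal.height_eq_inf_minimalPrimes]
    refine le_iInf₂ fun P hP => ?_
    haveI := hP.1.1
    rw [Nat.cast_one, Order.one_le_iff_ne_zero, Ne, Ideal.height_eq_zero_iff]
    exact hnm P hP.1.1 hP.1.2
  have hdep : ((1 : ℕ) : ℕ∞) ≤ LocCoh.idealDepth (Ideal.span {x}) R := by
    rw [(S14424.result R).1 inferInstance _ hne]; exact hh
  obtain ⟨rs, hlen, hmem, hreg⟩ := H4Depth.exists_isWeaklyRegular_of_le_idealDepth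
    (by rwa [smul_eq_mul, Ideal.mul_top]) hdep
  obtain ⟨s, rfl⟩ := List.length_eq_one_iff.1 hlen
  rw [RingTheory.Sequence.isWeaklyRegular_cons_iff] at hreg
  obtain ⟨c, hc⟩ := Ideal.mem_span_singleton'.1 (hmem s (by simp))
  refine ⟨d, hdp, x, hx, fun a b hab => hreg.1 ?_, ?_⟩
  · show s • a = s • b
    rw [← hc, ← smul_eq_mul, smul_assoc, smul_assoc]
    exact congrArg (c • ·) hab
  · rw [← Ideal.sInf_minimalPrimes]
    refine le_sInf fun P hP => ?_
    haveI := hP.1.1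
    have hhom : P.IsHomogeneous 𝒜 := H4Segre.isHomogeneous_of_minimalPrimes 𝒜
      (Ideal.homogeneous_span 𝒜 _ fun y hy => ⟨(d : ℤ), Set.mem_singleton_iff.1 hy ▸ hx⟩) hP
    by_contra hcon
    have hle := H4Segre.le_irr_of_isHomogeneous 𝒜 hpos h0 hhom hP.1.1.ne_top
    have hlt : P < H4Segre.irr 𝒜 := lt_of_le_not_ge hle hcon
    obtain ⟨P₀, hP₀, hP₀P⟩ := Ideal.exists_minimalPrimes_le (I := (⊥ : Ideal R)) (J := P) bot_le
    haveI := hP₀.1.1
    have hlt₀ : P₀ < P := lt_of_le_of_ne hP₀P fun h => hnm P hP.1.1 hP.1.2 (h ▸ hP₀)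
    have h2 : ((2 : ℕ) : WithBot ℕ∞) ≤ ringKrullDim R := by
      let l : LTSeries (PrimeSpectrum R) :=
        ((RelSeries.singleton _ (⟨P₀, inferInstance⟩ : PrimeSpectrum R)).snoc ⟨P, inferInstance⟩ hlt₀).snoc
          ⟨H4Segre.irr 𝒜, inferInstance⟩ (by rw [RelSeries.last_snoc]; exact hlt)
      exact le_trans (le_of_eq (by rfl)) (Order.LTSeries.length_le_krullDim l)
    rw [hd] at h2
    exact absurd h2 (by norm_cast)

include hstd in
omit [Algebra.FiniteType k R] [Nontrivial R] [LocCoh.IsCohenMacaulayRing R] in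
theorem exists_stable {d : ℕ} (hdp : 0 < d) {x : R} (hx : x ∈ 𝒜 (d : ℤ)) [IsNoetherianRing R]
    (hrad : H4Segre.irr 𝒜 ≤ (Ideal.span {x}).radical) :
    ∃ N : ℕ, ∀ n : ℤ, (N : ℤ) ≤ n → ∀ y ∈ 𝒜 (n + d), ∃ r ∈ 𝒜 n, x * r = y := by
  obtain ⟨M, hM⟩ := Ideal.exists_pow_le_of_le_radical_of_fg hrad (IsNoetherian.noetherian _)
  refine ⟨M, fun n hn y hy => ?_⟩
  obtain ⟨t, ht⟩ : ∃ t : ℕ, n + d = (M : ℤ) + t := ⟨(n + d - M).toNat, by omega⟩
  have hmul := H4Ver.piece_mul (𝒜 := addGr 𝒜) (hstd :) M (s := (t : ℤ)) (by omega) (x := y)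
    (by rw [show (t : ℤ) + M = n + d by omega]; exact hy)
  have hpow : ∀ v ∈ 𝒜 (M : ℤ), v ∈ Ideal.span {x} := by
    intro v hv
    have hv' := H4Ver.piece_mul (𝒜 := addGr 𝒜) (hstd :) M (s := 0) le_rfl (x := v) (by rw [zero_add]; exact hv)
    refine hM ?_
    have key : ∀ (j : ℕ) (w : R), w ∈ 𝒜 (j : ℤ) → w ∈ H4Segre.irr 𝒜 ^ j := by
      intro j
      induction j with
      | zero => intro w _; rw [pow_zero, Ideal.one_eq_top]; exact Submodule.mem_top
      | succ j ih =>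
        intro w hw
        have h := H4Ver.piece_mul (𝒜 := addGr 𝒜) (hstd :) j (s := (1 : ℤ)) one_pos.le (x := w)
          (by rw [show (1 : ℤ) + j = ((j + 1 : ℕ) : ℤ) by push_cast; ring]; exact hw)
        clear hw
        induction h using AddSubgroup.closure_induction with
        | mem z hz =>
          obtain ⟨a, ha, b, hb, rfl⟩ := hz
          rw [pow_succ']
          exact Ideal.mul_mem_mul (H4Segre.mem_irr_of_pos 𝒜 one_pos ha) (ih b hb)
        | zero => exact zero_mem _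
        | add a b _ _ ha hb => exact add_mem ha hb
        | neg a _ ha => exact neg_mem ha
    exact key M v hv
  have hy' : y ∈ Ideal.span {x} := by
    clear hy
    induction hmul using AddSubgroup.closure_induction with
    | mem z hz =>
      obtain ⟨a, -, b, hb, rfl⟩ := hz
      exact Ideal.mul_mem_left _ a (hpow b hb)
    | zero => exact zero_mem _
    | add a b _ _ ha hb => exact add_mem ha hb
    | neg a _ ha => exact neg_mem ha
  obtain ⟨r, hr⟩ := Ideal.mem_span_singleton'.1 hy'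
  refine ⟨H4Gr.proj (addGr 𝒜) n r, (H4Gr.proj_mem (addGr 𝒜) n r :), ?_⟩
  have h := H4Gr.proj_smul (𝒜 := addGr 𝒜) (ℳ := addGr 𝒜) (show x ∈ addGr 𝒜 (d : ℤ) from hx) (n + d) r
  rw [smul_eq_mul, smul_eq_mul, mul_comm x r, hr, H4Gr.proj_same (show y ∈ addGr 𝒜 (n + d) from hy),
    add_sub_cancel_right] at h
  exact h.symm

include h0 in
omit [LocCoh.IsCohenMacaulayRing R] in
theorem finrank_le_add {d : ℕ} {x : R} (hx : x ∈ 𝒜 (d : ℤ)) (hreg : IsSMulRegular R x) (n : ℤ) :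
    Module.finrank k (𝒜 n) ≤ Module.finrank k (𝒜 (n + d)) ∧
      (Module.finrank k (𝒜 n) = Module.finrank k (𝒜 (n + d)) → ∀ y ∈ 𝒜 (n + d), ∃ r ∈ 𝒜 n, x * r = y) := by
  haveI := finite_piece h0 (n + d)
  haveI := finite_piece h0 n
  let f : 𝒜 n →ₗ[k] 𝒜 (n + d) :=
    { toFun := fun r => ⟨x * r.1, by rw [add_comm]; exact SetLike.mul_mem_graded hx r.2⟩
      map_add' := fun a b => Subtype.ext (mul_add x a.1 b.1)
      map_smul' := fun c a => Subtype.ext (mul_smul_comm c x a.1) }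
  have hf : Function.Injective f := fun a b h => Subtype.ext (hreg (congrArg Subtype.val h :))
  refine ⟨LinearMap.finrank_le_finrank_of_injective hf, fun he y hy => ?_⟩
  obtain ⟨r, hr⟩ := (LinearMap.injective_iff_surjective_of_finrank_eq_finrank he).1 hf ⟨y, hy⟩
  exact ⟨r.1, r.2, congrArg Subtype.val hr⟩

include hpos h0 hstd hd in
/-- A standard algebra with a line in some positive degree is a polynomial ring. -/
theorem exists_aeval_bijective {m : ℕ} (hm : 1 ≤ m) (h1 : Module.finrank k (𝒜 (m : ℤ)) ≤ 1) :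
    ∃ y ∈ 𝒜 1, Function.Bijective (Polynomial.aeval (R := k) y) := by
  classical
  haveI : IsNoetherianRing R := Algebra.FiniteType.isNoetherianRing k R
  obtain ⟨d, hdp, x, hx, hreg, hrad⟩ := exists_nzd hpos h0 hd
  obtain ⟨y, hy, hnil⟩ : ∃ y ∈ 𝒜 1, ¬ IsNilpotent y := by
    by_contra hc
    push Not at hc
    have hle : H4Segre.irr 𝒜 ≤ nilradical R := hstd.le.trans (Ideal.span_le.2 fun x hx => hc x hx)
    obtain ⟨j, hj⟩ := hle (H4Segre.mem_irr_of_pos 𝒜 (by exact_mod_cast hdp) hx)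
    exact one_ne_zero (α := R) ((hreg.pow j) (by show x ^ j * 1 = x ^ j * 0; rw [hj, zero_mul, zero_mul]))
  have hpow : ∀ t : ℕ, y ^ t ∈ 𝒜 (t : ℤ) := fun t => by
    have := SetLike.pow_mem_graded t hy
    rwa [nsmul_one] at this
  haveI := finite_piece (𝒜 := 𝒜) h0 (m : ℤ)
  have hline : ∀ j : ℕ, ∀ v ∈ 𝒜 ((m + j : ℕ) : ℤ), ∃ c : k, v = c • y ^ (m + j) := by
    intro j
    induction j with
    | zero =>
      intro v hv
      have hne : (⟨y ^ m, hpow m⟩ : 𝒜 (m : ℤ)) ≠ 0 := fun e => hnil ⟨m, congrArg Subtype.val e⟩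
      have hone : Module.finrank k (𝒜 (m : ℤ)) = 1 := by
        have : 0 < Module.finrank k (𝒜 (m : ℤ)) := Module.finrank_pos_iff_exists_ne_zero.2 ⟨_, hne⟩
        omega
      obtain ⟨c, hc⟩ := exists_smul_eq_of_finrank_eq_one hone hne ⟨v, hv⟩
      exact ⟨c, (congrArg Subtype.val hc :).symm⟩
    | succ j ih =>
      intro v hv
      have h := H4Ver.piece_mul (𝒜 := addGr 𝒜) (hstd :) 1 (s := ((m + j : ℕ) : ℤ)) (by omega) (x := v)
        (by rw [show ((m + j : ℕ) : ℤ) + ((1 : ℕ) : ℤ) = ((m + (j + 1) : ℕ) : ℤ) by push_cast; ring]; exact hv)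
      clear hv
      induction h using AddSubgroup.closure_induction with
      | mem z hz =>
        obtain ⟨a, ha, b, hb, rfl⟩ := hz
        obtain ⟨c, rfl⟩ := ih a ha
        have hb1 : b ∈ 𝒜 1 := hb
        obtain ⟨c', hc'⟩ := ih (y ^ (m + j - 1) * b) (by
          rw [show ((m + j : ℕ) : ℤ) = ((m + j - 1 : ℕ) : ℤ) + 1 by omega]
          exact SetLike.mul_mem_graded (hpow _) hb1)
        refine ⟨c * c', ?_⟩
        have he : y ^ (m + j) = y * y ^ (m + j - 1) := by rw [← pow_succ', show m + j - 1 + 1 = m + j by omega]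
        calc (c • y ^ (m + j)) * b = c • (y * (y ^ (m + j - 1) * b)) := by rw [he, smul_mul_assoc, mul_assoc]
          _ = (c * c') • y ^ (m + (j + 1)) := by
            rw [hc', mul_smul_comm, smul_smul, ← pow_succ', Nat.add_assoc]
      | zero => exact ⟨0, (zero_smul _ _).symm⟩
      | add a b _ _ ha hb =>
        obtain ⟨c, rfl⟩ := ha; obtain ⟨c', rfl⟩ := hb
        exact ⟨c + c', (add_smul _ _ _).symm⟩
      | neg a _ ha =>
        obtain ⟨c, rfl⟩ := ha
        exact ⟨-c, (neg_smul _ _).symm⟩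
  have hyreg : IsSMulRegular R y := by
    obtain ⟨j, hj⟩ : ∃ j, d * m = m + j := ⟨d * m - m, by have := Nat.le_mul_of_pos_left m hdp; omega⟩
    obtain ⟨c, hc⟩ := hline j (x ^ m) (by
      rw [← hj]
      have := SetLike.pow_mem_graded m hx
      rwa [nsmul_eq_mul, ← Nat.cast_mul, mul_comm] at this)
    intro a b hab
    refine (hreg.pow m) ?_
    show x ^ m * a = x ^ m * b
    have hab' : y * a = y * b := hab
    rw [hc, show m + j = (m + j - 1) + 1 by omega, pow_succ, smul_mul_assoc, smul_mul_assoc, mul_assoc, hab', mul_assoc]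
  have hall : ∀ t : ℕ, ∀ v ∈ 𝒜 (t : ℤ), ∃ c : k, v = c • y ^ t := fun t v hv => by
    obtain ⟨c, hc⟩ := hline t (y ^ m * v) (by
      push_cast
      exact SetLike.mul_mem_graded (hpow m) hv)
    exact ⟨c, (hyreg.pow m) (by show y ^ m * v = y ^ m * (c • y ^ t); rw [hc, mul_smul_comm, pow_add])⟩
  refine ⟨y, hy, (injective_iff_map_eq_zero _).2 fun p hp => ?_, fun r => ?_⟩
  · ext i
    have h := congrArg (H4Gr.proj (addGr 𝒜) (i : ℤ)) hp
    rw [Polynomial.aeval_eq_sum_range, map_sum, map_zero] at h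
    have hterm : ∀ l : ℕ, H4Gr.proj (addGr 𝒜) (i : ℤ) (p.coeff l • y ^ l) =
        if l = i then p.coeff l • y ^ l else 0 := fun l => by
      rw [H4Gr.proj_of_mem (show p.coeff l • y ^ l ∈ addGr 𝒜 (l : ℤ) from Submodule.smul_mem _ _ (hpow l))]
      simp only [Nat.cast_inj]
    simp only [hterm, Finset.sum_ite_eq', Finset.mem_range] at h
    rw [Polynomial.coeff_zero]
    split_ifs at h with hi
    · exact (smul_eq_zero.1 h).resolve_right fun e => hnil ⟨i, e⟩
    · exact Polynomial.coeff_eq_zero_of_natDegree_lt (by omega)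
  · induction r using H4Gr.induction (addGr 𝒜) with
    | zero => exact ⟨0, map_zero _⟩
    | add a b ha hb =>
      obtain ⟨p, rfl⟩ := ha; obtain ⟨q, rfl⟩ := hb
      exact ⟨p + q, map_add _ _ _⟩
    | hom g v hv =>
      rcases lt_or_ge g 0 with hg | hg
      · exact ⟨0, by rw [map_zero, (Submodule.eq_bot_iff _).1 (hpos g hg) v hv]⟩
      obtain ⟨t, rfl⟩ : ∃ t : ℕ, g = t := ⟨g.toNat, (Int.toNat_of_nonneg hg).symm⟩
      obtain ⟨c, rfl⟩ := hall t v hv
      exact ⟨c • Polynomial.X ^ t, by rw [map_smul, map_pow, Polynomial.aeval_X]⟩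

end Std

section Socle

variable [Nontrivial R] [LocCoh.IsGorensteinRing R] (hpos : ∀ n : ℤ, n < 0 → 𝒜 n = ⊥)
  (h0 : 𝒜 0 = Submodule.span k {(1 : R)})

include hpos h0 in
theorem exists_scalar (r : R) : ∃ c : k, r - algebraMap k R c ∈ H4Segre.irr 𝒜 := by
  have hz : (decompose 𝒜 r 0 : R) ∈ 𝒜 0 := (decompose 𝒜 r 0).2
  obtain ⟨c, hc⟩ := Submodule.mem_span_singleton.1 (h0.le hz)
  refine ⟨c, (H4Segre.mem_irr_iff 𝒜 hpos).2 ?_⟩
  rw [Algebra.algebraMap_eq_smul_one, decompose_sub, hc]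
  simp

include hpos h0 in
/-- Two socle elements modulo a parameter of a Gorenstein algebra are dependent. -/
theorem socle_dependent {w : R} (hw : w ∈ H4Segre.irr 𝒜) (hreg : IsSMulRegular R w) {M : ℕ}
    (hM : H4Segre.irr 𝒜 ^ M ≤ Ideal.span {w}) {y₁ y₂ : R}
    (h₁ : ∀ r ∈ H4Segre.irr 𝒜, r * y₁ ∈ Ideal.span {w}) (h₂ : ∀ r ∈ H4Segre.irr 𝒜, r * y₂ ∈ Ideal.span {w}) :
    y₁ ∈ Ideal.span {w} ∨ ∃ c : k, y₂ - c • y₁ ∈ Ideal.span {w} := by
  classical
  haveI := H4Segre.isMaximal_irr 𝒜 hpos h0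
  let p := H4Segre.irr 𝒜
  let A := Localization.AtPrime p
  haveI : LocCoh.IsGorensteinLocalRing A := LocCoh.IsGorensteinRing.isGorensteinLocalRing_localization p
  let f : A := algebraMap R A w
  have hfmax : f ∈ IsLocalRing.maximalIdeal A := by
    rw [← Localization.AtPrime.map_eq_maximalIdeal]; exact Ideal.mem_map_of_mem _ hw
  have hfreg : IsSMulRegular A f := fun u v huv => by
    obtain ⟨⟨a, s⟩, ha⟩ := IsLocalization.surj p.primeCompl (u - v)
    have h1 : algebraMap R A (w * a) = 0 := by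
      rw [map_mul, ← ha, ← mul_assoc, mul_sub, show f * u = f * v from huv, sub_self, zero_mul]
    obtain ⟨m, hm⟩ := (IsLocalization.map_eq_zero_iff p.primeCompl A _).1 h1
    have h2 : (m : R) * a = 0 := hreg (by show w * (↑m * a) = w * 0; rw [mul_zero, mul_left_comm]; exact hm)
    have h3 : algebraMap R A a = 0 := (IsLocalization.map_eq_zero_iff p.primeCompl A _).2 ⟨m, h2⟩
    rw [h3] at ha
    exact sub_eq_zero.1 ((IsLocalization.map_units A s).mul_left_eq_zero.1 ha)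
  haveI hG : LocCoh.IsGorensteinLocalRing (A ⧸ Ideal.span {f}) :=
    (H4Goren.isGorensteinLocalRing_quotient_iff hfmax hfreg).1 inferInstance
  let B := A ⧸ Ideal.span {f}
  let π : R →+* B := (Ideal.Quotient.mk _).comp (algebraMap R A)
  have hπw : π w = 0 := Ideal.Quotient.eq_zero_iff_mem.2 (Ideal.mem_span_singleton_self f)
  have hπspan : ∀ r ∈ Ideal.span {w}, π r = 0 := fun r hr => by
    obtain ⟨c, rfl⟩ := Ideal.mem_span_singleton'.1 hr
    rw [map_mul, hπw, mul_zero]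
  have hmax : IsLocalRing.maximalIdeal B = p.map π := by
    rw [← Ideal.map_map, Localization.AtPrime.map_eq_maximalIdeal,
      IsLocalRing.map_maximalIdeal_of_surjective _ Ideal.Quotient.mk_surjective]
  have hdim : ringKrullDim B = 0 := by
    haveI : Ring.KrullDimLE 0 B := Ring.krullDimLE_zero_iff.2 fun Q hQ => by
      have hle : IsLocalRing.maximalIdeal B ≤ Q := by
        refine (hQ.pow_le_iff (n := M + 1) M.succ_ne_zero).1 ?_
        refine (Ideal.pow_le_pow_right M.le_succ).trans ?_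
        rw [hmax, ← Ideal.map_pow, Ideal.map_le_iff_le_comap]
        exact fun r hr => by rw [Ideal.mem_comap, hπspan r (hM hr)]; exact zero_mem _
      exact (IsLocalRing.maximalIdeal.isMaximal B).eq_of_le hQ.ne_top hle ▸ inferInstance
    exact le_antisymm (Ring.krullDimLE_iff.1 inferInstance) ringKrullDim_nonneg_of_nontrivial
  obtain ⟨s, hs, hgen⟩ := H02CA.GorFlat.socleCyclic_of_gor hdim hG
  have hsoc : ∀ y, (∀ r ∈ p, r * y ∈ Ideal.span {w}) → ∀ a ∈ IsLocalRing.maximalIdeal B, a * π y = 0 := by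
    intro y hy a ha
    have hle : p.map π ≤ LinearMap.ker (LinearMap.mulRight B (π y)) := Ideal.map_le_iff_le_comap.2 fun r hr => by
      show π r * π y = 0
      rw [← map_mul, hπspan _ (hy r hr)]
    exact hle (hmax ▸ ha)
  have hback : ∀ y, π y = 0 → y ∈ Ideal.span {w} ∨ ∃ u, u ∉ p ∧ u * y ∈ Ideal.span {w} := by
    intro y hy
    have h : algebraMap R A y ∈ (Ideal.span {w}).map (algebraMap R A) := by
      rw [Ideal.map_span, Set.image_singleton]
      exact Ideal.Quotient.eq_zero_iff_mem.1 hy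
    obtain ⟨u, hu, hu'⟩ := (IsLocalization.algebraMap_mem_map_algebraMap_iff p.primeCompl A _ _).1 h
    exact Or.inr ⟨u, hu, hu'⟩
  have hkey : ∀ y, (∀ r ∈ p, r * y ∈ Ideal.span {w}) → π y = 0 → y ∈ Ideal.span {w} := by
    intro y hy hy0
    rcases hback y hy0 with h | ⟨u, hu, huy⟩
    · exact h
    obtain ⟨c, hc⟩ := exists_scalar hpos h0 u
    have hc0 : c ≠ 0 := fun e => hu (by rwa [e, map_zero, sub_zero] at hc)
    have h : algebraMap k R c * y ∈ Ideal.span {w} := by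
      have := sub_mem huy (hy _ hc)
      rwa [show u * y - (u - algebraMap k R c) * y = algebraMap k R c * y by ring] at this
    have := Ideal.mul_mem_left _ (algebraMap k R c⁻¹) h
    rwa [← mul_assoc, ← map_mul, inv_mul_cancel₀ hc0, map_one, one_mul] at this
  by_cases hy₁ : π y₁ = 0
  · exact Or.inl (hkey y₁ h₁ hy₁)
  obtain ⟨r₁, hr₁⟩ := hgen _ (hsoc y₁ h₁)
  obtain ⟨r₂, hr₂⟩ := hgen _ (hsoc y₂ h₂)
  have hu : IsUnit r₁ := IsLocalRing.notMem_maximalIdeal.1 fun hm => hy₁ (by rw [← hr₁]; exact hs r₁ hm)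
  obtain ⟨v, hv⟩ := hu.exists_left_inv
  obtain ⟨a, ha⟩ := Ideal.Quotient.mk_surjective (r₂ * v)
  obtain ⟨⟨num, den⟩, hnd⟩ := IsLocalization.surj p.primeCompl a
  obtain ⟨cn, hcn⟩ := exists_scalar hpos h0 num
  obtain ⟨cd, hcd⟩ := exists_scalar hpos h0 den.1
  have hcd0 : cd ≠ 0 := fun e => den.2 (by rwa [e, map_zero, sub_zero] at hcd)
  refine Or.inr ⟨cn / cd, hkey _ (fun r hr => ?_) ?_⟩
  · rw [mul_sub, mul_smul_comm, Algebra.smul_def]
    exact sub_mem (h₂ r hr) (Ideal.mul_mem_left _ _ (h₁ r hr))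
  · have hden : IsUnit (π den.1) := (IsLocalization.map_units A den).map (Ideal.Quotient.mk _)
    have hy₂ : π y₂ = r₂ * v * π y₁ := by
      rw [← hr₁, ← hr₂]
      calc r₂ * s = r₂ * (v * r₁) * s := by rw [hv, mul_one]
        _ = _ := by ring
    have hn : π den.1 * (r₂ * v) = π num := by
      rw [← ha, show π den.1 = Ideal.Quotient.mk _ (algebraMap R A den.1) from rfl, ← map_mul, mul_comm, hnd]
      rfl
    have hk : ∀ (e : R) (c : k), e - algebraMap k R c ∈ p → π e * π y₁ = π (algebraMap k R c) * π y₁ := fun e c he => by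
      have := hπspan _ (h₁ _ he)
      rwa [map_mul, map_sub, sub_mul, sub_eq_zero] at this
    refine hden.mul_left_cancel ?_
    rw [mul_zero, map_sub, Algebra.smul_def, map_mul, mul_sub, sub_eq_zero, hy₂, ← mul_assoc, hn, hk num cn hcn,
      mul_left_comm, hk den.1 cd hcd, ← mul_assoc, ← map_mul π (algebraMap k R (cn / cd)), ← map_mul (algebraMap k R), div_mul_cancel₀ cn hcd0]

end Socle

section Segre

variable {S : Type u} [CommRing S] [Algebra k S] {ℬ : ℤ → Submodule k S} [GradedAlgebra ℬ]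
  {T : Type u} [CommRing T] [Algebra k T] {𝒯 : ℤ → Submodule k T} [GradedAlgebra 𝒯]
  {ψ : T →ₐ[k] R ⊗[k] S}

theorem finrank_segRing_piece (hT : GrSeg.IsSegreRing 𝒜 ℬ 𝒯 ψ) (n : ℤ) :
    Module.finrank k (𝒯 n) = Module.finrank k (𝒜 n) * Module.finrank k (ℬ n) ∧
      ∀ t ∈ 𝒯 n, ∃ v, TensorProduct.map (𝒜 n).subtype (ℬ n).subtype v = ψ t := by
  let ι := TensorProduct.map (𝒜 n).subtype (ℬ n).subtype
  have hι : Function.Injective ι :=
    TensorProduct.map_injective_of_flat_flat _ _ Subtype.val_injective Subtype.val_injective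
  have hr : LinearMap.range ι = GrSeg.segrePiece k 𝒜 ℬ n := by
    apply le_antisymm
    · rintro _ ⟨v, rfl⟩
      induction v using TensorProduct.induction_on with
      | zero => rw [map_zero]; exact zero_mem _
      | add x y hx hy => rw [map_add]; exact add_mem hx hy
      | tmul x y => exact Submodule.subset_span ⟨x.1, x.2, y.1, y.2, rfl⟩
    · refine Submodule.span_le.2 ?_
      rintro _ ⟨x, hx, y, hy, rfl⟩
      exact ⟨(⟨x, hx⟩ : 𝒜 n) ⊗ₜ[k] (⟨y, hy⟩ : ℬ n), rfl⟩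
  have hmap : (𝒯 n).map ψ.toLinearMap = LinearMap.range ι := by rw [hr]; exact hT.2 n
  refine ⟨?_, fun t ht => hmap.le ⟨t, ht, rfl⟩⟩
  rw [(Submodule.equivMapOfInjective ψ.toLinearMap hT.1 (𝒯 n)).finrank_eq, hmap,
    LinearMap.finrank_range_of_inj hι, Module.finrank_tensorProduct]

variable [Algebra.FiniteType k R] [Algebra.FiniteType k S] [Nontrivial R] [Nontrivial S]
  [LocCoh.IsCohenMacaulayRing R] [LocCoh.IsCohenMacaulayRing S] [LocCoh.IsGorensteinRing T]
  (hposR : ∀ n : ℤ, n < 0 → 𝒜 n = ⊥) (h0R : 𝒜 0 = Submodule.span k {(1 : R)})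
  (hposS : ∀ n : ℤ, n < 0 → ℬ n = ⊥) (h0S : ℬ 0 = Submodule.span k {(1 : S)})
  (hstdR : Ideal.span (⋃ n ∈ Set.Ioi (0 : ℤ), (𝒜 n : Set R)) = Ideal.span ((𝒜 1 : Submodule k R) : Set R))
  (hstdS : Ideal.span (⋃ n ∈ Set.Ioi (0 : ℤ), (ℬ n : Set S)) = Ideal.span ((ℬ 1 : Submodule k S) : Set S))
  (hr : ringKrullDim R = 1) (hs : ringKrullDim S = 1) (hT : GrSeg.IsSegreRing 𝒜 ℬ 𝒯 ψ)

include hposR h0R hposS h0S hstdR hstdS hr hs hT in
/-- If the product is Gorenstein one of the factors has a line in some positive degree. -/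
theorem exists_line : ∃ m : ℕ, 1 ≤ m ∧ (Module.finrank k (𝒜 (m : ℤ)) ≤ 1 ∨ Module.finrank k (ℬ (m : ℤ)) ≤ 1) := by
  classical
  haveI : IsNoetherianRing R := Algebra.FiniteType.isNoetherianRing k R
  haveI : IsNoetherianRing S := Algebra.FiniteType.isNoetherianRing k S
  haveI := nontrivial_T hT
  have h0T := deg0_segre hT h0R h0S
  haveI : SegreHom ψ 𝒜 ℬ 𝒯 := ⟨hT⟩
  have hposT : ∀ n : ℤ, n < 0 → 𝒯 n = ⊥ := fun n hn => (Submodule.eq_bot_iff _).2 fun t ht => hT.1 (by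
    have h : ψ t ∈ GrSeg.segrePiece k 𝒜 ℬ n := hT.2 n ▸ ⟨t, ht, rfl⟩
    rw [GrSeg.segrePiece, show {x | ∃ a ∈ 𝒜 n, ∃ b ∈ ℬ n, x = a ⊗ₜ[k] b} = ({0} : Set (R ⊗[k] S)) from
      Set.ext fun x => ⟨fun ⟨a, ha, b, hb, e⟩ => by
        rw [e, (Submodule.eq_bot_iff _).1 (hposR n hn) a ha, TensorProduct.zero_tmul]; rfl,
        fun e => ⟨0, zero_mem _, 0, zero_mem _, by rw [Set.mem_singleton_iff.1 e, TensorProduct.zero_tmul]⟩⟩,
      Submodule.span_zero_singleton, Submodule.mem_bot] at h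
    rw [h, map_zero])
  obtain ⟨d₁, hd₁, x₁, hx₁, hreg₁, hrad₁⟩ := exists_nzd hposR h0R hr
  obtain ⟨d₂, hd₂, x₂, hx₂, hreg₂, hrad₂⟩ := exists_nzd hposS h0S hs
  let D := d₁ * d₂
  have hD : 0 < D := Nat.mul_pos hd₁ hd₂
  have hx : x₁ ^ d₂ ∈ 𝒜 (D : ℤ) := by
    have := SetLike.pow_mem_graded d₂ hx₁
    rwa [nsmul_eq_mul, ← Nat.cast_mul, mul_comm] at this
  have hy : x₂ ^ d₁ ∈ ℬ (D : ℤ) := by
    have := SetLike.pow_mem_graded d₁ hx₂
    rwa [nsmul_eq_mul, ← Nat.cast_mul] at this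
  have hradx : H4Segre.irr 𝒜 ≤ (Ideal.span {x₁ ^ d₂}).radical :=
    hrad₁.trans (Ideal.radical_le_radical_iff.2 ((Ideal.span_singleton_le_iff_mem _).2
      ⟨d₂, Ideal.mem_span_singleton_self _⟩))
  have hrady : H4Segre.irr ℬ ≤ (Ideal.span {x₂ ^ d₁}).radical :=
    hrad₂.trans (Ideal.radical_le_radical_iff.2 ((Ideal.span_singleton_le_iff_mem _).2
      ⟨d₁, Ideal.mem_span_singleton_self _⟩))
  obtain ⟨NR, hNR⟩ := exists_stable hstdR hD hx hradx
  obtain ⟨NS, hNS⟩ := exists_stable hstdS hD hy hrady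
  have hxr := hreg₁.pow d₂
  have hyr := hreg₂.pow d₁
  obtain ⟨w, hw, hψw⟩ := (hT.2 (D : ℤ)).ge (Submodule.subset_span ⟨_, hx, _, hy, rfl⟩)
  have hψw' : ψ w = (x₁ ^ d₂) ⊗ₜ[k] (x₂ ^ d₁) := hψw
  have hwreg : IsSMulRegular T w := fun a b hab => hT.1 (by
    have hinj : Function.Injective (TensorProduct.map (LinearMap.mulLeft k (x₁ ^ d₂)) (LinearMap.mulLeft k (x₂ ^ d₁))) :=
      TensorProduct.map_injective_of_flat_flat _ _ hxr hyr
    have key : ∀ z, TensorProduct.map (LinearMap.mulLeft k (x₁ ^ d₂)) (LinearMap.mulLeft k (x₂ ^ d₁)) z = ψ w * z := fun z => by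
      induction z using TensorProduct.induction_on with
      | zero => rw [map_zero, mul_zero]
      | add p q hp hq => rw [map_add, mul_add, hp, hq]
      | tmul p q => rw [hψw', Algebra.TensorProduct.tmul_mul_tmul]; rfl
    refine hinj ?_
    rw [key, key, ← map_mul, ← map_mul]
    exact congrArg ψ hab)
  let Good : ℕ → Prop := fun n =>
    (∀ y ∈ 𝒜 ((n : ℤ) + D), ∃ r ∈ 𝒜 (n : ℤ), x₁ ^ d₂ * r = y) ∧ ∀ y ∈ ℬ ((n : ℤ) + D), ∃ r ∈ ℬ (n : ℤ), x₂ ^ d₁ * r = y
  by_contra hcon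
  push Not at hcon
  have hbad0 : ¬ Good 0 := by
    intro hg
    haveI := finite_piece (𝒜 := 𝒜) h0R (D : ℤ)
    have h := (hcon D hD).1
    have hle : Module.finrank k (𝒜 (D : ℤ)) ≤ 1 := by
      refine finrank_le_one (⟨_, hx⟩ : 𝒜 (D : ℤ)) fun y => ?_
      obtain ⟨r, hr', hry⟩ := hg.1 y.1 (by rw [Nat.cast_zero, zero_add]; exact y.2)
      obtain ⟨c, rfl⟩ := Submodule.mem_span_singleton.1 (h0R.le hr')
      exact ⟨c, Subtype.ext (by rw [← hry, mul_smul_comm, mul_one]; rfl)⟩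
    omega
  obtain ⟨a, ha, hmaxa⟩ : ∃ a, ¬ Good a ∧ ∀ n, a < n → Good n := by
    have hB : ∀ n, NR + NS ≤ n → Good n := fun n hn => ⟨hNR _ (by omega), hNS _ (by omega)⟩
    let F := (Finset.range (NR + NS)).filter fun n => ¬ Good n
    have hne : F.Nonempty := ⟨0, Finset.mem_filter.2 ⟨Finset.mem_range.2 (by
      by_contra h; exact hbad0 (hB 0 (by omega))), hbad0⟩⟩
    refine ⟨F.max' hne, (Finset.mem_filter.1 (F.max'_mem hne)).2, fun n hn => ?_⟩
    by_contra hg
    have hmem : n ∈ F := Finset.mem_filter.2 ⟨Finset.mem_range.2 (by by_contra h; exact hg (hB n (by omega))), hg⟩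
    exact absurd (F.le_max' n hmem) (by omega)
  -- everything above degree `a + D` is divisible by `w`
  have hdiv : ∀ n : ℕ, a < n → ∀ t ∈ 𝒯 ((n : ℤ) + D), t ∈ Ideal.span {w} := fun n hn t ht => by
    obtain ⟨v, hv⟩ := (finrank_segRing_piece hT _).2 t ht
    have : ∀ v, ∃ τ : T, ψ (w * τ) = TensorProduct.map (𝒜 ((n : ℤ) + D)).subtype (ℬ ((n : ℤ) + D)).subtype v := fun v => by
      induction v using TensorProduct.induction_on with
      | zero => exact ⟨0, by rw [mul_zero, map_zero, map_zero]⟩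
      | add p q hp hq =>
        obtain ⟨τ, hτ⟩ := hp; obtain ⟨τ', hτ'⟩ := hq
        exact ⟨τ + τ', by rw [mul_add, map_add, map_add, hτ, hτ']⟩
      | tmul p q =>
        obtain ⟨r, hr', hrp⟩ := (hmaxa n hn).1 p.1 p.2
        obtain ⟨r', hr'', hrq⟩ := (hmaxa n hn).2 q.1 q.2
        obtain ⟨τ, -, hτ⟩ := (hT.2 (n : ℤ)).ge (Submodule.subset_span ⟨r, hr', r', hr'', rfl⟩)
        refine ⟨τ, ?_⟩
        rw [map_mul, hψw', show ψ τ = r ⊗ₜ[k] r' from hτ, Algebra.TensorProduct.tmul_mul_tmul, hrp, hrq]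
        rfl
    obtain ⟨τ, hτ⟩ := this v
    exact Ideal.mem_span_singleton'.2 ⟨τ, hT.1 (by rw [mul_comm, hτ, hv])⟩
  haveI : IsNoetherianRing T := isNoetherianRing_T hT
  have hwirr : w ∈ H4Segre.irr 𝒯 := H4Segre.mem_irr_of_pos 𝒯 (by exact_mod_cast hD) hw
  obtain ⟨M, hM⟩ : ∃ M, H4Segre.irr 𝒯 ^ M ≤ Ideal.span {w} := by
    refine ⟨a + D + 1, ?_⟩
    have hle : ∀ j : ℕ, H4Segre.irr 𝒯 ^ j ≤ Ideal.span (⋃ n ∈ Set.Ici (j : ℤ), (𝒯 n : Set T)) := fun j => by
      induction j with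
      | zero =>
        rw [pow_zero, Ideal.one_eq_top]
        exact ((Ideal.eq_top_iff_one _).2 (Ideal.subset_span
          (Set.mem_iUnion₂.2 ⟨0, Set.mem_Ici.2 le_rfl, SetLike.one_mem_graded 𝒯⟩))).ge
      | succ j ih =>
        rw [pow_succ]
        refine (Ideal.mul_mono_left ih).trans ?_
        rw [H4Segre.irr, Ideal.span_mul_span']
        refine Ideal.span_mono ?_
        rintro _ ⟨p, hp, q, hq, rfl⟩
        obtain ⟨i, hi, hp⟩ := Set.mem_iUnion₂.1 hp
        obtain ⟨i', hi', hq⟩ := Set.mem_iUnion₂.1 hq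
        refine Set.mem_iUnion₂.2 ⟨i + i', ?_, SetLike.mul_mem_graded hp hq⟩
        rw [Set.mem_Ici] at hi ⊢
        have : (0 : ℤ) < i' := hi'
        push_cast
        omega
    refine (hle _).trans (Ideal.span_le.2 fun t ht => ?_)
    obtain ⟨i, hi, ht⟩ := Set.mem_iUnion₂.1 ht
    rw [Set.mem_Ici] at hi
    refine hdiv (i - D).toNat (by omega) t ?_
    rw [show (((i - D).toNat : ℕ) : ℤ) + D = i by omega]
    exact ht
  have hsoc : ∀ y ∈ 𝒯 ((a : ℤ) + D), ∀ r ∈ H4Segre.irr 𝒯, r * y ∈ Ideal.span {w} := by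
    intro y hy r hr'
    induction hr' using Submodule.span_induction with
    | mem r hr' =>
      obtain ⟨j, hj, hrj⟩ := Set.mem_iUnion₂.1 hr'
      have hj' : (0 : ℤ) < j := hj
      refine hdiv (a + j.toNat) (by omega) _ ?_
      rw [show ((a + j.toNat : ℕ) : ℤ) + D = j + (a + D) by omega]
      exact SetLike.mul_mem_graded hrj hy
    | zero => rw [zero_mul]; exact zero_mem _
    | add p q _ _ hp hq => rw [add_mul]; exact add_mem hp hq
    | smul c p _ hp => rw [smul_eq_mul, mul_assoc]; exact Ideal.mul_mem_left _ c hp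
  -- the multiples of `w`
  let μ : 𝒯 (a : ℤ) →ₗ[k] 𝒯 ((a : ℤ) + D) :=
    { toFun := fun t => ⟨w * t.1, by rw [add_comm]; exact SetLike.mul_mem_graded hw t.2⟩
      map_add' := fun p q => Subtype.ext (mul_add w p.1 q.1)
      map_smul' := fun c p => Subtype.ext (mul_smul_comm c w p.1) }
  have hμ : Function.Injective μ := fun p q h => Subtype.ext (hwreg (congrArg Subtype.val h :))
  have hW : ∀ y : 𝒯 ((a : ℤ) + D), y.1 ∈ Ideal.span {w} → y ∈ LinearMap.range μ := fun y hy' => by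
    obtain ⟨τ, hτ⟩ := Ideal.mem_span_singleton'.1 hy'
    refine ⟨⟨H4Gr.proj (addGr 𝒯) (a : ℤ) τ, (H4Gr.proj_mem (addGr 𝒯) _ τ :)⟩, Subtype.ext ?_⟩
    have h := H4Gr.proj_smul (𝒜 := addGr 𝒯) (ℳ := addGr 𝒯) (show w ∈ addGr 𝒯 (D : ℤ) from hw) ((a : ℤ) + D) τ
    rw [smul_eq_mul, smul_eq_mul, mul_comm w τ, hτ, H4Gr.proj_same (show y.1 ∈ addGr 𝒯 ((a : ℤ) + D) from y.2),
      add_sub_cancel_right] at h
    exact h.symm
  haveI := finite_piece (𝒜 := 𝒜) h0R ((a : ℤ) + D)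
  haveI := finite_piece (𝒜 := ℬ) h0S ((a : ℤ) + D)
  haveI : FiniteDimensional k (𝒯 ((a : ℤ) + D)) := by
    haveI : FiniteDimensional k (LinearMap.range (TensorProduct.map (𝒜 ((a : ℤ) + D)).subtype (ℬ ((a : ℤ) + D)).subtype)) :=
      inferInstance
    refine Module.Finite.of_injective (LinearMap.codRestrict
      (LinearMap.range (TensorProduct.map (𝒜 ((a : ℤ) + D)).subtype (ℬ ((a : ℤ) + D)).subtype))
      (ψ.toLinearMap ∘ₗ (𝒯 ((a : ℤ) + D)).subtype) fun t => (finrank_segRing_piece hT _).2 t.1 t.2) ?_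
    exact fun p q h => Subtype.ext (hT.1 (congrArg Subtype.val h :))
  have hcodim : Module.finrank k (𝒯 ((a : ℤ) + D)) ≤ Module.finrank k (𝒯 (a : ℤ)) + 1 := by
    rw [← LinearMap.finrank_range_of_inj hμ]
    rcases eq_or_ne (LinearMap.range μ) ⊤ with h | h
    · rw [h, finrank_top]; omega
    obtain ⟨y₁, -, hy₁⟩ := SetLike.exists_of_lt h.lt_top
    have htop : (⊤ : Submodule k (𝒯 ((a : ℤ) + D))) ≤ LinearMap.range μ ⊔ Submodule.span k {y₁} := fun y₂ _ => by
      rcases socle_dependent hposT h0T hwirr hwreg hM (hsoc _ y₁.2) (hsoc _ y₂.2) with h | ⟨c, hc⟩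
      · exact absurd (hW y₁ h) hy₁
      · exact Submodule.mem_sup.2 ⟨y₂ - c • y₁, hW _ hc, c • y₁,
          Submodule.smul_mem _ c (Submodule.mem_span_singleton_self y₁), sub_add_cancel _ _⟩
    refine (le_of_eq (finrank_top k _).symm).trans ((Submodule.finrank_mono htop).trans
      ((Submodule.finrank_add_le_finrank_add_finrank _ _).trans ?_))
    exact Nat.add_le_add_left ((finrank_span_singleton (fun e => hy₁ (by rw [e]; exact zero_mem _))).le) _
  rw [(finrank_segRing_piece hT _).1, (finrank_segRing_piece hT _).1] at hcodim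
  have hR := finrank_le_add h0R hx hxr (a : ℤ)
  have hS := finrank_le_add h0S hy hyr (a : ℤ)
  obtain ⟨hR2, hS2⟩ := hcon (a + D) (by omega)
  push_cast at hR2 hS2
  have hstrict : Module.finrank k (𝒜 (a : ℤ)) < Module.finrank k (𝒜 ((a : ℤ) + D)) ∨
      Module.finrank k (ℬ (a : ℤ)) < Module.finrank k (ℬ ((a : ℤ) + D)) := by
    by_contra h
    push Not at h
    exact ha ⟨hR.2 (le_antisymm hR.1 h.1), hS.2 (le_antisymm hS.1 h.2)⟩
  rcases hstrict with h | h
  · have h3 := Nat.mul_le_mul (show Module.finrank k (𝒜 (a : ℤ)) + 1 ≤ _ from h) hS.1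
    nlinarith [hcodim, h3, hS.1, hS2]
  · have h3 := Nat.mul_le_mul hR.1 (show Module.finrank k (ℬ (a : ℤ)) + 1 ≤ _ from h)
    nlinarith [hcodim, h3, hR.1, hR2]

variable {y : S} (hy : y ∈ ℬ 1) (hb : Function.Bijective (Polynomial.aeval (R := k) y))

include hposS hy hb hT in
omit [Algebra.FiniteType k R] [Algebra.FiniteType k S] [Nontrivial S] [LocCoh.IsCohenMacaulayRing R]
  [LocCoh.IsCohenMacaulayRing S] in
/-- A Segre product with a polynomial ring in one variable is the first factor. -/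
theorem gorenstein_left_of_polynomial (hposR : ∀ n : ℤ, n < 0 → 𝒜 n = ⊥) : LocCoh.IsGorensteinRing R := by
  let e := AlgEquiv.ofBijective _ hb
  let φ : S →ₐ[k] k := (Polynomial.aeval (R := k) (1 : k)).comp e.symm.toAlgHom
  have hφ : ∀ n : ℕ, φ (y ^ n) = 1 := fun n => by
    show Polynomial.aeval (1 : k) (e.symm (y ^ n)) = 1
    rw [show e.symm (y ^ n) = Polynomial.X ^ n from e.symm_apply_eq.2 (by simp [e]), map_pow, Polynomial.aeval_X, one_pow]
  have hpow : ∀ n : ℕ, y ^ n ∈ ℬ (n : ℤ) := fun n => by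
    have := SetLike.pow_mem_graded n hy
    rwa [nsmul_one] at this
  have hline : ∀ (n : ℕ) (b : S), b ∈ ℬ (n : ℤ) → b = φ b • y ^ n := fun n b hb' => by
    obtain ⟨p, rfl⟩ := hb.2 b
    have h := H4Gr.proj_same (show Polynomial.aeval y p ∈ addGr ℬ (n : ℤ) from hb')
    rw [Polynomial.aeval_eq_sum_range, map_sum] at h
    have hterm : ∀ l : ℕ, H4Gr.proj (addGr ℬ) (n : ℤ) (p.coeff l • y ^ l) =
        if l = n then p.coeff l • y ^ l else 0 := fun l => by
      rw [H4Gr.proj_of_mem (show p.coeff l • y ^ l ∈ addGr ℬ (l : ℤ) from Submodule.smul_mem _ _ (hpow l))]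
      simp only [Nat.cast_inj]
    simp only [hterm, Finset.sum_ite_eq', Finset.mem_range] at h
    rw [← Polynomial.aeval_eq_sum_range] at h
    obtain ⟨c, hc⟩ : ∃ c : k, c • y ^ n = Polynomial.aeval y p := by
      split_ifs at h with hn
      · exact ⟨_, h⟩
      · exact ⟨0, by rw [zero_smul]; exact h⟩
    rw [← hc, map_smul, hφ, smul_eq_mul, mul_one]
  let Θ : T →ₐ[k] R := ((Algebra.TensorProduct.rid k k R).toAlgHom.comp
    (Algebra.TensorProduct.map (AlgHom.id k R) φ)).comp ψ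
  have hpiece : ∀ (n : ℤ) (t : T), t ∈ 𝒯 n → Θ t ∈ 𝒜 n ∧ (Θ t = 0 → t = 0) := fun n t ht => by
    rcases lt_or_ge n 0 with hn | hn
    · have h : ψ t = 0 := by
        obtain ⟨v, hv⟩ := (finrank_segRing_piece hT n).2 t ht
        rw [← hv]
        clear hv
        induction v using TensorProduct.induction_on with
        | zero => exact map_zero _
        | add p q hp hq => rw [map_add, hp, hq, add_zero]
        | tmul p q =>
          rw [TensorProduct.map_tmul, show ((𝒜 n).subtype p : R) = 0 from (Submodule.eq_bot_iff _).1 (hposR n hn) p.1 p.2,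
            TensorProduct.zero_tmul]
      have h0 : t = 0 := hT.1 (h.trans (map_zero ψ).symm)
      subst h0
      exact ⟨by rw [map_zero]; exact zero_mem _, fun _ => rfl⟩
    obtain ⟨j, rfl⟩ : ∃ j : ℕ, n = j := ⟨n.toNat, (Int.toNat_of_nonneg hn).symm⟩
    obtain ⟨v, hv⟩ := (finrank_segRing_piece hT (j : ℤ)).2 t ht
    obtain ⟨r, hr', hrv⟩ : ∃ r ∈ 𝒜 (j : ℤ), TensorProduct.map (𝒜 (j : ℤ)).subtype (ℬ (j : ℤ)).subtype v = r ⊗ₜ[k] (y ^ j) := by
      clear hv
      induction v using TensorProduct.induction_on with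
      | zero => exact ⟨0, zero_mem _, by rw [map_zero, TensorProduct.zero_tmul]⟩
      | add p q hp hq =>
        obtain ⟨r, hr', e⟩ := hp; obtain ⟨r', hr'', e'⟩ := hq
        exact ⟨r + r', add_mem hr' hr'', by rw [map_add, e, e', TensorProduct.add_tmul]⟩
      | tmul p q =>
        refine ⟨φ q.1 • p.1, Submodule.smul_mem _ _ p.2, ?_⟩
        rw [TensorProduct.smul_tmul, ← hline j q.1 q.2]
        rfl
    have hΘ : Θ t = r := by
      show (Algebra.TensorProduct.rid k k R) (Algebra.TensorProduct.map (AlgHom.id k R) φ (ψ t)) = r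
      rw [← hv, hrv, Algebra.TensorProduct.map_tmul, hφ]
      simp
    refine ⟨hΘ ▸ hr', fun h => hT.1 ?_⟩
    rw [← hv, hrv, ← hΘ, h, TensorProduct.zero_tmul, map_zero]
  have hbij : Function.Bijective Θ := by
    refine ⟨(injective_iff_map_eq_zero Θ).2 fun t ht => H4Gr.ext_proj (addGr 𝒯) fun n => ?_, fun r => ?_⟩
    · rw [map_zero]
      refine (hpiece n _ (H4Gr.proj_mem (addGr 𝒯) n t)).2 ?_
      have hcomm : H4Gr.proj (addGr 𝒜) n (Θ t) = Θ (H4Gr.proj (addGr 𝒯) n t) := by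
        clear ht
        induction t using H4Gr.induction (addGr 𝒯) with
        | zero => simp only [map_zero]
        | add p q hp hq => simp only [map_add, hp, hq]
        | hom g t ht =>
          rw [H4Gr.proj_of_mem ht, H4Gr.proj_of_mem (show Θ t ∈ addGr 𝒜 g from (hpiece g t ht).1)]
          split_ifs <;> simp
      rw [← hcomm, ht, map_zero]
    · induction r using H4Gr.induction (addGr 𝒜) with
      | zero => exact ⟨0, map_zero Θ⟩
      | add p q hp hq =>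
        obtain ⟨t, rfl⟩ := hp; obtain ⟨t', rfl⟩ := hq
        exact ⟨t + t', map_add Θ t t'⟩
      | hom g r hr' =>
        rcases lt_or_ge g 0 with hg | hg
        · exact ⟨0, by rw [map_zero, (Submodule.eq_bot_iff _).1 (hposR g hg) r hr']⟩
        obtain ⟨j, rfl⟩ : ∃ j : ℕ, g = j := ⟨g.toNat, (Int.toNat_of_nonneg hg).symm⟩
        obtain ⟨t, -, ht⟩ := (hT.2 (j : ℤ)).ge (Submodule.subset_span ⟨r, hr', y ^ j, hpow j, rfl⟩)
        refine ⟨t, ?_⟩
        show (Algebra.TensorProduct.rid k k R) (Algebra.TensorProduct.map (AlgHom.id k R) φ (ψ t)) = r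
        rw [show ψ t = r ⊗ₜ[k] (y ^ j) from ht, Algebra.TensorProduct.map_tmul, hφ]
        simp
  exact H02CA.GorFlat.isGorensteinRing_of_ringEquiv (AlgEquiv.ofBijective Θ hbij).toRingEquiv inferInstance

end Segre

end Groth.Agent.H4KS.One
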