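import Groth.Agent.H4KS.SegGor

/-!
# Generators of Segre products of shifted algebras
-/

set_option autoImplicit false
set_option linter.unusedSectionVars false
set_option linter.style.haveILetI false

universe u

open DirectSum
open scoped TensorProduct

namespace Groth.Agent.H4KS

variable {k : Type u} [Field k] {R : Type u} [CommRing R] [Algebra k R] {𝒜 : ℤ → Submodule k R} [GradedAlgebra 𝒜]
  {S : Type u} [CommRing S] [Algebra k S] {ℬ : ℤ → Submodule k S} [GradedAlgebra ℬ]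
  {T : Type u} [CommRing T] [Algebra k T] {𝒯 : ℤ → Submodule k T} [GradedAlgebra 𝒯]
  {ψ : T →ₐ[k] R ⊗[k] S}
  (hposR : ∀ n : ℤ, n < 0 → 𝒜 n = ⊥) (h0R : 𝒜 0 = Submodule.span k {(1 : R)})
  (hposS : ∀ n : ℤ, n < 0 → ℬ n = ⊥) (h0S : ℬ 0 = Submodule.span k {(1 : S)})
  (hT : GrSeg.IsSegreRing 𝒜 ℬ 𝒯 ψ)
  (hstdR : Ideal.span (⋃ n ∈ Set.Ioi (0 : ℤ), (𝒜 n : Set R)) = Ideal.span ((𝒜 1 : Submodule k R) : Set R))
  {a b : ℤ} (hab : b ≤ a)
  {P : Type u} [AddCommGroup P] [Module T P] [Module k P] [IsScalarTower k T P] {𝒬 : ℤ → AddSubgroup P}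
  [Decomposition 𝒬] {φ : P →ₗ[k] R ⊗[k] S} (hP : GrSeg.IsSegreMod ψ (shA 𝒜 a) (shA ℬ b) 𝒬 φ)

include hposS hP in
theorem segShift_eq_bot {j : ℤ} (hj : j < -b) : 𝒬 j = ⊥ := by
  refine (AddSubgroup.eq_bot_iff_forall _).2 fun p hp => hP.injective ?_
  rw [map_zero]
  have h := (hP.image_piece j).subset ⟨p, hp, rfl⟩
  have h0 : GrSeg.segrePiece k (shA 𝒜 a) (shA ℬ b) j = ⊥ := by
    rw [GrSeg.segrePiece, Submodule.span_eq_bot]
    rintro _ ⟨x, -, y, hy, rfl⟩
    have hy' : y ∈ ℬ (j + b) := hy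
    rw [hposS _ (by omega), Submodule.mem_bot] at hy'
    rw [hy', TensorProduct.tmul_zero]
  rw [SetLike.mem_coe, h0, Submodule.mem_bot] at h
  exact h

include hposS h0S hT hstdR hab hP in
theorem segShift_span : Submodule.span T ((𝒬 (-b) : AddSubgroup P) : Set P) = ⊤ := by
  refine Submodule.eq_top_iff'.2 fun p => ?_
  induction p using H4Gr.induction 𝒬 with
  | zero => exact zero_mem _
  | add x y hx hy => exact add_mem hx hy
  | hom j p hp =>
    rcases lt_or_ge j (-b) with hj | hj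
    · rw [(AddSubgroup.eq_bot_iff_forall _).1 (segShift_eq_bot hposS hP hj) p hp]; exact zero_mem _
    obtain ⟨t, ht⟩ : ∃ t : ℕ, j + b = t := ⟨(j + b).toNat, (Int.toNat_of_nonneg (by omega)).symm⟩
    have h := (hP.image_piece j).subset ⟨p, hp, rfl⟩
    suffices H : ∀ v ∈ GrSeg.segrePiece k (shA 𝒜 a) (shA ℬ b) j,
        ∃ z ∈ Submodule.span T ((𝒬 (-b) : AddSubgroup P) : Set P), φ z = v by
      obtain ⟨z, hz, hzp⟩ := H _ h
      rwa [← hP.injective hzp]
    intro v hv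
    induction hv using Submodule.span_induction with
    | mem v hv =>
      obtain ⟨x, hx, y, hy, rfl⟩ := hv
      have hy' : y ∈ ℬ (t : ℤ) := ht ▸ (hy : y ∈ ℬ (j + b))
      have hx' : x ∈ addGr 𝒜 (a - b + t) := by
        have : x ∈ addGr 𝒜 (j + a) := hx
        rwa [show a - b + (t : ℤ) = j + a by omega]
      have h' := H4Ver.piece_mul (𝒜 := addGr 𝒜) hstdR t (s := a - b) (by omega) hx'
      clear hx hx'
      induction h' using AddSubgroup.closure_induction with
      | mem x hx =>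
        obtain ⟨u, hu, w, hw, rfl⟩ := hx
        have h1 : w ⊗ₜ[k] y ∈ GrSeg.segrePiece k 𝒜 ℬ (t : ℤ) := Submodule.subset_span ⟨w, hw, y, hy', rfl⟩
        rw [← hT.2 (t : ℤ)] at h1
        obtain ⟨τ, -, hτ⟩ := h1
        have h2 : u ⊗ₜ[k] (1 : S) ∈ GrSeg.segrePiece k (shA 𝒜 a) (shA ℬ b) (-b) := by
          refine Submodule.subset_span ⟨u, ?_, 1, ?_, rfl⟩
          · show u ∈ addGr 𝒜 (-b + a)
            rwa [show -b + a = a - b by ring]
          · show (1 : S) ∈ addGr ℬ (-b + b)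
            rw [neg_add_cancel]
            exact SetLike.GradedOne.one_mem
        obtain ⟨z, hz, hzu⟩ := (hP.image_piece (-b)).superset h2
        refine ⟨τ • z, Submodule.smul_mem _ τ (Submodule.subset_span hz), ?_⟩
        rw [hP.map_smul, hzu, show ψ τ = w ⊗ₜ[k] y from hτ, GrSeg.act_tmul, smul_eq_mul, smul_eq_mul, mul_one,
          mul_comm]
      | zero => exact ⟨0, zero_mem _, by rw [map_zero, TensorProduct.zero_tmul]⟩
      | add c d _ _ hc hd =>
        obtain ⟨z, hz, e⟩ := hc; obtain ⟨z', hz', e'⟩ := hd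
        exact ⟨z + z', add_mem hz hz', by rw [map_add, e, e', TensorProduct.add_tmul]⟩
      | neg c _ hc =>
        obtain ⟨z, hz, e⟩ := hc
        exact ⟨-z, neg_mem hz, by rw [map_neg, e, TensorProduct.neg_tmul]⟩
    | zero => exact ⟨0, zero_mem _, map_zero φ⟩
    | add c d _ _ hc hd =>
      obtain ⟨z, hz, e⟩ := hc; obtain ⟨z', hz', e'⟩ := hd
      exact ⟨z + z', add_mem hz hz', by rw [map_add, e, e']⟩
    | smul r c _ hc =>
      obtain ⟨z, hz, e⟩ := hc
      exact ⟨r • z, by rw [← algebraMap_smul T r z]; exact Submodule.smul_mem _ _ hz, by rw [map_smul, e]⟩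

include hposR hposS h0R h0S hT hstdR hab hP in
/-- The number of generators of the Segre product of two shifts. -/
theorem finrank_generators_segShift [Nontrivial R] [Nontrivial S] [IsNoetherianRing T] [Nontrivial T]
    [SetLike.GradedSMul 𝒯 𝒬] (mT : HomogeneousIdeal 𝒯) [mT.toIdeal.IsMaximal]
    (hmT : mT.toIdeal = Ideal.span (⋃ n ∈ Set.Ioi (0 : ℤ), (𝒯 n : Set T))) :
    Module.finrank (T ⧸ mT.toIdeal) ((T ⧸ mT.toIdeal) ⊗[T] P) = Module.finrank k (𝒜 (a - b)) := by
  haveI : (idealA 𝒯 mT).toIdeal.IsMaximal := ‹mT.toIdeal.IsMaximal›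
  refine (H4Ver.finrank_generators (𝒜 := addGr 𝒯) (H4GD.addGr_hpos (negT hT hposR)) (m := idealA 𝒯 mT) hmT
    (segShift_span hposS h0S hT hstdR hab hP) (fun j hj => segShift_eq_bot hposS hP hj)).trans ?_
  have hk : ∀ c : k, algebraMap k T c ∈ addGr 𝒯 0 := H4GD.addGr_hk
  rw [← (H4GD.finrank_kP hk (H4GD.addGr_hsurj (deg0_segre hT h0R h0S)) 𝒬 (-b)).1]
  let ι : 𝒜 (a - b) →ₗ[k] R ⊗[k] S := (TensorProduct.mk k R S).flip 1 ∘ₗ (𝒜 (a - b)).subtype
  have hι : Function.Injective ι := fun u v h => Subtype.ext (by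
    have hflat : Function.Injective (TensorProduct.map (LinearMap.id : R →ₗ[k] R) (Algebra.linearMap k S)) :=
      TensorProduct.map_injective_of_flat_flat _ _ Function.injective_id (algebraMap k S).injective
    have h' : u.1 ⊗ₜ[k] (1 : k) = v.1 ⊗ₜ[k] (1 : k) := hflat (by
      simpa [ι] using h)
    simpa using congrArg (TensorProduct.rid k R) h')
  have hrange : LinearMap.range ι = GrSeg.segrePiece k (shA 𝒜 a) (shA ℬ b) (-b) := by
    apply le_antisymm
    · rintro _ ⟨u, rfl⟩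
      refine Submodule.subset_span ⟨u.1, ?_, 1, ?_, rfl⟩
      · show (u : R) ∈ addGr 𝒜 (-b + a)
        rw [show -b + a = a - b by ring]
        exact u.2
      · show (1 : S) ∈ addGr ℬ (-b + b)
        rw [neg_add_cancel]
        exact SetLike.GradedOne.one_mem
    · refine Submodule.span_le.2 ?_
      rintro _ ⟨x, hx, y, hy, rfl⟩
      have hy' : y ∈ ℬ 0 := by
        have h : y ∈ ℬ (-b + b) := hy
        rwa [neg_add_cancel] at h
      rw [h0S, Submodule.mem_span_singleton] at hy'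
      obtain ⟨c, rfl⟩ := hy'
      have hx' : x ∈ 𝒜 (a - b) := by
        have h : x ∈ 𝒜 (-b + a) := hx
        rwa [show a - b = -b + a by ring]
      refine ⟨c • ⟨x, hx'⟩, ?_⟩
      show ι (c • _) = _
      rw [map_smul, TensorProduct.tmul_smul]
      rfl
  let f : H4GD.kP hk 𝒬 (-b) →ₗ[k] R ⊗[k] S := φ ∘ₗ (H4GD.kP hk 𝒬 (-b)).subtype
  have hrange' : LinearMap.range f = GrSeg.segrePiece k (shA 𝒜 a) (shA ℬ b) (-b) := by
    refine SetLike.coe_injective ?_
    rw [← hP.image_piece (-b)]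
    ext v
    constructor
    · rintro ⟨x, rfl⟩; exact ⟨x.1, x.2, rfl⟩
    · rintro ⟨x, hx, rfl⟩; exact ⟨⟨x, hx⟩, rfl⟩
  rw [← LinearMap.finrank_range_of_inj (f := f) (hP.injective.comp Subtype.val_injective), hrange', ← hrange,
    LinearMap.finrank_range_of_inj hι]

end Groth.Agent.H4KS
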