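import Groth.Agent.H4KS.App

/-!
# Segre products with a module on which a homogeneous element is invertible
-/

set_option autoImplicit false
set_option linter.unusedSectionVars false
set_option linter.style.haveILetI false

universe u

open DirectSum
open scoped TensorProduct

namespace Groth.Agent.H4KS

variable {k : Type u} [Field k]

section Act

variable {R : Type u} [CommRing R] [Algebra k R] {S : Type u} [CommRing S] [Algebra k S]
  {M : Type u} [AddCommGroup M] [Module R M] [Module k M] [IsScalarTower k R M]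
  {N : Type u} [AddCommGroup N] [Module S N] [Module k N] [IsScalarTower k S N]
  {M' : Type u} [AddCommGroup M'] [Module R M'] [Module k M'] [IsScalarTower k R M']
  {N' : Type u} [AddCommGroup N'] [Module S N'] [Module k N'] [IsScalarTower k S N']

theorem map_act (f : M →ₗ[k] M') (g : N →ₗ[k] N') (hf : ∀ (r : R) m, f (r • m) = r • f m)
    (hg : ∀ (s : S) n, g (s • n) = s • g n) (u : R ⊗[k] S) (z : M ⊗[k] N) :
    TensorProduct.map f g (GrSeg.act k R S M N u z) = GrSeg.act k R S M' N' u (TensorProduct.map f g z) := by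
  induction u using TensorProduct.induction_on with
  | zero => simp only [map_zero, LinearMap.zero_apply]
  | add p q hp hq => simp only [map_add, LinearMap.add_apply, hp, hq]
  | tmul p q =>
    induction z using TensorProduct.induction_on with
    | zero => simp only [map_zero]
    | add x y hx hy => simp only [map_add, hx, hy]
    | tmul x y => simp only [GrSeg.act_tmul, TensorProduct.map_tmul, hf, hg]

theorem act_one_smul {T : Type u} [CommRing T] [Algebra k T] (ψ : T →ₐ[k] R ⊗[k] S) (r : k) (z : M ⊗[k] N) :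
    GrSeg.act k R S M N (ψ (algebraMap k T r)) z = r • z := by
  rw [ψ.commutes, Algebra.algebraMap_eq_smul_one, map_smul, LinearMap.smul_apply, Algebra.TensorProduct.one_def]
  congr 1
  induction z using TensorProduct.induction_on with
  | zero => simp only [map_zero]
  | add x y hx hy => simp only [map_add, hx, hy]
  | tmul x y => rw [GrSeg.act_tmul, one_smul, one_smul]

end Act

variable {R : Type u} [CommRing R] [Algebra k R] {𝒜 : ℤ → Submodule k R} [GradedAlgebra 𝒜]
  {S : Type u} [CommRing S] [Algebra k S] {ℬ : ℤ → Submodule k S} [GradedAlgebra ℬ]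
  {T : Type u} [CommRing T] [Algebra k T] {𝒯 : ℤ → Submodule k T} [GradedAlgebra 𝒯]
  (ψ : T →ₐ[k] R ⊗[k] S) [hS : SegreHom ψ 𝒜 ℬ 𝒯]

section Exact

variable {X X' X'' : GrLC.GMod.{u} (addGr 𝒜)} (Y : GrLC.GMod.{u} (addGr ℬ))

/-- Exactness of the Segre product in the first factor. -/
theorem segMap_exact {f : X.carrier →ₗ[R] X'.carrier} (hf : GrLC.IsGrHom X.gr X'.gr f)
    {g : X'.carrier →ₗ[R] X''.carrier} (hg : GrLC.IsGrHom X'.gr X''.gr g) (h : Function.Exact f g) :
    Function.Exact (segMap ψ f hf (LinearMap.id : Y.carrier →ₗ[S] Y.carrier) H4Gr.isGrHom_id)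
      (segMap ψ g hg (LinearMap.id : Y.carrier →ₗ[S] Y.carrier) H4Gr.isGrHom_id) := by
  have hex : Function.Exact ((f.restrictScalars k).rTensor Y.carrier) ((g.restrictScalars k).rTensor Y.carrier) :=
    Module.Flat.rTensor_exact Y.carrier h
  intro z
  constructor
  · intro hz
    obtain ⟨w, hw⟩ := (hex (segVal ψ X' Y z)).1 (congrArg (segVal ψ X'' Y) hz :)
    refine ⟨segMk ψ X Y (H4Segre.diag 𝒜 X.gr ℬ Y.gr w) (H4Segre.diag_mem_iSup 𝒜 X.gr ℬ Y.gr w),
      segVal_injective ψ X' Y ?_⟩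
    show tmap f LinearMap.id (H4Segre.diag 𝒜 X.gr ℬ Y.gr w) = _
    rw [← diag_tmap hf H4Gr.isGrHom_id, show tmap f (LinearMap.id : Y.carrier →ₗ[S] _) w = segVal ψ X' Y z from hw]
    exact H4Segre.diag_of_mem_iSup 𝒜 X'.gr ℬ Y.gr (segVal_mem ψ X' Y z)
  · rintro ⟨w, rfl⟩
    exact segVal_injective ψ X'' Y ((hex _).2 ⟨_, rfl⟩)

end Exact

section Unit

variable [IsNoetherianRing R] (aR : Ideal R) (haR : ∀ n : ℤ, 0 < n → ∀ x ∈ 𝒜 n, x ∈ aR) (aT : Ideal T)
  (haT : aT = Ideal.span (⋃ n ∈ Set.Ioi (0 : ℤ), (𝒯 n : Set T)))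
  {r : ℕ} (f : Fin r → R) {D : ℤ} (hD : 0 < D) (hf : ∀ i, f i ∈ 𝒜 D)
  (hrad : aR ≤ (Ideal.span (Set.range f)).radical)
  {b : S} (hb : b ∈ ℬ D) (Y : GrLC.GMod.{u} (addGr ℬ)) (hY : Function.Bijective fun y : Y.carrier => b • y)

/-- The part of a tensor product coming from torsion in the first factor. -/
noncomputable def torT (X : GrLC.GMod.{u} (addGr 𝒜)) : Submodule k (X.carrier ⊗[k] Y.carrier) :=
  LinearMap.range (((GrLC.gam aR X.carrier).subtype.restrictScalars k).rTensor Y.carrier)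

include hS haT hD hf hb in
omit [IsNoetherianRing R] in
theorem exists_param (i : Fin r) : ∃ t ∈ aT, ψ t = f i ⊗ₜ[k] b := by
  obtain ⟨t, ht, hψt⟩ := (hS.out.2 D).ge (Submodule.subset_span ⟨f i, hf i, b, hb, rfl⟩)
  exact ⟨t, haT ▸ Ideal.subset_span (Set.mem_iUnion₂.2 ⟨D, hD, ht⟩), hψt⟩

include hS haR haT hD hf hrad hb hY in
/-- Torsion of a Segre product with such a module. -/
theorem mem_gam_seg_unit (X : GrLC.GMod.{u} (addGr 𝒜)) (z : (Seg ψ X Y).carrier) :
    z ∈ GrLC.gam aT (Seg ψ X Y).carrier ↔ segVal ψ X Y z ∈ torT aR Y X := by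
  have hex : Function.Exact (((GrLC.gam aR X.carrier).subtype.restrictScalars k).rTensor Y.carrier)
      ((gamQ aR X).rTensor Y.carrier) :=
    rTensor_exact Y.carrier (LinearMap.exact_subtype_mkQ (GrLC.gam aR X.carrier) :) (Submodule.mkQ_surjective _)
  constructor
  · rintro ⟨N, hN⟩
    refine (hex _).1 ?_
    let QX := X.carrier ⧸ GrLC.gam aR X.carrier
    let ΦA : QX →ₗ[k] (Fin r → QX) := LinearMap.pi fun i => DistribSMul.toLinearMap k QX (f i ^ N)
    have hA : Function.Injective ΦA := (injective_iff_map_eq_zero ΦA).2 fun x hx =>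
      eq_zero_of_forall_pow_smul hrad N fun i => congrFun hx i
    refine Module.Flat.rTensor_preserves_injective_linearMap (M := Y.carrier) ΦA hA ?_
    rw [map_zero]
    set v := (gamQ aR X).rTensor Y.carrier (segVal ψ X Y z) with hv
    have hid : ∀ w : (Fin r → QX) ⊗[k] Y.carrier,
        w = ∑ i, (LinearMap.single k (fun _ => QX) i ∘ₗ LinearMap.proj i).rTensor Y.carrier w := fun w => by
      induction w using TensorProduct.induction_on with
      | zero => simp
      | add a b ha hb => simp only [map_add, Finset.sum_add_distrib]; rw [← ha, ← hb]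
      | tmul a b =>
        simp only [LinearMap.rTensor_tmul, LinearMap.comp_apply, LinearMap.proj_apply, LinearMap.coe_single,
          ← TensorProduct.sum_tmul, Finset.univ_sum_single]
    rw [hid (ΦA.rTensor Y.carrier v)]
    refine Finset.sum_eq_zero fun i _ => ?_
    obtain ⟨t, ht, hψt⟩ := exists_param ψ aT haT f hD hf hb i
    have h0 : GrSeg.act k R S X.carrier Y.carrier ((f i ^ N) ⊗ₜ[k] (b ^ N)) (segVal ψ X Y z) = 0 := by
      rw [show (f i ^ N) ⊗ₜ[k] (b ^ N) = ψ (t ^ N) by rw [map_pow, hψt, Algebra.TensorProduct.tmul_pow],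
        ← segVal_smul, hN _ (Ideal.pow_mem_pow ht N), map_zero]
    have hbN : Function.Injective (DistribSMul.toLinearMap k Y.carrier (b ^ N)) := by
      have : ∀ n, Function.Injective fun y : Y.carrier => b ^ n • y := fun n => by
        induction n with
        | zero => intro x y h; simpa using h
        | succ n ih => intro x y h; exact ih (hY.1 (by simpa [pow_succ', mul_smul] using h))
      exact this N
    have key : ∀ w : X.carrier ⊗[k] Y.carrier,
        (DistribSMul.toLinearMap k Y.carrier (b ^ N)).lTensor (Fin r → QX)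
          ((LinearMap.single k (fun _ => QX) i ∘ₗ LinearMap.proj i).rTensor Y.carrier
            (ΦA.rTensor Y.carrier ((gamQ aR X).rTensor Y.carrier w))) =
        (LinearMap.single k (fun _ => QX) i).rTensor Y.carrier
          ((gamQ aR X).rTensor Y.carrier
            (GrSeg.act k R S X.carrier Y.carrier ((f i ^ N) ⊗ₜ[k] (b ^ N)) w)) := fun w => by
      induction w using TensorProduct.induction_on with
      | zero => simp only [map_zero]
      | add a b ha hb => simp only [map_add, ha, hb]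
      | tmul a b => simp [GrSeg.act_tmul, ΦA, gamQ, QX]
    refine Module.Flat.lTensor_preserves_injective_linearMap _ hbN ?_
    rw [hv, key, h0, map_zero, map_zero, map_zero]
  · rintro ⟨u, hu⟩
    have : ∀ u, ∃ N, ∀ t ∈ aT ^ N, GrSeg.act k R S X.carrier Y.carrier (ψ t)
        (((GrLC.gam aR X.carrier).subtype.restrictScalars k).rTensor Y.carrier u) = 0 := fun u => by
      induction u using TensorProduct.induction_on with
      | zero => exact ⟨0, fun t _ => by simp only [map_zero]⟩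
      | tmul p q =>
        exact exists_pow_act_eq_zero ψ aR haR (⊤ : Ideal S) (fun _ _ _ _ => Submodule.mem_top) aT haT (.inl p.2)
      | add a b ha hb =>
        obtain ⟨n, hn⟩ := ha; obtain ⟨n', hn'⟩ := hb
        exact ⟨n + n', fun t ht => by
          rw [map_add, map_add, hn t (Ideal.pow_le_pow_right (Nat.le_add_right n n') ht),
            hn' t (Ideal.pow_le_pow_right (Nat.le_add_left n' n) ht), add_zero]⟩
    obtain ⟨N, hN⟩ := this u
    rw [hu] at hN
    exact ⟨N, fun t ht => segVal_injective ψ X Y ((segVal_smul ψ X Y t z).trans ((hN t ht).trans (map_zero _).symm))⟩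

include hS haR haT hD hf hrad hb hY in
/-- Segre products of *injective modules with such a module are acyclic. -/
theorem acyclic_seg_unit [IsNoetherianRing T] {X : GrLC.GMod.{u} (addGr 𝒜)} (hX : GrLC.IsStarInj (addGr 𝒜) X.gr)
    (i : ℕ) : Subsingleton (LocCoh.H aT (i + 1) (Seg ψ X Y).carrier) := by
  let Φ : GrLC.GMod.{u} (addGr 𝒜) → Prop := fun A => ∀ i, Subsingleton (LocCoh.H aT (i + 1) (Seg ψ A Y).carrier)
  refine (starInj_induction (R := R) (I := X.carrier) aR f (fun _ => D) (fun l => hf l) hrad Φ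
    (fun A B C φ χ h hA hC i => ?_) (fun A hA i => ?_) (fun A l hl i => ?_) hX) i
  · have h' := grSES_left ψ h Y
    exact H4LC.subsingleton_H_mid aT h'.inj h'.surj h'.exact (i + 1) (hA i) (hC i)
  · exact H4LC.subsingleton_H_of_isPowerTorsion aT (i + 1) _ (H4Gr.gam_iff_isPowerTorsion.2
      (gam_seg_eq_top ψ aR haR (⊤ : Ideal S) (fun _ _ _ _ => Submodule.mem_top) aT haT A Y (.inl hA))) i.succ_pos
  · obtain ⟨t, ht, hψt⟩ := exists_param ψ aT haT f hD hf hb l
    exact subsingleton_H_of_bijective ht _ (bijective_smul_seg ψ A Y hψt (hf l) hb hl hY) (i + 1)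

end Unit

section Res

variable {M : Type u} [AddCommGroup M] [Module R M] {ℳ : ℤ → AddSubgroup M} [Decomposition ℳ]
  [SetLike.GradedSMul (addGr 𝒜) ℳ] (E : GrLC.StarInjRes (addGr 𝒜) ℳ) (Y : GrLC.GMod.{u} (addGr ℬ))
  {P : Type u} [AddCommGroup P] [Module T P] {𝒬 : ℤ → AddSubgroup P} [Decomposition 𝒬]
  [SetLike.GradedSMul (addGr 𝒯) 𝒬]
  (j : P →ₗ[T] (Seg ψ (GrLC.GMod.of (addGr 𝒜) M ℳ) Y).carrier)
  (hj : GrLC.IsGrHom 𝒬 (Seg ψ (GrLC.GMod.of (addGr 𝒜) M ℳ) Y).gr j) (hjb : Function.Bijective j)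

/-- The augmentation of a resolution as a map of graded modules. -/
def augM : (GrLC.GMod.of (addGr 𝒜) M ℳ).carrier →ₗ[R] (E.X 0).carrier := E.ε

/-- The Segre product of a resolution with a module. -/
noncomputable def unitRes : H4Gr.Res (addGr 𝒯) 𝒬 where
  X n := Seg ψ (E.X n) Y
  d n := segMap ψ (E.d n) (E.d_grHom n) LinearMap.id H4Gr.isGrHom_id
  ε := segMap ψ (augM E) E.ε_grHom (LinearMap.id : Y.carrier →ₗ[S] Y.carrier) H4Gr.isGrHom_id ∘ₗ j
  d_grHom n := isGrHom_segMap ψ _ _ _ _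
  ε_grHom g p hp := isGrHom_segMap ψ _ E.ε_grHom _ H4Gr.isGrHom_id g _ (hj g p hp)
  ε_injective a b hab := hjb.1 (segMap_injective ψ (f := augM E) E.ε_grHom H4Gr.isGrHom_id E.ε_injective Function.injective_id hab)
  exact_zero := by
    rw [LinearMap.range_comp_of_range_eq_top _ (LinearMap.range_eq_top.2 hjb.2)]
    exact LinearMap.exact_iff.1 (segMap_exact ψ Y E.ε_grHom (E.d_grHom 0) (LinearMap.exact_iff.2 E.exact_zero))
  exact_succ n :=
    LinearMap.exact_iff.1 (segMap_exact ψ Y (E.d_grHom n) (E.d_grHom (n + 1)) (LinearMap.exact_iff.2 (E.exact_succ n)))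

end Res

section Main

variable [IsNoetherianRing R] [IsNoetherianRing T]
  {M : Type u} [AddCommGroup M] [Module R M] {ℳ : ℤ → AddSubgroup M} [Decomposition ℳ]
  [SetLike.GradedSMul (addGr 𝒜) ℳ] (a : HomogeneousIdeal (addGr 𝒜)) (E : GrLC.StarInjRes (addGr 𝒜) ℳ)
  (haR : ∀ n : ℤ, 0 < n → ∀ x ∈ 𝒜 n, x ∈ a.toIdeal)
  {P : Type u} [AddCommGroup P] [Module T P] {𝒬 : ℤ → AddSubgroup P} [Decomposition 𝒬]
  [SetLike.GradedSMul (addGr 𝒯) 𝒬] (c : HomogeneousIdeal (addGr 𝒯))
  (haT : c.toIdeal = Ideal.span (⋃ n ∈ Set.Ioi (0 : ℤ), (𝒯 n : Set T))) (G : GrLC.StarInjRes (addGr 𝒯) 𝒬)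
  {r : ℕ} (f : Fin r → R) {D : ℤ} (hD : 0 < D) (hf : ∀ i, f i ∈ 𝒜 D)
  (hrad : a.toIdeal ≤ (Ideal.span (Set.range f)).radical)
  {b : S} (hb : b ∈ ℬ D) (Y : GrLC.GMod.{u} (addGr ℬ)) (hY : Function.Bijective fun y : Y.carrier => b • y)
  (j : P →ₗ[T] (Seg ψ (GrLC.GMod.of (addGr 𝒜) M ℳ) Y).carrier)
  (hj : GrLC.IsGrHom 𝒬 (Seg ψ (GrLC.GMod.of (addGr 𝒜) M ℳ) Y).gr j) (hjb : Function.Bijective j)

include hS haR haT hD hf hrad hb hY hj hjb in
/-- Local cohomology of a Segre product with a module on which an element of the parameters' degree is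
invertible. -/
theorem exists_H_seg_unit (q : ℕ) :
    ∃ L : G.H c q →+ E.H a q ⊗[k] Y.carrier, Function.Injective L ∧
      (∀ t h, L (t • h) = GrSeg.act k R S (E.H a q) Y.carrier (ψ t) (L h)) ∧
      ∀ n, L '' (G.Hgr c q n : Set (G.H c q)) = (GrSeg.segrePiece k (E.Hgr a q) Y.gr n : Set _) := by
  let RT := unitRes ψ E Y j hj hjb
  obtain ⟨φ, hdeg, hcomm, hcoc, hsurj, hinj0, hinj⟩ := exists_comparison c RT G
    (fun n i => acyclic_seg_unit ψ a.toIdeal haR c.toIdeal haT f hD hf hrad hb Y hY (E.starInj n) i)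
  have hTor : ∀ (n : ℕ) (z : (RT.X n).carrier), z ∈ GrLC.gam c.toIdeal (RT.X n).carrier ↔
      segVal ψ (E.X n) Y z ∈ torT a.toIdeal Y (E.X n) := fun n z =>
    mem_gam_seg_unit ψ a.toIdeal haR c.toIdeal haT f hD hf hrad hb Y hY (E.X n) z
  let C : Submodule R (E.X q).carrier := E.cocyc a q
  let B : Submodule R C := (E.cobdy a q).comap C.subtype
  let ι : C ⊗[k] Y.carrier →ₗ[k] (E.X q).carrier ⊗[k] Y.carrier := (C.subtype.restrictScalars k).rTensor Y.carrier
  have hι : Function.Injective ι :=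
    Module.Flat.rTensor_preserves_injective_linearMap _ Subtype.val_injective
  let π : C ⊗[k] Y.carrier →ₗ[k] E.H a q ⊗[k] Y.carrier := ((E.toH a q).restrictScalars k).rTensor Y.carrier
  have hπ : Function.Exact ((B.subtype.restrictScalars k).rTensor Y.carrier) π :=
    rTensor_exact Y.carrier (LinearMap.exact_subtype_mkQ B :) (Submodule.mkQ_surjective _)
  let Z : Submodule T (RT.X q).carrier := GrLC.gam c.toIdeal (RT.X q).carrier ⊓ LinearMap.ker (RT.d q)
  -- cocycles of the Segre complex come from cocycles of the resolution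
  have hZ : ∀ x : Z, ∃ v, ι v = segVal ψ (E.X q) Y x.1 := fun x => by
    obtain ⟨u, hu⟩ := (hTor q x.1).1 x.2.1
    let incl : C →ₗ[R] GrLC.gam a.toIdeal (E.X q).carrier :=
      LinearMap.codRestrict _ C.subtype fun z => z.2.1
    let δ : GrLC.gam a.toIdeal (E.X q).carrier →ₗ[R] (E.X (q + 1)).carrier :=
      E.d q ∘ₗ (GrLC.gam a.toIdeal (E.X q).carrier).subtype
    have hexδ : Function.Exact incl δ := fun z =>
      ⟨fun hz => ⟨⟨z.1, z.2, hz⟩, rfl⟩, fun ⟨w, hw⟩ => by rw [← hw]; exact LinearMap.mem_ker.1 w.2.2⟩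
    have h0 : (δ.restrictScalars k).rTensor Y.carrier u = 0 := by
      have h : tmap (E.d q) LinearMap.id (segVal ψ (E.X q) Y x.1) = 0 :=
        (congrArg (fun z : (RT.X (q + 1)).carrier => segVal ψ (E.X (q + 1)) Y z) (LinearMap.mem_ker.1 x.2.2)).trans (map_zero (segVal ψ (E.X (q + 1)) Y))
      rw [← hu] at h
      rw [show δ.restrictScalars k = (E.d q).restrictScalars k ∘ₗ
        (GrLC.gam a.toIdeal (E.X q).carrier).subtype.restrictScalars k from rfl, LinearMap.rTensor_comp]
      exact h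
    obtain ⟨v, hv⟩ := (Module.Flat.rTensor_exact Y.carrier
      (f := incl.restrictScalars k) (g := δ.restrictScalars k) hexδ u).1 h0
    refine ⟨v, ?_⟩
    rw [← hu, ← hv, ← LinearMap.comp_apply, ← LinearMap.rTensor_comp]
    rfl
  choose v hv using hZ
  have hvadd : ∀ x y, v (x + y) = v x + v y := fun x y => hι (by
    rw [map_add, hv, hv, hv]; exact map_add (segVal ψ (E.X q) Y) x.1 y.1)
  let L₀ : Z →+ E.H a q ⊗[k] Y.carrier := AddMonoidHom.mk' (fun x => π (v x)) fun x y => by rw [hvadd, map_add]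
  have hL₀smul : ∀ (t : T) (x : Z), L₀ (t • x) = GrSeg.act k R S (E.H a q) Y.carrier (ψ t) (L₀ x) := fun t x => by
    show π (v (t • x)) = _
    rw [show v (t • x) = GrSeg.act k R S C Y.carrier (ψ t) (v x) from hι (by
      rw [hv]
      refine (segVal_smul ψ (E.X q) Y t x.1).trans ?_
      rw [← hv]
      exact (map_act (C.subtype.restrictScalars k) LinearMap.id (fun _ _ => rfl) (fun _ _ => rfl) _ _).symm)]
    exact map_act ((E.toH a q).restrictScalars k) LinearMap.id (fun r m => map_smul (E.toH a q) r m)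
      (fun _ _ => rfl) _ _
  -- the comparison on classes
  let β : Z →ₗ[T] G.H c q :=
    G.toH c q ∘ₗ LinearMap.codRestrict (G.cocyc c q) (φ q ∘ₗ Z.subtype) fun x => hcoc q x.1 x.2.1 x.2.2
  have hβhom : ∀ (n : ℤ) (x : Z), x.1 ∈ (RT.X q).gr n → β x ∈ G.Hgr c q n := fun n x hx =>
    ⟨_, hdeg q n _ hx, rfl⟩
  have hβlift : ∀ (n : ℤ), ∀ h ∈ G.Hgr c q n, ∃ x : Z, x.1 ∈ (RT.X q).gr n ∧ β x = h := by
    rintro n h ⟨z, hz, rfl⟩
    obtain ⟨x, hx1, hx2, hx3, hx4⟩ := hsurj q n z hz
    exact ⟨⟨x, hx1, hx2⟩, hx3, (Submodule.Quotient.eq _).2 hx4⟩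
  have hβs : Function.Surjective β := fun h => by
    obtain ⟨z, rfl⟩ := Submodule.mkQ_surjective _ h
    have hhom : (G.cocyc c q).IsHomogeneous (G.X q).gr :=
      H4Gr.isHomogeneous_inf (H4Gr.isHomogeneous_gam c)
        (H4Gr.isHomogeneous_ker (H4Gr.isGrHomDeg_zero_iff.2 (G.d_grHom q)))
    obtain ⟨s, hs, -⟩ := H4Gr.exists_sum_proj (ℳ := (G.X q).gr) z.1
    have hzs : z = ∑ g ∈ s, ⟨H4Gr.proj (G.X q).gr g z.1, hhom g z.2⟩ :=
      Subtype.ext (by rw [AddSubmonoidClass.coe_finset_sum]; exact hs.symm)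
    rw [hzs, map_sum]
    have : ∀ g ∈ s, ∃ x, β x = G.toH c q ⟨H4Gr.proj (G.X q).gr g z.1, hhom g z.2⟩ := fun g _ =>
      ⟨(hβlift g _ ⟨_, H4Gr.proj_mem _ g _, rfl⟩).choose, (hβlift g _ ⟨_, H4Gr.proj_mem _ g _, rfl⟩).choose_spec.2⟩
    exact sum_mem (S := LinearMap.range β) this
  have hker : ∀ x : Z, β x = 0 ↔ L₀ x = 0 := by
    intro x
    have hb0 : β x = 0 ↔ φ q x.1 ∈ G.cobdy c q := Submodule.Quotient.mk_eq_zero _
    rw [hb0]
    cases q with
    | zero =>
      constructor
      · intro h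
        have hx0 : x = 0 := Subtype.ext (hinj0 x.1 x.2.2 ((Submodule.mem_bot T).1 h))
        rw [hx0, map_zero]
      · intro h
        obtain ⟨w, hw⟩ := (hπ (v x)).1 h
        have hB : B = ⊥ := (Submodule.eq_bot_iff _).2 fun z hz => Subtype.ext ((Submodule.mem_bot R).1 hz)
        have hw0 : ∀ w : B ⊗[k] Y.carrier, w = 0 := fun w => by
          induction w using TensorProduct.induction_on with
          | zero => rfl
          | tmul p y =>
            rw [show p = 0 from Subtype.ext ((Submodule.eq_bot_iff B).1 hB p.1 p.2 :), TensorProduct.zero_tmul]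
          | add p p' hp hp' => rw [hp, hp', add_zero]
        have hx0 : x.1 = 0 := segVal_injective ψ _ Y (((hv x).symm.trans (by rw [← hw, hw0 w, map_zero, map_zero])).trans (map_zero (segVal ψ (E.X 0) Y)).symm)
        rw [hx0, map_zero]
        exact zero_mem _
    | succ n =>
      constructor
      · intro h
        obtain ⟨y, hy, hyx⟩ := hinj n x.1 x.2.1 x.2.2 h
        obtain ⟨w, hw⟩ := (hTor n y).1 hy
        let γ : GrLC.gam a.toIdeal (E.X n).carrier →ₗ[R] C :=
          LinearMap.codRestrict _ (E.d n ∘ₗ (GrLC.gam a.toIdeal (E.X n).carrier).subtype) fun z =>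
            ⟨H4Gr.map_mem_gam (E.d n) z.2, (E.exact_succ n).ge ⟨z.1, rfl⟩⟩
        have hvx : v x = (γ.restrictScalars k).rTensor Y.carrier w := hι (by
          rw [hv, ← hyx]
          show tmap (E.d n) LinearMap.id (segVal ψ (E.X n) Y y) = _
          rw [← hw, ← LinearMap.comp_apply (f := ι), ← LinearMap.rTensor_comp]
          show ((E.d n).restrictScalars k).rTensor Y.carrier _ = _
          rw [← LinearMap.comp_apply, ← LinearMap.rTensor_comp]
          rfl)
        show π (v x) = 0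
        rw [hvx, ← LinearMap.comp_apply, ← LinearMap.rTensor_comp,
          show (E.toH a (n + 1)).restrictScalars k ∘ₗ γ.restrictScalars k = 0 from
            LinearMap.ext fun z => (Submodule.Quotient.mk_eq_zero _).2 ⟨z.1, z.2, rfl⟩,
          LinearMap.rTensor_zero, LinearMap.zero_apply]
      · intro h
        obtain ⟨w, hw⟩ := (hπ (v x)).1 h
        let G₀ := H4Gr.subMod (addGr 𝒜) (ℳ := (E.X n).gr) (GrLC.gam a.toIdeal (E.X n).carrier)
          (H4Gr.isHomogeneous_gam a)
        let incl : G₀.carrier →ₗ[R] (E.X n).carrier := H4Gr.subIncl (addGr 𝒜) (ℳ := (E.X n).gr) _ (H4Gr.isHomogeneous_gam a)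
        have hincl : GrLC.IsGrHom G₀.gr (E.X n).gr incl := H4Gr.isGrHom_subIncl _ _
        have hB : ∀ p : B, ∃ g : G₀.carrier, E.d n (incl g) = p.1.1 := fun p => by
          obtain ⟨g, hg, hgp⟩ := p.2
          exact ⟨⟨g, hg⟩, hgp⟩
        have hlift : ∀ w, ∃ u, tmap (E.d n ∘ₗ incl) (LinearMap.id : Y.carrier →ₗ[S] _) u =
            ι ((B.subtype.restrictScalars k).rTensor Y.carrier w) := fun w => by
          induction w using TensorProduct.induction_on with
          | zero => exact ⟨0, by simp only [map_zero]⟩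
          | tmul p y =>
            obtain ⟨g, hg⟩ := hB p
            refine ⟨g ⊗ₜ[k] y, ?_⟩
            show E.d n (incl g) ⊗ₜ[k] y = p.1.1 ⊗ₜ[k] y
            rw [hg]
          | add p p' hp hp' =>
            obtain ⟨u, hu⟩ := hp; obtain ⟨u', hu'⟩ := hp'
            exact ⟨u + u', by simp only [map_add, hu, hu']⟩
        obtain ⟨u, hu⟩ := hlift w
        rw [hw, hv] at hu
        let y' : (Seg ψ G₀ Y).carrier := segMk ψ G₀ Y (H4Segre.diag 𝒜 G₀.gr ℬ Y.gr u) (H4Segre.diag_mem_iSup 𝒜 G₀.gr ℬ Y.gr u)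
        let y : (RT.X n).carrier := segMap ψ incl hincl LinearMap.id H4Gr.isGrHom_id y'
        have hy : y ∈ GrLC.gam c.toIdeal (RT.X n).carrier := (hTor n y).2 ⟨segVal ψ G₀ Y y', rfl⟩
        have hyx : RT.d n y = x.1 := segVal_injective ψ _ Y (by
          show tmap (E.d n) LinearMap.id (tmap incl LinearMap.id (H4Segre.diag 𝒜 G₀.gr ℬ Y.gr u)) = _
          rw [← diag_tmap hincl H4Gr.isGrHom_id, ← diag_tmap (E.d_grHom n) H4Gr.isGrHom_id]
          refine Eq.trans ?_ (H4Segre.diag_of_mem_iSup 𝒜 (E.X (n + 1)).gr ℬ Y.gr (segVal_mem ψ _ Y x.1))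
          congr 1
          rw [← hu]
          show ((E.d n).restrictScalars k).rTensor Y.carrier ((incl.restrictScalars k).rTensor Y.carrier u) = _
          rw [← LinearMap.comp_apply, ← LinearMap.rTensor_comp]
          rfl)
        rw [← hyx, hcomm]
        exact ⟨φ n y, H4Gr.map_mem_gam _ hy, rfl⟩
  choose σ hσ using hβs
  have hLval : ∀ x : Z, L₀ (σ (β x)) = L₀ x := fun x => by
    rw [← sub_eq_zero, ← map_sub, ← hker, map_sub, hσ, sub_self]
  let L : G.H c q →+ E.H a q ⊗[k] Y.carrier := AddMonoidHom.mk' (fun h => L₀ (σ h)) fun h h' => by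
    rw [← map_add, ← hLval (σ h + σ h'), map_add, hσ, hσ]
  refine ⟨L, (injective_iff_map_eq_zero L).2 fun h hh => (hσ h).symm.trans ((hker _).2 hh), fun t h => ?_, fun n => ?_⟩
  · show L₀ (σ (t • h)) = _
    conv_lhs => rw [← hσ h, ← map_smul, hLval, hL₀smul]
    rfl
  have hx : ∀ x : Z, L (β x) = π (v x) := hLval
  apply subset_antisymm
  · rintro _ ⟨h, hh, rfl⟩
    obtain ⟨x, hxn, rfl⟩ := hβlift n h hh
    rw [hx, SetLike.mem_coe]
    have hhom : C.IsHomogeneous (E.X q).gr :=
      H4Gr.isHomogeneous_inf (H4Gr.isHomogeneous_gam a)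
        (H4Gr.isHomogeneous_ker (H4Gr.isGrHomDeg_zero_iff.2 (E.d_grHom q)))
    have hsm : ∀ (r : k) (z : (E.X q).carrier) , H4Gr.proj (E.X q).gr n (r • z) = r • H4Gr.proj (E.X q).gr n z :=
      fun r z => by
        refine (H4Gr.proj_smul (𝒜 := addGr 𝒜) (SetLike.algebraMap_mem_graded 𝒜 r) n z).trans ?_
        rw [sub_zero]; rfl
    have hsm' : ∀ (r : k) (z : Y.carrier) , H4Gr.proj Y.gr n (r • z) = r • H4Gr.proj Y.gr n z := fun r z => by
        refine (H4Gr.proj_smul (𝒜 := addGr ℬ) (SetLike.algebraMap_mem_graded ℬ r) n z).trans ?_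
        rw [sub_zero]; rfl
    let pX : (E.X q).carrier →ₗ[k] (E.X q).carrier := { H4Gr.proj (E.X q).gr n with map_smul' := hsm }
    let pY : Y.carrier →ₗ[k] Y.carrier := { H4Gr.proj Y.gr n with map_smul' := hsm' }
    let pC : C →ₗ[k] C :=
      LinearMap.codRestrict (C.restrictScalars k) (pX ∘ₗ C.subtype.restrictScalars k) fun z => hhom n z.2
    have h1 : ι (TensorProduct.map pC pY (v x)) = ι (v x) := by
      have h2 : ∀ w, ι (TensorProduct.map pC pY w) = TensorProduct.map pX pY (ι w) := fun w => by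
        induction w using TensorProduct.induction_on with
        | zero => simp only [map_zero]
        | add p p' hp hp' => simp only [map_add, hp, hp']
        | tmul p y => rfl
      rw [h2, hv]
      have h3 : ∀ w ∈ GrSeg.segrePiece k (E.X q).gr Y.gr n, TensorProduct.map pX pY w = w := fun w hw => by
        induction hw using Submodule.span_induction with
        | mem w hw =>
          obtain ⟨p, hp, y, hy, rfl⟩ := hw
          rw [TensorProduct.map_tmul]
          exact congrArg₂ (· ⊗ₜ[k] ·) (H4Gr.proj_same hp) (H4Gr.proj_same hy)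
        | zero => exact map_zero _
        | add p p' _ _ hp hp' => rw [map_add, hp, hp']
        | smul r p _ hp => rw [map_smul, hp]
      exact h3 _ hxn
    rw [← hι h1]
    generalize v x = w
    induction w using TensorProduct.induction_on with
    | zero => simp only [map_zero]; exact zero_mem _
    | add p p' hp hp' => simp only [map_add]; exact add_mem hp hp'
    | tmul p y => exact Submodule.subset_span ⟨_, ⟨pC p, H4Gr.proj_mem _ n p.1, rfl⟩, _, H4Gr.proj_mem _ n y, rfl⟩
  · intro w hw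
    rw [SetLike.mem_coe] at hw
    have : ∀ w ∈ GrSeg.segrePiece k (E.Hgr a q) Y.gr n, ∃ x : Z, x.1 ∈ (RT.X q).gr n ∧ π (v x) = w := fun w hw => by
      induction hw using Submodule.span_induction with
      | mem w hw =>
        obtain ⟨_, ⟨z, hz, rfl⟩, y, hy, rfl⟩ := hw
        have hm : (z.1 ⊗ₜ[k] y : (E.X q).carrier ⊗[k] Y.carrier) ∈ GrSeg.segrePiece k (E.X q).gr Y.gr n :=
          Submodule.subset_span ⟨z.1, hz, y, hy, rfl⟩
        let x : (RT.X q).carrier := segMk ψ (E.X q) Y (z.1 ⊗ₜ[k] y) (Submodule.mem_iSup_of_mem n hm)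
        have hx1 : x ∈ GrLC.gam c.toIdeal (RT.X q).carrier := (hTor q x).2 ⟨⟨z.1, z.2.1⟩ ⊗ₜ[k] y, rfl⟩
        have hx2 : RT.d q x = 0 := segVal_injective ψ _ Y (by
          refine Eq.trans ?_ (map_zero (segVal ψ (E.X (q + 1)) Y)).symm
          show E.d q z.1 ⊗ₜ[k] y = 0
          rw [LinearMap.mem_ker.1 z.2.2, TensorProduct.zero_tmul])
        refine ⟨⟨x, hx1, hx2⟩, hm, ?_⟩
        rw [show v ⟨x, hx1, hx2⟩ = z ⊗ₜ[k] y from hι ((hv _).trans rfl)]
        rfl
      | zero => exact ⟨0, zero_mem _, by rw [show π (v 0) = L₀ 0 from rfl, map_zero]⟩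
      | add p p' _ _ hp hp' =>
        obtain ⟨x, hxn, rfl⟩ := hp; obtain ⟨x', hxn', rfl⟩ := hp'
        exact ⟨x + x', add_mem hxn hxn', by rw [hvadd, map_add]⟩
      | smul r p _ hp =>
        obtain ⟨x, hxn, rfl⟩ := hp
        refine ⟨algebraMap k T r • x, ?_, ?_⟩
        · have := H4Gr.smul_mem (addGr 𝒯) (SetLike.algebraMap_mem_graded 𝒯 r) hxn
          rwa [zero_add] at this
        · exact (hL₀smul _ x).trans (act_one_smul ψ r _)
    obtain ⟨x, hxn, rfl⟩ := this w hw
    exact ⟨β x, hβhom n x hxn, hx x⟩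

end Main

end Groth.Agent.H4KS
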